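-- No simple group of order 5400.
--
-- * `card_ne`
import Cfsg.Agent.Lib.SmallOrders.CandList
import Cfsg.Agent.Lib.SmallOrders.Tools
import Cfsg.Agent.Lib.SmallOrders.SqSylow
import Cfsg.Agent.Lib.Involution.IndexTwo

set_option autoImplicit false

namespace Cfsg.Agent.SmallOrders.O5400

open Subgroup

variable {G : Type*} [Group G] [Finite G]

theorem odd_sylow_two_conj {H : Type*} [Group H] [Finite H] {t : ℕ} (hH : Nat.card H = 2 * t)
    (ht : ¬ 2 ∣ t) {a b : H} (ha : orderOf a = 2) (hb : orderOf b = 2) : IsConj a b := by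
  have : Fact (Nat.Prime 2) := ⟨Nat.prime_two⟩
  have hP : ∀ P : Sylow 2 H, Nat.card (P : Subgroup H) = 2 := fun P => by
    rw [card_sylow_subgroup (p := 2) (e := 1) (m := t) (by rw [hH, pow_one]) ht P, pow_one]
  obtain ⟨P, hPa⟩ := exists_sylow_eq_zpowers hP ha
  obtain ⟨Q, hQb⟩ := exists_sylow_eq_zpowers hP hb
  obtain ⟨g, hg⟩ := MulAction.exists_smul_eq H P Q
  have hz : zpowers b = (zpowers a).map (MulAut.conj g).toMonoidHom := by
    rw [← hQb, ← hPa, ← hg]; rfl
  obtain ⟨u, hu, hub⟩ := (Subgroup.mem_map (f := (MulAut.conj g).toMonoidHom)).mp (hz ▸ mem_zpowers b)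
  obtain ⟨k, rfl⟩ := mem_zpowers_iff.mp hu
  refine isConj_iff.mpr ⟨g, ?_⟩
  rcases Int.emod_two_eq_zero_or_one k with hk | hk
  · exfalso
    rw [show a ^ k = 1 from orderOf_dvd_iff_zpow_eq_one.mp (by rw [ha]; exact_mod_cast Int.dvd_of_emod_eq_zero hk),
      map_one] at hub
    rw [← hub, orderOf_one] at hb
    norm_num at hb
  · have h1 : a ^ k = a := by
      rw [← zpow_mod_orderOf, ha, show k % ((2 : ℕ) : ℤ) = 1 from hk, zpow_one]
    rw [← hub, h1]
    rfl

/-- an order `2 t` with one Sylow `5`-subgroup in every group of order `t` -/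
theorem card_sylow_five_eq_one {M : Type*} [Group M] [Finite M] [Fact (Nat.Prime 5)] {t : ℕ}
    (hM : Nat.card M = 2 * (25 * t)) (ht : t = 3 ∨ t = 9) : Nat.card (Sylow 5 M) = 1 := by
  have : Fact (Nat.Prime 2) := ⟨Nat.prime_two⟩
  obtain ⟨T⟩ := (inferInstance : Nonempty (Sylow 2 M))
  have hT : Nat.card (T : Subgroup M) = 2 := by
    rw [card_sylow_subgroup (p := 2) (e := 1) (m := 25 * t) (by rw [hM, pow_one]) (by omega) T, pow_one]
  obtain ⟨H, hH⟩ := Cfsg.Agent.Involution.exists_index_two (G := M) ⟨25 * t, by omega⟩ T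
    (isCyclic_of_prime_card (p := 2) hT)
  have hHn : H.Normal := Subgroup.normal_of_index_eq_two hH
  have hHc : Nat.card H = 25 * t := by
    have := H.card_mul_index
    rw [hH, hM] at this
    omega
  have h5 : ∀ P : Sylow 5 M, (P : Subgroup M) ≤ H := fun P a ha => by
    have hc : Nat.card (P : Subgroup M) = 25 := by
      rw [card_sylow_subgroup (p := 5) (e := 2) (m := 2 * t) (by rw [hM]; ring) (by omega) P]; norm_num
    have h25 : a ^ 25 = 1 := orderOf_dvd_iff_pow_eq_one.mp (hc ▸ orderOf_dvd_natCard _ ha)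
    have h2 := sq_mem_of_index_two hH a
    have h26 := pow_mem h2 13
    rwa [← pow_mul, show 2 * 13 = 25 + 1 by norm_num, pow_succ, h25, one_mul] at h26
  have hn : Nat.card (Sylow 5 H) = 1 := by
    obtain ⟨R⟩ := (inferInstance : Nonempty (Sylow 5 H))
    have h1 : Nat.card (Sylow 5 H) ∣ t :=
      index_sylow (p := 5) (e := 2) (m := t) (by rw [hHc]; ring) (by omega) R ▸ R.card_dvd_index
    have h2 : Nat.card (Sylow 5 H) ≡ 1 [MOD 5] := card_sylow_modEq_one 5 H
    have h3 := Nat.le_of_dvd (by omega) h1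
    unfold Nat.ModEq at h2
    rcases ht with rfl | rfl <;>
      interval_cases hc : Nat.card (Sylow 5 H) <;> simp_all
  have : Subsingleton (Sylow 5 H) := Finite.card_le_one_iff_subsingleton.mp hn.le
  refine le_antisymm (Finite.card_le_one_iff_subsingleton.mpr ⟨fun P Q => ?_⟩) Nat.card_pos
  exact Sylow.subtype_injective (Subsingleton.elim (P.subtype (h5 P)) (Q.subtype (h5 Q)))

variable [IsSimpleGroup G]

/-- a proper subgroup with several Sylow `5`-subgroups of `G` -/
theorem card_of_two_sylow [Fact (Nat.Prime 5)] (hG : ¬ IsMulCommutative G) (h : Nat.card G = 5400)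
    {M : Subgroup G} (hM : M ≠ ⊤) {P R : Sylow 5 G} (hPR : P ≠ R) (hPM : (P : Subgroup G) ≤ M)
    (hRM : (R : Subgroup G) ≤ M) : Nat.card M = 300 ∧ Nat.card (Sylow 5 M) = 6 := by
  have hP : Nat.card (P : Subgroup G) = 25 := by
    rw [card_sylow_subgroup (p := 5) (e := 2) (m := 216) (by rw [h]; norm_num) (by norm_num) P]; norm_num
  obtain ⟨t, ht⟩ : 25 ∣ Nat.card M := hP ▸ card_dvd_of_le hPM
  have hidx := le_index_of_facBool hG h 10 (by decide +kernel) hM
  have hmul := M.card_mul_index
  rw [ht, h] at hmul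
  have ht21 : t ≤ 21 := by
    by_contra hgt
    have := Nat.mul_le_mul (Nat.mul_le_mul_left 25 (Nat.not_le.mp hgt)) hidx
    omega
  have ht216 : t ∣ 216 := ⟨M.index, by rw [mul_assoc] at hmul; omega⟩
  have h5 : ¬ 5 ∣ t := fun h5 => by
    have := h5.trans ht216
    norm_num at this
  have hdvd : Nat.card (Sylow 5 M) ∣ t :=
    index_sylow (p := 5) (e := 2) (m := t) (by rw [ht]; norm_num) h5 (P.subtype hPM) ▸
      (P.subtype hPM).card_dvd_index
  have hne : Nat.card (Sylow 5 M) ≠ 1 := fun h1 => by
    have : Subsingleton (Sylow 5 M) := Finite.card_le_one_iff_subsingleton.mp h1.le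
    exact hPR (Sylow.subtype_injective (Subsingleton.elim (P.subtype hPM) (R.subtype hRM)))
  have hmod : Nat.card (Sylow 5 M) % 5 = 1 := (card_sylow_modEq_one 5 M : _)
  have ht0 : 0 < t := Nat.pos_of_dvd_of_pos ht216 (by norm_num)
  have hn : Nat.card (Sylow 5 M) ≤ t := Nat.le_of_dvd ht0 hdvd
  set k := Nat.card (Sylow 5 M)
  have hk216 := hdvd.trans ht216
  have hk6 : k = 6 := by
    rcases (show k = 6 ∨ k = 11 ∨ k = 16 ∨ k = 21 by omega) with e | e | e | e
    · exact e
    all_goals (rw [e] at hk216; norm_num at hk216)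
  have ht' : t = 6 ∨ t = 12 ∨ t = 18 := by
    obtain ⟨q, hq⟩ := hk6 ▸ hdvd
    omega
  rcases ht' with rfl | rfl | rfl
  · exact absurd (card_sylow_five_eq_one (M := M) (t := 3) ht (Or.inl rfl)) hne
  · exact ⟨ht, hk6⟩
  · exact absurd (card_sylow_five_eq_one (M := M) (t := 9) ht (Or.inr rfl)) hne

theorem card_ne : Nat.card G ≠ 5400 := by
  classical
  intro h
  have hG : ¬ IsMulCommutative G := not_isMulCommutative_of_card (by rw [h]; norm_num)
  have : Fact (Nat.Prime 5) := ⟨by norm_num⟩
  have : Fact (Nat.Prime 2) := ⟨Nat.prime_two⟩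
  have hn : Nat.card (Sylow 5 G) = 36 := by
    simpa using mem_of_candBool hG h 5 2 [36] (by decide +kernel)
  have hP : ∀ P : Sylow 5 G, Nat.card (P : Subgroup G) = 5 ^ 2 :=
    card_sylow_subgroup (p := 5) (e := 2) (m := 216) (by rw [h]; norm_num) (by norm_num)
  -- two Sylow subgroups meeting in `D`
  obtain ⟨P, R, hPR, hidx⟩ := exists_pair_index_le (G := G) 5 2 (by rw [hn]; decide)
  set D := (P : Subgroup G) ⊓ (R : Subgroup G) with hD
  have hD5 : Nat.card D = 5 := by
    have h1 := ((R : Subgroup G).subgroupOf (P : Subgroup G)).card_mul_index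
    rw [← inf_subgroupOf_left, Nat.card_congr (subgroupOfEquivOfLe (inf_le_left : D ≤ P)).toEquiv, hP] at h1
    obtain ⟨k, hk, hk'⟩ := (Nat.dvd_prime_pow (by norm_num : Nat.Prime 5)).mp ⟨_, h1.symm⟩
    rcases (show k = 0 ∨ k = 1 ∨ k = 2 by omega) with rfl | rfl | rfl
    · rw [hk', pow_zero, one_mul, inf_subgroupOf_left] at h1
      rw [h1] at hidx
      norm_num at hidx
    · rw [hk', pow_one]
    · exact absurd (eq_of_le_of_card_ge inf_le_left (by rw [hk', hP])) (inf_lt_left hPR).ne
  obtain ⟨d, hd⟩ := exists_prime_orderOf_dvd_card' (G := D) 5 (by rw [hD5])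
  set x : G := (d : G) with hxdef
  have hx : orderOf x = 5 := by rw [hxdef, orderOf_coe, hd]
  have hle : ∀ S : Sylow 5 G, x ∈ (S : Subgroup G) → (S : Subgroup G) ≤ centralizer ({x} : Set G) :=
    fun S hxS g hg => mem_centralizer_singleton_iff.mpr (by
      have : IsMulCommutative (S : Subgroup G) := IsPGroup.isMulCommutative_of_card_eq_prime_sq (hP S)
      exact congrArg Subtype.val (mul_comm' (⟨g, hg⟩ : (S : Subgroup G)) ⟨x, hxS⟩))
  have hx1 : x ≠ 1 := fun e => by rw [e, orderOf_one] at hx; norm_num at hx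
  set N := normalizer (zpowers x : Set G)
  have hCN : centralizer ({x} : Set G) ≤ N := by
    rw [← centralizer_zpowers]; exact centralizer_le_normalizer _
  have hNtop : N ≠ ⊤ := by
    intro ht
    rcases (normalizer_eq_top_iff.mp ht).eq_bot_or_eq_top with hb | ht'
    · exact hx1 (mem_bot.mp (hb ▸ mem_zpowers x))
    · have := Nat.card_zpowers x
      rw [ht', card_top, h, hx] at this
      norm_num at this
  have hPC := hle P (inf_le_left (b := (R : Subgroup G)) d.2)
  have hRC := hle R (inf_le_right (a := (P : Subgroup G)) d.2)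
  obtain ⟨hN, hNk⟩ := card_of_two_sylow hG h hNtop hPR (hPC.trans hCN) (hRC.trans hCN)
  have hC := (card_of_two_sylow hG h (fun e => hNtop (eq_top_iff.mpr (e ▸ hCN))) hPR hPC hRC).1
  have hNC : N = centralizer ({x} : Set G) := (eq_of_le_of_card_ge hCN (by rw [hN, hC])).symm
  -- an involution of `N` normalising `P`
  set P' := P.subtype (hPC.trans hCN)
  have hNP := card_normalizer_mul_card_sylow P'
  rw [hNk, hN] at hNP
  obtain ⟨z', hz'⟩ := exists_prime_orderOf_dvd_card' (G := normalizer ((P' : Subgroup N) : Set N)) 2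
    (by rw [show Nat.card (normalizer ((P' : Subgroup N) : Set N)) = 50 by omega]; norm_num)
  set z : G := ((z' : N) : G) with hzdef
  have hz : orderOf z = 2 := by rw [hzdef, orderOf_coe, orderOf_coe, hz']
  have hzx : z * x = x * z := mem_centralizer_singleton_iff.mp (hNC ▸ (z' : N).2)
  have hzP : z ∈ normalizer ((P : Subgroup G) : Set G) := by
    rw [mem_normalizer_iff]
    intro a
    constructor
    · intro ha
      have h2 := (mem_normalizer_iff.mp z'.2 ⟨a, hPC.trans hCN ha⟩).mp
        (show (a : G) ∈ (P : Subgroup G) from ha)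
      exact h2
    · intro ha
      have haN : a ∈ N := by
        have h2 := mul_mem (mul_mem (inv_mem (z' : N).2) (hPC.trans hCN ha)) (z' : N).2
        simpa [hzdef, mul_assoc] using h2
      have h2 := (mem_normalizer_iff.mp z'.2 ⟨a, haN⟩).mpr ha
      exact h2
  -- `z` fixes `|C(z) : C(z) ∩ N(P)|` Sylow subgroups
  set C := centralizer ({z} : Set G)
  set NP := normalizer ((P : Subgroup G) : Set G)
  have hNPc : Nat.card NP = 2 * 75 := by
    have h1 : Nat.card NP * Nat.card (Sylow 5 G) = Nat.card G := card_normalizer_mul_card_sylow P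
    rw [hn, h] at h1
    omega
  have hzz : z * z = 1 := by rw [← pow_two, ← hz, pow_orderOf_eq_one]
  have hfix : ∀ S : Sylow 5 G, z • S = S ↔ S ∈ MulAction.orbit C P := by
    intro S
    constructor
    · intro hS
      obtain ⟨g, rfl⟩ := MulAction.exists_smul_eq G P S
      have h1 : g⁻¹ * z * g ∈ NP := by
        show g⁻¹ * z * g ∈ normalizer ((P : Subgroup G) : Set G)
        refine Sylow.smul_eq_iff_mem_normalizer.mp ?_
        rw [mul_smul, mul_smul, hS, inv_smul_smul]
      have h2 : orderOf (⟨g⁻¹ * z * g, h1⟩ : NP) = 2 := by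
        rw [← orderOf_coe]
        have := orderOf_injective (MulAut.conj g⁻¹).toMonoidHom (MulAut.conj g⁻¹).injective z
        simpa [hz] using this
      obtain ⟨n, hn'⟩ := isConj_iff.mp (odd_sylow_two_conj hNPc (by norm_num)
        (a := (⟨z, hzP⟩ : NP)) (by rw [← orderOf_coe]; exact hz) h2)
      have h3 : (n : G) * z * (n : G)⁻¹ = g⁻¹ * z * g := congrArg Subtype.val hn'
      refine ⟨⟨g * n, mem_centralizer_singleton_iff.mpr ?_⟩, ?_⟩
      · calc g * n * z = g * ((n : G) * z * (n : G)⁻¹) * n := by group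
          _ = z * (g * n) := by rw [h3]; group
      · show (g * n : G) • P = g • P
        rw [mul_smul, Sylow.smul_eq_iff_mem_normalizer.mpr n.2]
    · rintro ⟨⟨c, hc⟩, rfl⟩
      show z • c • P = c • P
      rw [smul_smul, show z * c = c * z from (mem_centralizer_singleton_iff.mp hc).symm, mul_smul,
        Sylow.smul_eq_iff_mem_normalizer.mpr hzP]
  have : Fintype (Sylow 5 G) := Fintype.ofFinite _
  set σ : Equiv.Perm (Sylow 5 G) := MulAction.toPerm z
  have h4 : 4 ∣ σ.support.card := four_dvd_card_moved σ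
    (Equiv.ext fun S => by show z • z • S = S; rw [smul_smul, hzz, one_smul])
    (sign_toPerm_eq_one hG z)
  set f := Nat.card (MulAction.orbit C P)
  have hf : f + σ.support.card = 36 := by
    rw [← hn, Nat.card_eq_fintype_card, ← Finset.card_univ, show f =
      (Finset.univ.filter fun S => z • S = S).card by
        rw [← Nat.card_eq_finsetCard]
        exact Nat.card_congr (Equiv.subtypeEquivRight fun S => by simp [hfix]),
      ← Finset.card_filter_add_card_filter_not (s := Finset.univ) (fun S : Sylow 5 G => z • S = S)]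
    congr 1
  set c := Nat.card (MulAction.stabilizer C P)
  have hfc : f * c = Nat.card C := by
    have := (MulAction.stabilizer C P).card_mul_index
    rw [MulAction.index_stabilizer] at this
    rw [← this, mul_comm, ← Nat.card_coe_set_eq]
  have hc2 : 2 ∣ c := by
    have hmem : (⟨z, mem_centralizer_self z⟩ : C) ∈ MulAction.stabilizer C P := by
      rw [MulAction.mem_stabilizer_iff]
      exact Sylow.smul_eq_iff_mem_normalizer.mpr hzP
    have := orderOf_dvd_natCard _ hmem
    rwa [← orderOf_coe, hz] at this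
  have h8 : 8 ∣ Nat.card C := by
    obtain ⟨a, ha⟩ : 4 ∣ f := by omega
    obtain ⟨b, hb⟩ := hc2
    exact ⟨a * b, by rw [← hfc, ha, hb]; ring⟩
  have hxC : x ∈ C := mem_centralizer_singleton_iff.mpr hzx.symm
  have h5C : 5 ∣ Nat.card C := hx ▸ orderOf_dvd_natCard _ hxC
  have hCtop : C ≠ ⊤ := fun e => by
    have hzc : z ∈ center G := mem_center_iff.mpr fun g =>
      mem_centralizer_singleton_iff.mp (show g ∈ C from e.symm ▸ mem_top g)
    rw [center_eq_bot hG, mem_bot] at hzc
    rw [hzc, orderOf_one] at hz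
    norm_num at hz
  have hidx' := le_index_of_facBool hG h 10 (by decide +kernel) hCtop
  have hmul := C.card_mul_index
  rw [h] at hmul
  by_cases h25 : 25 ∣ Nat.card C
  · -- a normal Sylow subgroup of `C`
    obtain ⟨t, ht⟩ : 200 ∣ Nat.card C :=
      Nat.Coprime.mul_dvd_of_dvd_of_dvd (by norm_num : Nat.Coprime 8 25) h8 h25
    rw [ht] at hmul
    have ht2 : t ≤ 2 := by
      by_contra hgt
      have := Nat.mul_le_mul (Nat.mul_le_mul_left 200 (Nat.not_le.mp hgt)) hidx'
      omega
    have ht1 : t = 1 := by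
      rcases (show t = 0 ∨ t = 1 ∨ t = 2 by omega) with rfl | rfl | rfl
      · simp at hmul
      · rfl
      · omega
    subst ht1
    obtain ⟨S⟩ := (inferInstance : Nonempty (Sylow 5 C))
    have hSc : Nat.card (S : Subgroup C) = 25 := by
      rw [card_sylow_subgroup (p := 5) (e := 2) (m := 8) (by rw [ht]; norm_num) (by norm_num) S]; norm_num
    obtain ⟨T, hT⟩ := (S.isPGroup'.map C.subtype).exists_le_sylow
    have hTe : (S : Subgroup C).map C.subtype = (T : Subgroup G) := eq_of_le_of_card_ge hT (by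
      rw [hP T, card_map_of_injective C.subtype_injective, hSc]; norm_num)
    have h1 : Nat.card (Sylow 5 C) = 1 := by
      have h1 : Nat.card (Sylow 5 C) ∣ 8 :=
        index_sylow (p := 5) (e := 2) (m := 8) (by rw [ht]; norm_num) (by norm_num) S ▸ S.card_dvd_index
      have h2 : Nat.card (Sylow 5 C) % 5 = 1 := (card_sylow_modEq_one 5 C : _)
      have := Nat.le_of_dvd (by norm_num) h1
      interval_cases hh : Nat.card (Sylow 5 C) <;> omega
    have hle' := le_normalizer_of_card_sylow_one (P := T) (hTe ▸ map_subtype_le _) h1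
    have h3 := card_dvd_of_le hle'
    have h4 := card_normalizer_mul_card_sylow T
    rw [hn, h] at h4
    rw [ht, show Nat.card (normalizer ((T : Subgroup G) : Set G)) = 150 by omega] at h3
    norm_num at h3
  · -- `x` centralises a Sylow 2-subgroup of `C`
    set x' : C := ⟨x, hxC⟩
    have hx' : orderOf x' = 5 := by rw [← orderOf_coe]; exact hx
    have hS5 : ∀ S : Sylow 5 C, Nat.card (S : Subgroup C) = 5 := by
      obtain ⟨m, hm⟩ := h5C
      intro S
      rw [card_sylow_subgroup (p := 5) (e := 1) (m := m) (by rw [hm, pow_one])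
        (fun hd => h25 (hm ▸ mul_dvd_mul_left 5 hd)) S, pow_one]
    obtain ⟨S, hS⟩ := exists_sylow_eq_zpowers hS5 hx'
    have hNle : normalizer ((S : Subgroup C) : Set C) ≤ centralizer ((S : Subgroup C) : Set C) := by
      intro g hg
      rw [hS] at hg
      rw [hS, centralizer_zpowers, mem_centralizer_singleton_iff]
      have hgN : (g : G) ∈ N := by
        rw [mem_normalizer_iff]
        intro a
        have key : ∀ g : C, g ∈ normalizer (zpowers x' : Set C) → ∀ a ∈ zpowers x,
            (g : G) * a * (g : G)⁻¹ ∈ zpowers x := by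
          intro g hg a ha
          obtain ⟨k, rfl⟩ := mem_zpowers_iff.mp ha
          obtain ⟨i, hi⟩ := mem_zpowers_iff.mp
            ((mem_normalizer_iff.mp hg (x' ^ k)).mp (zpow_mem (mem_zpowers x') k))
          exact mem_zpowers_iff.mpr ⟨i, by simpa using congrArg Subtype.val hi⟩
        refine ⟨key g hg a, fun ha => ?_⟩
        have h6 := key g⁻¹ (inv_mem hg) _ ha
        rwa [coe_inv, inv_inv, show (g : G)⁻¹ * ((g : G) * a * (g : G)⁻¹) * (g : G) = a by group] at h6
      exact Subtype.ext (mem_centralizer_singleton_iff.mp (hNC ▸ hgN))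
    have hK := MonoidHom.ker_transferSylow_isComplement' S hNle
    set K := (MonoidHom.transferSylow S hNle).ker
    have hKc := hK.card_mul
    rw [hS5 S] at hKc
    obtain ⟨T⟩ := (inferInstance : Nonempty (Sylow 2 K))
    set H := zpowers x'
    have hn2 : ¬ 5 ∣ Nat.card (Sylow 2 K) := fun hd => h25 (by
      have h7 := (hd.trans T.card_dvd_index).trans (T : Subgroup K).index_dvd_card
      rw [← hKc]
      exact mul_dvd_mul h7 (dvd_refl 5))
    have hKn : K.Normal := MonoidHom.normal_ker _
    -- Sylow subgroups of `C` lie in `K`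
    have h2K : ∀ U : Sylow 2 C, (U : Subgroup C) ≤ K := fun U a ha => by
      rw [MonoidHom.mem_ker]
      have h7 := orderOf_map_dvd (MonoidHom.transferSylow S hNle) a
      have h8' := orderOf_dvd_natCard ((MonoidHom.transferSylow S hNle) a)
      rw [hS5 S] at h8'
      obtain ⟨k, hk⟩ := IsPGroup.iff_orderOf.mp U.isPGroup' ⟨a, ha⟩
      rw [← orderOf_coe] at hk
      exact orderOf_eq_one_iff.mp (Nat.eq_one_of_dvd_coprimes
        (Nat.Coprime.pow_right k (by norm_num : Nat.Coprime 5 2)) h8' (hk ▸ h7))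
    have hcardeq : Nat.card (Sylow 2 C) ≤ Nat.card (Sylow 2 K) :=
      Nat.card_le_card_of_injective (fun U => U.subtype (h2K U)) fun U V e => Sylow.subtype_injective e
    have hcard2 : ¬ 5 ∣ Nat.card (Sylow 2 C) := by
      intro hd
      obtain ⟨U⟩ := (inferInstance : Nonempty (Sylow 2 C))
      have hUK : Nat.card (U.subtype (h2K U) : Subgroup K) = Nat.card (U : Subgroup C) := by
        rw [U.coe_subtype, Nat.card_congr (subgroupOfEquivOfLe (h2K U)).toEquiv]
      have hge : Nat.card (Sylow 2 K) ≤ Nat.card (Sylow 2 C) := by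
        refine Nat.card_le_card_of_injective (fun V : Sylow 2 K =>
          ((V.isPGroup'.map K.subtype).exists_le_sylow).choose) fun V W e => ?_
        have hV := ((V.isPGroup'.map K.subtype).exists_le_sylow).choose_spec
        have hW := ((W.isPGroup'.map K.subtype).exists_le_sylow).choose_spec
        simp only at e
        rw [e] at hV
        set X := ((W.isPGroup'.map K.subtype).exists_le_sylow).choose
        have hV' : (V : Subgroup K) ≤ (X : Subgroup C).subgroupOf K := fun a ha =>
          mem_subgroupOf.mpr (hV (mem_map_of_mem _ ha))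
        have hW' : (W : Subgroup K) ≤ (X : Subgroup C).subgroupOf K := fun a ha =>
          mem_subgroupOf.mpr (hW (mem_map_of_mem _ ha))
        have hXp := X.isPGroup'.comap_subtype (K := K)
        exact Sylow.ext ((V.is_maximal' hXp hV').symm.trans (W.is_maximal' hXp hW'))
      exact hn2 (le_antisymm hge hcardeq ▸ hd)
    have hHp : IsPGroup 5 H := IsPGroup.of_card (n := 1) (by rw [Nat.card_zpowers, hx', pow_one])
    obtain ⟨U, hU⟩ := hHp.nonempty_fixed_point_of_prime_not_dvd_card (Sylow 2 C) hcard2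
    have hxU : x' ∈ normalizer ((U : Subgroup C) : Set C) :=
      Sylow.smul_eq_iff_mem_normalizer.mp (hU ⟨x', mem_zpowers x'⟩)
    have hU8 : Nat.card (U : Subgroup C) = 8 := by
      obtain ⟨m, hm⟩ := h8
      rw [card_sylow_subgroup (p := 2) (e := 3) (m := m) (by rw [hm]; norm_num) (fun hd => by
        obtain ⟨j, rfl⟩ := hd
        have : 16 ∣ 5400 := ⟨j * C.index, by rw [← hmul, hm]; ring⟩
        norm_num at this) U]
      norm_num
    -- its orbits on the eight elements
    have hcent : ∀ a ∈ (U : Subgroup C), x' * a = a * x' := by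
      let X := {a : C // a ∈ (U : Subgroup C)}
      have hUn : ∀ g ∈ H, ∀ a ∈ (U : Subgroup C), g * a * g⁻¹ ∈ (U : Subgroup C) := fun g hg a ha => by
        have hle' : H ≤ normalizer ((U : Subgroup C) : Set C) := zpowers_le.mpr hxU
        exact (mem_normalizer_iff.mp (hle' hg) a).mp ha
      let : MulAction H X :=
        { smul := fun g a => ⟨g.1 * a.1 * g.1⁻¹, hUn g.1 g.2 a.1 a.2⟩
          one_smul := fun a => Subtype.ext (show (1 : H).1 * a.1 * (1 : H).1⁻¹ = a.1 by simp)
          mul_smul := fun g g' a => Subtype.ext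
            (show (g * g' : H).1 * a.1 * (g * g' : H).1⁻¹ = g.1 * (g'.1 * a.1 * g'.1⁻¹) * g.1⁻¹ by
              simp [mul_assoc]) }
      have hmod := hHp.card_modEq_card_fixedPoints X
      set W : Subgroup C := (U : Subgroup C) ⊓ centralizer ({x'} : Set C)
      have hW : Nat.card (MulAction.fixedPoints H X) = Nat.card W := by
        refine Nat.card_congr
          { toFun := fun a => ⟨a.1.1, a.1.2, mem_centralizer_singleton_iff.mpr ?_⟩
            invFun := fun a => ⟨⟨a.1, a.2.1⟩, fun g => Subtype.ext ?_⟩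
            left_inv := fun a => rfl
            right_inv := fun a => rfl }
        · have h9 := congrArg Subtype.val (a.2 ⟨x', mem_zpowers x'⟩)
          exact (mul_inv_eq_iff_eq_mul.mp h9).symm
        · show g.1 * a.1 * g.1⁻¹ = a.1
          have hc : Commute x' a.1 := (mem_centralizer_singleton_iff.mp a.2.2).symm
          obtain ⟨k, hk⟩ := mem_zpowers_iff.mp g.2
          rw [← hk, (hc.zpow_left k).eq, mul_inv_cancel_right]
      have hXc : Nat.card X = 8 := hU8
      rw [hW, hXc] at hmod
      obtain ⟨k, hk, hk'⟩ := (Nat.dvd_prime_pow Nat.prime_two).mp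
        (show Nat.card W ∣ 2 ^ 3 by rw [show (2 : ℕ) ^ 3 = 8 from rfl, ← hU8]; exact card_dvd_of_le inf_le_left)
      have hk3 : k = 3 := by
        unfold Nat.ModEq at hmod
        interval_cases k <;> simp_all
      have hWU : W = (U : Subgroup C) := eq_of_le_of_card_ge inf_le_left (by rw [hU8, hk', hk3]; norm_num)
      intro a ha
      rw [← hWU] at ha
      exact (mem_centralizer_singleton_iff.mp ha.2).symm
    have h8N : 8 ∣ Nat.card N := by
      rw [← hU8, ← card_map_of_injective C.subtype_injective]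
      refine card_dvd_of_le ?_
      rintro _ ⟨a, ha, rfl⟩
      rw [hNC]
      exact mem_centralizer_singleton_iff.mpr (congrArg Subtype.val (hcent a ha)).symm
    rw [hN] at h8N
    norm_num at h8N

end Cfsg.Agent.SmallOrders.O5400
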