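-- The orders from 3641 to 6232 of non-abelian simple groups.
--
-- * `mem_orders`
import Cfsg.Agent.Lib.SmallOrders.Check2
import Cfsg.Agent.Lib.SmallOrders.Orders.O5400
import Cfsg.Agent.Lib.SmallOrders.BlockDegrees.Orders
import Cfsg.Agent.Lib.SmallOrders.BlockDegrees.Orders2
import Cfsg.Agent.Lib.CharApp.Burnside

set_option autoImplicit false

namespace Cfsg.Agent.SmallOrders.Below6232

/-- witnesses `(p, e)` for `n = 3641, …` -/
def witness0 : List (ℕ × ℕ) :=
  [
    (331, 1), (607, 1), (3643, 1), (911, 1), (3, 6), (1823, 1), (521, 1), (2, 1), (89, 1),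
    (73, 1), (1217, 1), (83, 1), (281, 1), (29, 1), (43, 1), (457, 1), (53, 1), (59, 1),
    (3659, 1), (61, 1), (523, 1), (1831, 1), (37, 1), (229, 1), (733, 1), (47, 1), (193, 1),
    (131, 1), (1223, 1), (367, 1), (3671, 1), (17, 1), (3673, 1), (167, 1), (7, 2), (919, 1),
    (3677, 1), (613, 1), (283, 1), (23, 1), (409, 1), (263, 1), (127, 1), (307, 1), (67, 1),
    (97, 1), (1229, 1), (461, 1), (31, 1), (41, 1), (3691, 1), (71, 1), (1231, 1), (1847, 1),
    (739, 1), (2, 1), (3697, 1), (43, 2), (137, 1), (37, 1), (3701, 1), (617, 1), (23, 2),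
    (463, 1), (19, 1), (109, 1), (337, 1), (103, 1), (3709, 1), (53, 1), (1237, 1), (29, 1),
    (79, 1), (619, 1), (743, 1), (929, 1), (59, 1), (13, 2), (3719, 1), (31, 1), (61, 2),
    (1861, 1), (73, 1), (19, 1), (149, 1), (23, 1), (3727, 1), (233, 1), (113, 1), (373, 1),
    (41, 1), (311, 1), (3733, 1), (1867, 1), (83, 1), (467, 1), (101, 1), (89, 1), (3739, 1),
    (17, 1), (43, 1), (1871, 1), (197, 1), (2, 1), (107, 1), (1873, 1), (1249, 1), (937, 1),
    (163, 1), (5, 4), (11, 2), (67, 1), (139, 1), (1877, 1), (751, 1), (313, 1), (17, 2),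
    (1879, 1), (179, 1), (47, 1), (3761, 1), (19, 1), (71, 1), (941, 1), (251, 1), (269, 1),
    (3767, 1), (157, 1), (3769, 1), (29, 1), (419, 1), (41, 1), (7, 3), (37, 1), (151, 1),
    (59, 1), (1259, 1), (1889, 1), (3779, 1), (2, 1), (199, 1), (61, 1), (97, 1), (43, 1),
    (757, 1), (631, 1), (541, 1), (947, 1), (421, 1), (379, 1), (223, 1), (79, 1), (3793, 1),
    (271, 1), (23, 1), (73, 1), (3797, 1), (211, 1), (131, 1), (19, 1), (181, 1), (1901, 1),
    (3803, 1), (317, 1), (761, 1), (173, 1), (47, 1), (17, 1), (293, 1), (127, 1), (103, 1),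
    (953, 1), (41, 1), (1907, 1), (109, 1), (53, 1), (347, 1), (83, 1), (67, 1), (191, 1),
    (3821, 1), (7, 2), (3823, 1), (239, 1), (17, 1), (1913, 1), (89, 1), (29, 1), (547, 1),
    (383, 1), (1277, 1), (479, 1), (3833, 1), (71, 1), (59, 1), (137, 1), (1279, 1), (101, 1),
    (349, 1), (2, 8), (167, 1), (113, 1), (61, 1), (31, 2), (769, 1), (641, 1), (3847, 1),
    (37, 1), (1283, 1), (11, 1), (3851, 1), (107, 1), (3853, 1), (47, 1), (257, 1), (241, 1),
    (29, 1), (643, 1), (227, 1), (193, 1), (13, 1), (1931, 1), (3863, 1), (23, 1), (773, 1),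
    (1933, 1), (1289, 1), (967, 1), (73, 1), (43, 1), (79, 1), (11, 2), (1291, 1), (149, 1),
    (31, 1), (19, 1), (3877, 1), (277, 1), (431, 1), (97, 1), (3881, 1), (647, 1), (353, 1),
    (971, 1), (37, 1), (67, 1), (13, 2), (3, 5), (3889, 1), (389, 1), (1297, 1), (139, 1),
    (229, 1), (59, 1), (41, 1), (487, 1), (433, 1), (1949, 1), (557, 1), (13, 1), (83, 1),
    (1951, 1), (1301, 1), (61, 1), (71, 1), (7, 1), (3907, 1), (977, 1), (1303, 1), (23, 1),
    (3911, 1), (163, 1), (43, 1), (103, 1), (29, 1), (89, 1), (3917, 1), (653, 1), (3919, 1),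
    (7, 2), (1307, 1), (53, 1), (3923, 1), (109, 1), (157, 1), (151, 1), (17, 1), (491, 1),
    (3929, 1), (131, 1), (3931, 1), (983, 1), (23, 1), (281, 1), (787, 1), (41, 1), (127, 1),
    (179, 1), (101, 1), (197, 1), (563, 1), (73, 1), (3943, 1), (29, 1), (263, 1), (1973, 1),
    (3947, 1), (47, 1), (359, 1), (79, 1), (439, 1), (19, 1), (67, 1), (659, 1), (113, 1),
    (43, 1), (1319, 1), (1979, 1), (107, 1), (2, 1), (233, 1), (283, 1), (1321, 1), (991, 1),
    (61, 1), (661, 1), (3967, 1), (31, 1), (7, 2), (397, 1), (19, 2), (331, 1), (137, 1),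
    (1987, 1), (53, 1), (71, 1), (97, 1), (17, 1), (173, 1), (199, 1), (1327, 1), (181, 1),
    (569, 1), (83, 1), (797, 1), (1993, 1), (443, 1), (997, 1), (3989, 1), (19, 1), (307, 1),
    (499, 1), (11, 3), (1997, 1), (47, 1), (37, 1), (571, 1), (1999, 1), (43, 1), (5, 3),
    (4001, 1), (29, 1), (4003, 1), (13, 1), (89, 1), (2003, 1), (4007, 1), (167, 1), (211, 1),
    (401, 1), (191, 1), (59, 1), (4013, 1), (223, 1), (73, 1), (251, 1), (103, 1), (41, 1),
    (4019, 1), (67, 1), (4021, 1), (2011, 1), (149, 1), (503, 1), (23, 1), (61, 1), (4027, 1),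
    (53, 1), (79, 1), (31, 1), (139, 1), (2, 1), (109, 1), (2017, 1), (269, 1), (1009, 1),
    (367, 1), (673, 1), (577, 1), (101, 1), (449, 1), (47, 1), (311, 1), (337, 1), (809, 1),
    (17, 2), (71, 1), (23, 1), (4049, 1), (2, 1), (4051, 1), (1013, 1), (193, 1), (2027, 1),
    (811, 1), (13, 2), (4057, 1), (2029, 1), (41, 1), (29, 1), (131, 1), (677, 1), (239, 1),
    (127, 1), (271, 1), (107, 1), (83, 1), (113, 1), (313, 1), (37, 1), (59, 1), (509, 1),
    (4073, 1), (97, 1), (163, 1), (1019, 1), (151, 1), (2039, 1), (4079, 1), (2, 1), (53, 1),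
    (157, 1), (1361, 1), (1021, 1), (43, 1), (227, 1), (67, 1), (73, 1), (47, 1), (409, 1),
    (4091, 1), (31, 1), (4093, 1), (89, 1), (3, 2), (2, 12), (241, 1), (683, 1), (4099, 1),
    (41, 1), (1367, 1), (293, 1), (373, 1), (19, 1), (821, 1), (2053, 1), (37, 2), (79, 1),
    (587, 1), (137, 1), (4111, 1), (257, 1), (457, 1), (11, 2), (823, 1), (7, 3), (179, 1),
    (71, 1), (1373, 1), (103, 1), (317, 1), (229, 1), (31, 1), (1031, 1), (5, 3), (2063, 1),
    (4127, 1), (43, 1), (4129, 1), (59, 1), (3, 5), (1033, 1), (4133, 1), (53, 1), (827, 1),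
    (47, 1), (197, 1), (2069, 1), (4139, 1), (23, 1), (101, 1), (109, 1), (1381, 1), (37, 1),
    (829, 1), (691, 1), (29, 1), (61, 1), (461, 1), (83, 1), (593, 1), (173, 1), (4153, 1),
    (67, 1), (277, 1), (1039, 1), (4157, 1), (11, 1), (4159, 1)]

theorem cover0 : coverBool 3641 witness0 [3648, 3696, 3744, 3780, 3960, 4032, 4080] = true := by decide +kernel

theorem length0 : witness0.length = 519 := by decide +kernel

/-- witnesses `(p, e)` for `n = 4160, …` -/
def witness1 : List (ℕ × ℕ) :=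
  [
    (2, 1), (73, 1), (2081, 1), (181, 1), (347, 1), (7, 2), (2083, 1), (463, 1), (521, 1),
    (379, 1), (139, 1), (97, 1), (149, 1), (107, 1), (2087, 1), (167, 1), (29, 1), (4177, 1),
    (2089, 1), (199, 1), (19, 1), (113, 1), (41, 1), (89, 1), (523, 1), (31, 1), (23, 1), (79, 1),
    (349, 1), (71, 1), (419, 1), (127, 1), (131, 1), (599, 1), (233, 1), (839, 1), (1049, 1),
    (1399, 1), (2099, 1), (19, 1), (2, 1), (4201, 1), (191, 1), (467, 1), (1051, 1), (29, 2),
    (701, 1), (601, 1), (263, 1), (61, 1), (421, 1), (4211, 1), (2, 1), (383, 1), (43, 1),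
    (281, 1), (31, 1), (4217, 1), (19, 1), (4219, 1), (211, 1), (67, 1), (2111, 1), (103, 1),
    (11, 1), (13, 2), (2113, 1), (1409, 1), (151, 1), (4229, 1), (47, 1), (4231, 1), (23, 2),
    (83, 1), (73, 1), (11, 2), (353, 1), (223, 1), (163, 1), (157, 1), (53, 1), (4241, 1),
    (101, 1), (4243, 1), (1061, 1), (283, 1), (193, 1), (137, 1), (59, 1), (607, 1), (5, 3),
    (109, 1), (1063, 1), (4253, 1), (709, 1), (37, 1), (19, 1), (43, 1), (2129, 1), (4259, 1),
    (71, 1), (4261, 1), (2131, 1), (29, 1), (41, 1), (853, 1), (79, 1), (251, 1), (97, 1),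
    (1423, 1), (61, 1), (4271, 1), (89, 1), (4273, 1), (2137, 1), (19, 1), (1069, 1), (47, 1),
    (31, 1), (389, 1), (107, 1), (1427, 1), (2141, 1), (4283, 1), (17, 1), (857, 1), (2143, 1),
    (1429, 1), (67, 1), (4289, 1), (13, 1), (613, 1), (37, 1), (53, 1), (113, 1), (859, 1),
    (179, 1), (4297, 1), (307, 1), (1433, 1), (43, 1), (23, 1), (239, 1), (331, 1), (269, 1),
    (41, 1), (2153, 1), (73, 1), (359, 1), (139, 1), (431, 1), (479, 1), (7, 2), (227, 1),
    (719, 1), (863, 1), (83, 1), (1439, 1), (127, 1), (617, 1), (2, 1), (149, 1), (2161, 1),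
    (131, 1), (47, 1), (173, 1), (103, 1), (4327, 1), (541, 1), (37, 1), (433, 1), (71, 1),
    (19, 2), (619, 1), (197, 1), (17, 2), (271, 1), (4337, 1), (241, 1), (4339, 1), (31, 1),
    (1447, 1), (167, 1), (101, 1), (181, 1), (79, 1), (53, 1), (23, 1), (1087, 1), (4349, 1),
    (29, 1), (229, 1), (17, 1), (1451, 1), (311, 1), (67, 1), (11, 2), (4357, 1), (2179, 1),
    (1453, 1), (109, 1), (89, 1), (727, 1), (4363, 1), (1091, 1), (97, 1), (59, 1), (397, 1),
    (13, 1), (257, 1), (23, 1), (47, 1), (1093, 1), (4373, 1), (3, 7), (5, 4), (547, 1),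
    (1459, 1), (199, 1), (151, 1), (73, 1), (337, 1), (313, 1), (487, 1), (137, 1), (877, 1),
    (43, 1), (107, 1), (1097, 1), (11, 1), (439, 1), (4391, 1), (61, 1), (191, 1), (13, 3),
    (293, 1), (157, 1), (4397, 1), (733, 1), (83, 1), (2, 1), (163, 1), (71, 1), (37, 1),
    (367, 1), (881, 1), (2203, 1), (113, 1), (29, 1), (4409, 1), (7, 2), (401, 1), (1103, 1),
    (1471, 1), (2207, 1), (883, 1), (23, 1), (631, 1), (47, 2), (491, 1), (17, 1), (4421, 1),
    (67, 1), (4423, 1), (79, 1), (59, 1), (2213, 1), (233, 1), (41, 1), (103, 1), (443, 1),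
    (211, 1), (277, 1), (31, 1), (739, 1), (887, 1), (1109, 1), (29, 1), (317, 1), (193, 1),
    (37, 1), (4441, 1), (2221, 1), (1481, 1), (101, 1), (127, 1), (13, 1), (4447, 1), (139, 1),
    (1483, 1), (89, 1), (4451, 1), (53, 1), (73, 1), (131, 1), (11, 1), (557, 1), (4457, 1),
    (743, 1), (7, 3), (223, 1), (1487, 1), (97, 1), (4463, 1), (31, 1), (47, 1), (29, 1),
    (1489, 1), (1117, 1), (109, 1), (149, 1), (263, 1), (43, 1), (71, 1), (2237, 1), (179, 1),
    (373, 1), (37, 1), (2239, 1), (1493, 1), (2, 7), (4481, 1), (83, 1), (4483, 1), (59, 1),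
    (23, 1), (2243, 1), (641, 1), (17, 1), (67, 2), (449, 1), (499, 1), (1123, 1), (4493, 1),
    (107, 1), (31, 1), (281, 1), (1499, 1), (173, 1), (409, 1), (5, 3), (643, 1), (2251, 1),
    (79, 1), (563, 1), (53, 1), (751, 1), (4507, 1), (23, 1), (167, 1), (41, 1), (347, 1),
    (47, 1), (4513, 1), (61, 1), (43, 1), (1129, 1), (4517, 1), (251, 1), (4519, 1), (113, 1),
    (137, 1), (19, 1), (4523, 1), (29, 1), (181, 1), (73, 1), (503, 1), (283, 1), (647, 1),
    (151, 1), (197, 1), (103, 1), (1511, 1), (2267, 1), (907, 1), (2, 1), (349, 1), (2269, 1),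
    (89, 1), (227, 1), (239, 1), (757, 1), (59, 1), (71, 1), (101, 1), (2273, 1), (4547, 1),
    (379, 1), (4549, 1), (13, 1), (41, 1), (569, 1), (157, 1), (23, 1), (911, 1), (67, 1),
    (31, 1), (53, 1), (97, 1), (19, 1), (4561, 1), (2281, 1), (13, 2), (163, 1), (83, 1),
    (761, 1), (4567, 1), (571, 1), (1523, 1), (457, 1), (653, 1), (127, 1), (269, 1), (2287, 1),
    (61, 1), (13, 1), (199, 1), (109, 1), (241, 1), (229, 1), (509, 1), (79, 1), (4583, 1),
    (191, 1), (131, 1), (2293, 1), (139, 1), (37, 1), (353, 1), (17, 1), (4591, 1), (41, 1),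
    (1531, 1), (2297, 1), (919, 1), (383, 1), (4597, 1), (11, 2), (73, 1), (23, 1), (107, 1),
    (59, 1), (4603, 1), (1151, 1), (307, 1), (47, 1), (271, 1), (2, 9), (419, 1), (461, 1),
    (53, 1), (1153, 1), (659, 1), (769, 1), (71, 1), (577, 1), (19, 1), (2309, 1), (149, 1),
    (2, 1), (4621, 1), (2311, 1), (67, 1), (17, 2), (37, 1), (257, 1), (661, 1), (89, 1),
    (1543, 1), (463, 1), (421, 1), (193, 1), (113, 1), (331, 1), (103, 1), (61, 1), (4637, 1),
    (773, 1), (4639, 1), (29, 1), (17, 1), (211, 1), (4643, 1), (43, 1), (929, 1), (101, 1),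
    (1549, 1), (83, 1), (4649, 1), (31, 1), (4651, 1), (1163, 1), (47, 1), (179, 1), (19, 1),
    (97, 1), (4657, 1), (137, 1), (1553, 1), (233, 1), (79, 1), (37, 1), (4663, 1), (53, 1),
    (311, 1), (2333, 1), (359, 1), (389, 1), (29, 1), (467, 1), (173, 1), (73, 1), (4673, 1),
    (41, 1), (17, 1), (167, 1), (1559, 1), (2339, 1)]

theorem cover1 : coverBool 4160 witness1 [4160, 4200, 4212, 4320, 4400, 4536, 4620] = true := by decide +kernel

theorem length1 : witness1.length = 519 := by decide +kernel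

/-- witnesses `(p, e)` for `n = 4679, …` -/
def witness2 : List (ℕ × ℕ) :=
  [
    (4679, 1), (2, 1), (151, 1), (2341, 1), (223, 1), (1171, 1), (937, 1), (71, 1), (109, 1),
    (293, 1), (521, 1), (67, 1), (4691, 1), (23, 1), (19, 2), (2347, 1), (313, 1), (587, 1),
    (61, 1), (29, 1), (127, 1), (47, 1), (1567, 1), (2351, 1), (4703, 1), (7, 2), (941, 1),
    (181, 1), (523, 1), (107, 1), (277, 1), (157, 1), (673, 1), (31, 1), (1571, 1), (2357, 1),
    (41, 1), (131, 1), (89, 1), (337, 1), (11, 2), (59, 1), (4721, 1), (787, 1), (4723, 1),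
    (1181, 1), (2, 1), (139, 1), (163, 1), (197, 1), (4729, 1), (43, 1), (83, 1), (13, 2),
    (4733, 1), (263, 1), (947, 1), (37, 1), (1579, 1), (103, 1), (677, 1), (79, 1), (431, 1),
    (2371, 1), (31, 1), (593, 1), (73, 1), (113, 1), (101, 1), (1187, 1), (1583, 1), (5, 3),
    (4751, 1), (11, 1), (97, 1), (2377, 1), (317, 1), (41, 1), (71, 1), (61, 1), (4759, 1),
    (2, 1), (23, 2), (2381, 1), (433, 1), (397, 1), (953, 1), (2383, 1), (227, 1), (149, 1),
    (251, 1), (53, 1), (367, 1), (1193, 1), (43, 1), (31, 1), (191, 1), (199, 1), (281, 1),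
    (2389, 1), (59, 1), (239, 1), (683, 1), (797, 1), (4783, 1), (23, 1), (29, 1), (2393, 1),
    (4787, 1), (19, 1), (4789, 1), (479, 1), (1597, 1), (599, 1), (4793, 1), (47, 1), (137, 1),
    (109, 1), (41, 1), (2399, 1), (4799, 1), (2, 1), (4801, 1), (7, 4), (1601, 1), (1201, 1),
    (31, 2), (89, 1), (23, 1), (601, 1), (229, 1), (37, 1), (283, 1), (401, 1), (4813, 1),
    (83, 1), (107, 1), (43, 1), (4817, 1), (73, 1), (79, 1), (241, 1), (1607, 1), (2411, 1),
    (53, 1), (67, 1), (193, 1), (127, 1), (1609, 1), (71, 1), (439, 1), (23, 1), (4831, 1),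
    (151, 1), (179, 1), (2417, 1), (967, 1), (31, 1), (691, 1), (59, 1), (1613, 1), (11, 2),
    (103, 1), (269, 1), (167, 1), (173, 1), (19, 1), (2423, 1), (131, 1), (101, 1), (373, 1),
    (97, 1), (7, 2), (1213, 1), (211, 1), (809, 1), (971, 1), (607, 1), (1619, 1), (347, 1),
    (113, 1), (3, 5), (4861, 1), (17, 1), (1621, 1), (2, 8), (139, 1), (811, 1), (157, 1),
    (1217, 1), (541, 1), (487, 1), (4871, 1), (29, 1), (443, 1), (2437, 1), (5, 3), (53, 1),
    (4877, 1), (271, 1), (41, 1), (61, 1), (1627, 1), (2441, 1), (257, 1), (37, 1), (977, 1),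
    (349, 1), (181, 1), (47, 1), (4889, 1), (163, 1), (73, 1), (1223, 1), (233, 1), (2447, 1),
    (89, 1), (17, 1), (83, 1), (79, 1), (71, 1), (5, 2), (13, 2), (43, 1), (4903, 1), (613, 1),
    (109, 1), (223, 1), (701, 1), (409, 1), (4909, 1), (491, 1), (1637, 1), (307, 1), (17, 3),
    (2, 1), (983, 1), (1229, 1), (149, 1), (2459, 1), (4919, 1), (41, 1), (37, 1), (107, 1),
    (547, 1), (1231, 1), (197, 1), (821, 1), (379, 1), (2, 1), (53, 1), (29, 1), (4931, 1),
    (137, 1), (4933, 1), (2467, 1), (47, 1), (617, 1), (4937, 1), (823, 1), (449, 1), (19, 1),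
    (61, 1), (353, 1), (4943, 1), (103, 1), (43, 1), (2473, 1), (97, 1), (1237, 1), (101, 1),
    (2, 1), (4951, 1), (619, 1), (127, 1), (2477, 1), (991, 1), (59, 1), (4957, 1), (67, 1),
    (29, 1), (2, 1), (41, 1), (827, 1), (709, 1), (73, 1), (331, 1), (191, 1), (4967, 1), (23, 1),
    (4969, 1), (71, 1), (1657, 1), (113, 1), (4973, 1), (829, 1), (199, 1), (311, 1), (79, 1),
    (131, 1), (383, 1), (83, 1), (293, 1), (53, 1), (151, 1), (89, 1), (997, 1), (277, 1),
    (4987, 1), (43, 1), (1663, 1), (499, 1), (31, 1), (13, 1), (4993, 1), (227, 1), (37, 1),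
    (1249, 1), (263, 1), (7, 2), (4999, 1), (5, 4), (1667, 1), (61, 1), (5003, 1), (139, 1),
    (13, 1), (2503, 1), (1669, 1), (313, 1), (5009, 1), (167, 1), (5011, 1), (179, 1), (557, 1),
    (109, 1), (59, 1), (19, 1), (173, 1), (193, 1), (239, 1), (251, 1), (5021, 1), (31, 1),
    (5023, 1), (157, 1), (67, 1), (359, 1), (457, 1), (419, 1), (107, 1), (503, 1), (43, 1),
    (37, 1), (719, 1), (839, 1), (53, 1), (1259, 1), (73, 1), (229, 1), (5039, 1), (2, 1),
    (71, 2), (2521, 1), (41, 2), (97, 1), (1009, 1), (29, 2), (103, 1), (631, 1), (17, 1),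
    (101, 1), (5051, 1), (421, 1), (163, 1), (19, 2), (337, 1), (79, 1), (389, 1), (281, 1),
    (5059, 1), (23, 1), (241, 1), (2531, 1), (83, 1), (211, 1), (1013, 1), (149, 1), (563, 1),
    (181, 1), (137, 1), (13, 2), (461, 1), (317, 1), (89, 1), (59, 1), (29, 1), (47, 1),
    (5077, 1), (2539, 1), (1693, 1), (127, 1), (5081, 1), (11, 2), (23, 1), (41, 1), (113, 1),
    (2543, 1), (5087, 1), (53, 1), (727, 1), (509, 1), (1697, 1), (67, 1), (463, 1), (283, 1),
    (1019, 1), (7, 2), (1699, 1), (2549, 1), (5099, 1), (17, 1), (5101, 1), (2551, 1), (3, 6),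
    (2, 1), (1021, 1), (37, 1), (5107, 1), (1277, 1), (131, 1), (73, 1), (269, 1), (71, 1),
    (5113, 1), (2557, 1), (31, 1), (1279, 1), (43, 1), (853, 1), (5119, 1), (2, 10), (569, 1),
    (197, 1), (109, 1), (61, 1), (41, 1), (233, 1), (1709, 1), (641, 1), (223, 1), (19, 1),
    (733, 1), (1283, 1), (59, 1), (151, 1), (79, 1), (107, 1), (467, 1), (367, 1), (571, 1),
    (257, 1), (97, 1), (857, 1), (139, 1), (643, 1), (7, 3), (83, 1), (5147, 1), (2, 1), (271, 1),
    (103, 1), (101, 1), (23, 1), (5153, 1), (859, 1), (1031, 1), (1289, 1), (191, 1), (2579, 1),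
    (67, 1), (43, 1), (397, 1), (89, 1), (1721, 1), (1291, 1), (1033, 1), (41, 1), (5167, 1),
    (19, 1), (1723, 1), (47, 1), (5171, 1), (431, 1), (739, 1), (199, 1), (23, 1), (647, 1),
    (167, 1), (863, 1), (5179, 1), (37, 1), (157, 1), (2591, 1), (73, 1), (2, 1), (61, 1),
    (2593, 1), (19, 1), (1297, 1), (5189, 1), (173, 1), (179, 1), (59, 1), (577, 1), (53, 1),
    (1039, 1), (433, 1), (5197, 1)]

theorem cover2 : coverBool 4679 witness2 [4680, 4725, 4760, 4800, 4928, 4960, 5040, 5104, 5148, 5184] = true := by decide +kernel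

theorem length2 : witness2.length = 519 := by decide +kernel

/-- witnesses `(p, e)` for `n = 5198, …` -/
def witness3 : List (ℕ × ℕ) :=
  [
    (113, 1), (1733, 1), (2, 1), (743, 1), (17, 2), (43, 1), (1301, 1), (347, 1), (137, 1),
    (127, 1), (31, 1), (5209, 1), (521, 1), (193, 1), (1303, 1), (401, 1), (79, 1), (149, 1),
    (163, 1), (47, 1), (2609, 1), (307, 1), (29, 1), (227, 1), (373, 1), (1741, 1), (653, 1),
    (19, 1), (67, 1), (5227, 1), (1307, 1), (83, 1), (523, 1), (5231, 1), (109, 1), (5233, 1),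
    (2617, 1), (349, 1), (2, 2), (5237, 1), (97, 1), (13, 2), (131, 1), (1747, 1), (2621, 1),
    (107, 1), (23, 1), (1049, 1), (61, 1), (53, 1), (41, 1), (181, 1), (5, 3), (89, 1), (101, 1),
    (103, 1), (71, 1), (1051, 1), (73, 1), (751, 1), (239, 1), (1753, 1), (263, 1), (5261, 1),
    (877, 1), (277, 1), (47, 1), (5, 1), (2633, 1), (229, 1), (439, 1), (479, 1), (31, 1),
    (251, 1), (659, 1), (5273, 1), (293, 1), (211, 1), (1319, 1), (1759, 1), (29, 1), (5279, 1),
    (11, 1), (5281, 1), (139, 1), (587, 1), (1321, 1), (151, 1), (881, 1), (311, 1), (661, 1),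
    (43, 1), (23, 2), (37, 1), (7, 2), (79, 1), (2647, 1), (353, 1), (331, 1), (5297, 1),
    (883, 1), (757, 1), (53, 1), (31, 1), (241, 1), (5303, 1), (13, 1), (1061, 1), (379, 1),
    (61, 1), (1327, 1), (5309, 1), (59, 1), (113, 1), (83, 1), (23, 1), (2657, 1), (1063, 1),
    (443, 1), (409, 1), (2659, 1), (197, 1), (19, 1), (313, 1), (887, 1), (5323, 1), (11, 3),
    (71, 1), (2663, 1), (761, 1), (37, 1), (73, 2), (41, 1), (1777, 1), (43, 1), (5333, 1),
    (127, 1), (97, 1), (29, 1), (593, 1), (157, 1), (281, 1), (89, 1), (109, 1), (2671, 1),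
    (137, 1), (167, 1), (1069, 1), (3, 5), (5347, 1), (191, 1), (1783, 1), (107, 1), (5351, 1),
    (223, 1), (101, 1), (2677, 1), (17, 1), (103, 1), (487, 1), (47, 1), (233, 1), (67, 1),
    (1787, 1), (383, 1), (173, 1), (149, 1), (37, 1), (2683, 1), (1789, 1), (61, 1), (59, 1),
    (179, 1), (131, 1), (79, 1), (199, 1), (2687, 1), (43, 1), (2, 1), (283, 1), (2689, 1),
    (163, 1), (269, 1), (5381, 1), (23, 1), (769, 1), (673, 1), (359, 1), (2693, 1), (5387, 1),
    (449, 1), (317, 1), (7, 2), (599, 1), (337, 1), (5393, 1), (31, 1), (83, 1), (71, 1),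
    (257, 1), (2699, 1), (5399, 1), (2, 1), (491, 1), (73, 1), (1801, 1), (193, 1), (47, 1),
    (53, 1), (5407, 1), (13, 2), (601, 1), (541, 1), (773, 1), (41, 1), (5413, 1), (2707, 1),
    (19, 2), (677, 1), (5417, 1), (43, 1), (5419, 1), (271, 1), (139, 1), (2711, 1), (29, 1),
    (113, 1), (31, 1), (2713, 1), (67, 1), (59, 1), (89, 1), (181, 1), (5431, 1), (97, 1),
    (1811, 1), (19, 1), (1087, 1), (151, 1), (5437, 1), (2719, 1), (37, 1), (17, 1), (5441, 1),
    (907, 1), (5443, 1), (1361, 1), (11, 2), (389, 1), (419, 1), (227, 1), (5449, 1), (109, 1),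
    (79, 1), (47, 1), (41, 1), (101, 1), (1091, 1), (31, 1), (107, 1), (2729, 1), (103, 1),
    (2, 1), (127, 1), (2731, 1), (607, 1), (683, 1), (1093, 1), (911, 1), (71, 1), (1367, 1),
    (1823, 1), (547, 1), (5471, 1), (2, 1), (421, 1), (23, 1), (73, 1), (37, 2), (5477, 1),
    (83, 1), (5479, 1), (137, 1), (29, 1), (2741, 1), (5483, 1), (457, 1), (1097, 1), (211, 1),
    (59, 1), (7, 3), (499, 1), (61, 1), (17, 2), (1373, 1), (1831, 1), (67, 1), (157, 1),
    (229, 1), (239, 1), (2749, 1), (47, 1), (5, 3), (5501, 1), (131, 1), (5503, 1), (43, 1),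
    (367, 1), (2753, 1), (5507, 1), (17, 1), (787, 1), (29, 1), (167, 1), (53, 1), (149, 1),
    (919, 1), (1103, 1), (197, 1), (613, 1), (89, 1), (5519, 1), (23, 1), (5521, 1), (251, 1),
    (263, 1), (1381, 1), (17, 1), (307, 1), (5527, 1), (691, 1), (97, 1), (79, 1), (5531, 1),
    (461, 1), (503, 1), (2767, 1), (41, 1), (173, 1), (113, 1), (71, 1), (191, 1), (277, 1),
    (1847, 1), (163, 1), (241, 1), (11, 1), (1109, 1), (59, 1), (43, 2), (73, 1), (179, 1),
    (2, 1), (61, 1), (347, 1), (617, 1), (2777, 1), (101, 1), (463, 1), (5557, 1), (397, 1),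
    (109, 1), (139, 1), (83, 1), (103, 1), (5563, 1), (107, 1), (53, 1), (11, 2), (293, 1),
    (29, 1), (5569, 1), (557, 1), (619, 1), (199, 1), (5573, 1), (929, 1), (223, 1), (41, 1),
    (13, 2), (2789, 1), (797, 1), (31, 1), (5581, 1), (2791, 1), (1861, 1), (349, 1), (1117, 1),
    (19, 1), (151, 1), (127, 1), (3, 5), (43, 1), (5591, 1), (233, 1), (47, 1), (2797, 1),
    (373, 1), (1399, 1), (193, 1), (311, 1), (509, 1), (2, 1), (1867, 1), (2801, 1), (431, 1),
    (467, 1), (59, 1), (2803, 1), (89, 1), (701, 1), (79, 1), (17, 1), (181, 1), (61, 1),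
    (1871, 1), (401, 1), (1123, 1), (2, 1), (137, 1), (53, 2), (1873, 1), (281, 1), (73, 1),
    (937, 1), (5623, 1), (37, 1), (5, 4), (97, 1), (331, 1), (67, 1), (433, 1), (563, 1),
    (1877, 1), (2, 9), (131, 1), (313, 1), (23, 1), (1409, 1), (1879, 1), (2819, 1), (5639, 1),
    (47, 1), (5641, 1), (31, 1), (19, 1), (83, 1), (1129, 1), (941, 1), (5647, 1), (353, 1),
    (269, 1), (113, 1), (5651, 1), (157, 1), (5653, 1), (257, 1), (29, 1), (101, 1), (5657, 1),
    (41, 1), (5659, 1), (283, 1), (37, 1), (149, 1), (809, 1), (59, 1), (103, 1), (2833, 1),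
    (1889, 1), (109, 1), (5669, 1), (2, 1), (107, 1), (709, 1), (61, 1), (2837, 1), (227, 1),
    (11, 1), (811, 1), (167, 1), (631, 1), (71, 1), (23, 1), (947, 1), (5683, 1), (29, 1),
    (379, 1), (2843, 1), (47, 1), (79, 1), (5689, 1), (569, 1), (271, 1), (1423, 1), (5693, 1),
    (73, 1), (67, 1), (89, 1), (211, 1), (37, 1), (139, 1), (19, 1), (5701, 1), (2851, 1),
    (1901, 1), (31, 1), (163, 1), (317, 1), (439, 1), (1427, 1), (173, 1), (571, 1), (5711, 1),
    (17, 1), (197, 1), (2857, 1), (127, 1), (1429, 1)]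

theorem cover3 : coverBool 5198 witness3 [5200, 5376, 5400, 5460, 5472, 5600, 5616] = true := by decide +kernel

theorem length3 : witness3.length = 519 := by decide +kernel

/-- witnesses `(p, e)` for `n = 5717, …` -/
def witness4 : List (ℕ × ℕ) :=
  [
    (5717, 1), (953, 1), (43, 1), (13, 1), (1907, 1), (2861, 1), (97, 1), (2, 1), (229, 1),
    (409, 1), (83, 1), (179, 1), (337, 1), (191, 1), (521, 1), (1433, 1), (7, 2), (61, 1),
    (37, 1), (239, 1), (5737, 1), (151, 1), (1913, 1), (41, 1), (5741, 1), (29, 1), (5743, 1),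
    (359, 1), (383, 1), (13, 2), (821, 1), (479, 1), (5749, 1), (5, 3), (71, 1), (719, 1),
    (523, 1), (137, 1), (1151, 1), (1439, 1), (101, 1), (2879, 1), (443, 1), (2, 1), (823, 1),
    (67, 1), (113, 1), (131, 1), (1153, 1), (31, 2), (79, 1), (103, 1), (641, 1), (577, 1),
    (199, 1), (37, 1), (251, 1), (2887, 1), (11, 1), (19, 2), (109, 1), (107, 1), (5779, 1),
    (17, 2), (47, 1), (59, 1), (5783, 1), (241, 1), (89, 1), (263, 1), (643, 1), (1447, 1),
    (827, 1), (193, 1), (5791, 1), (181, 1), (1931, 1), (2897, 1), (61, 1), (23, 1), (31, 1),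
    (223, 1), (1933, 1), (29, 1), (5801, 1), (967, 1), (829, 1), (1451, 1), (43, 1), (2903, 1),
    (5807, 1), (11, 2), (157, 1), (83, 1), (149, 1), (1453, 1), (5813, 1), (2, 1), (1163, 1),
    (727, 1), (277, 1), (2909, 1), (23, 2), (97, 1), (5821, 1), (71, 1), (647, 1), (13, 1),
    (233, 1), (971, 1), (5827, 1), (47, 1), (67, 1), (53, 1), (7, 3), (3, 6), (307, 1), (2917, 1),
    (389, 1), (1459, 1), (449, 1), (139, 1), (5839, 1), (73, 1), (59, 1), (127, 1), (5843, 1),
    (487, 1), (167, 1), (79, 1), (1949, 1), (43, 1), (5849, 1), (13, 1), (5851, 1), (2, 2),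
    (1951, 1), (2927, 1), (1171, 1), (61, 1), (5857, 1), (101, 1), (7, 1), (293, 1), (5861, 1),
    (977, 1), (41, 1), (733, 1), (23, 1), (419, 1), (5867, 1), (163, 1), (5869, 1), (587, 1),
    (103, 1), (367, 1), (839, 1), (89, 1), (47, 1), (113, 1), (653, 1), (2939, 1), (5879, 1),
    (2, 1), (5881, 1), (173, 1), (53, 1), (1471, 1), (107, 1), (109, 1), (29, 2), (23, 1),
    (151, 1), (31, 1), (137, 1), (491, 1), (83, 1), (421, 1), (131, 1), (67, 1), (5897, 1),
    (983, 1), (347, 1), (59, 1), (281, 1), (227, 1), (5903, 1), (41, 1), (1181, 1), (2953, 1),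
    (179, 1), (211, 1), (311, 1), (197, 1), (257, 1), (739, 1), (73, 1), (2957, 1), (13, 2),
    (29, 1), (97, 1), (269, 1), (1973, 1), (37, 1), (191, 1), (47, 1), (5923, 1), (1481, 1),
    (79, 1), (2963, 1), (5927, 1), (13, 1), (11, 2), (593, 1), (659, 1), (1483, 1), (349, 1),
    (43, 1), (1187, 1), (53, 1), (1979, 1), (2969, 1), (5939, 1), (2, 1), (457, 1), (2971, 1),
    (283, 1), (743, 1), (41, 1), (991, 1), (313, 1), (1487, 1), (661, 1), (5, 2), (541, 1),
    (31, 1), (5953, 1), (229, 1), (397, 1), (1489, 1), (37, 1), (331, 1), (101, 1), (149, 1),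
    (1987, 1), (271, 1), (89, 1), (71, 1), (1193, 1), (157, 1), (17, 1), (373, 1), (127, 1),
    (199, 1), (853, 1), (1493, 1), (181, 1), (103, 1), (239, 1), (83, 1), (139, 1), (61, 1),
    (1993, 1), (23, 1), (5981, 1), (997, 1), (193, 1), (17, 1), (19, 1), (73, 1), (5987, 1),
    (499, 1), (113, 1), (599, 1), (1997, 1), (107, 1), (461, 1), (37, 1), (109, 1), (1499, 1),
    (1999, 1), (2999, 1), (857, 1), (5, 3), (353, 1), (3001, 1), (29, 1), (79, 1), (1201, 1),
    (13, 1), (6007, 1), (751, 1), (2003, 1), (601, 1), (6011, 1), (167, 1), (859, 1), (97, 1),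
    (401, 1), (47, 1), (547, 1), (59, 1), (463, 1), (43, 1), (223, 1), (3011, 1), (317, 1),
    (251, 1), (241, 1), (131, 1), (41, 1), (137, 1), (6029, 1), (67, 1), (163, 1), (29, 1),
    (2011, 1), (431, 1), (71, 1), (503, 1), (6037, 1), (3019, 1), (61, 1), (151, 1), (863, 1),
    (53, 1), (6043, 1), (1511, 1), (31, 1), (3023, 1), (6047, 1), (2, 1), (263, 1), (11, 2),
    (2017, 1), (89, 1), (6053, 1), (1009, 1), (173, 1), (757, 1), (673, 1), (233, 1), (83, 1),
    (101, 1), (29, 1), (433, 1), (47, 1), (379, 1), (1213, 1), (337, 1), (6067, 1), (41, 1),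
    (17, 2), (607, 1), (467, 1), (2, 1), (6073, 1), (3037, 1), (3, 5), (31, 1), (103, 1),
    (1013, 1), (6079, 1), (19, 1), (2027, 1), (3041, 1), (79, 1), (13, 2), (1217, 1), (179, 1),
    (2029, 1), (761, 1), (6089, 1), (2, 1), (6091, 1), (1523, 1), (677, 1), (277, 1), (53, 1),
    (127, 1), (67, 1), (3049, 1), (107, 1), (61, 1), (6101, 1), (113, 1), (359, 1), (109, 1),
    (37, 1), (71, 1), (197, 1), (509, 1), (149, 1), (47, 1), (97, 1), (191, 1), (6113, 1),
    (1019, 1), (1223, 1), (139, 1), (2039, 1), (23, 1), (211, 1), (17, 1), (6121, 1), (3061, 1),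
    (157, 1), (1531, 1), (5, 3), (1021, 1), (557, 1), (383, 1), (227, 1), (613, 1), (6131, 1),
    (73, 1), (6133, 1), (3067, 1), (409, 1), (59, 1), (19, 2), (31, 1), (877, 1), (307, 1),
    (89, 1), (83, 1), (6143, 1), (2, 11), (1229, 1), (439, 1), (683, 1), (53, 1), (43, 1),
    (41, 1), (6151, 1), (769, 1), (293, 1), (181, 1), (1231, 1), (19, 1), (131, 1), (3079, 1),
    (2053, 1), (2, 1), (101, 1), (79, 1), (6163, 1), (67, 1), (137, 1), (3083, 1), (881, 1),
    (257, 1), (199, 1), (617, 1), (11, 2), (1543, 1), (6173, 1), (7, 3), (19, 1), (193, 1),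
    (71, 1), (3089, 1), (167, 1), (103, 1), (883, 1), (281, 1), (229, 1), (773, 1), (1237, 1),
    (1031, 1), (269, 1), (17, 1), (2063, 1), (619, 1), (151, 1), (43, 1), (563, 1), (163, 1),
    (59, 1), (1549, 1), (6197, 1), (1033, 1), (6199, 1), (31, 1), (53, 1), (443, 1), (6203, 1),
    (47, 1), (73, 1), (107, 1), (2069, 1), (97, 1), (887, 1), (23, 1), (6211, 1), (1553, 1),
    (109, 1), (239, 1), (113, 1), (37, 1), (6217, 1), (3109, 1), (691, 1), (311, 1), (6221, 1),
    (61, 1), (127, 1), (389, 1), (83, 1), (283, 1), (479, 1), (173, 1), (6229, 1), (89, 1),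
    (67, 1), (41, 1)]

theorem cover4 : coverBool 5717 witness4 [5724, 5760, 5880, 5940, 6048, 6072, 6160] = true := by decide +kernel

theorem length4 : witness4.length = 516 := by decide +kernel

variable {G : Type*} [Group G] [Finite G] [IsSimpleGroup G]

theorem mem_orders (hG : ¬ IsMulCommutative G) (h1 : 3640 < Nat.card G) (h2 : Nat.card G ≤ 6232) :
    Nat.card G = 4080 ∨ Nat.card G = 5616 ∨ Nat.card G = 6048 ∨ Nat.card G = 6072 := by
  have h3648 := BlockDegrees.card_ne_of_blockBool (n := 3648) hG 19 61 (by decide +kernel)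
  have h3696 := BlockDegrees.card_ne_of_blockBool (n := 3696) hG 11 61 (by decide +kernel)
  have h3744 := BlockDegrees.card_ne_of_blockBool (n := 3744) hG 13 62 (by decide +kernel)
  have h3780 := BlockDegrees.card_ne_of_blockBool (n := 3780) hG 7 62 (by decide +kernel)
  have h3960 := BlockDegrees.card_ne_of_blockBool (n := 3960) hG 11 63 (by decide +kernel)
  have h4160 := BlockDegrees.card_ne_of_blockBool (n := 4160) hG 13 65 (by decide +kernel)
  have h4200 := BlockDegrees.card_ne_of_blockBool (n := 4200) hG 7 65 (by decide +kernel)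
  have h4212 := BlockDegrees.card_ne_of_blockBool (n := 4212) hG 13 65 (by decide +kernel)
  have h4400 := BlockDegrees.card_ne_of_blockBool (n := 4400) hG 11 67 (by decide +kernel)
  have h4536 := BlockDegrees.card_ne_of_blockBool (n := 4536) hG 7 68 (by decide +kernel)
  have h4680 := BlockDegrees.card_ne_of_blockBool (n := 4680) hG 13 69 (by decide +kernel)
  have h4725 := BlockDegrees.card_ne_of_blockBool (n := 4725) hG 7 69 (by decide +kernel)
  have h4760 := BlockDegrees.card_ne_of_blockBool (n := 4760) hG 17 69 (by decide +kernel)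
  have h4800 := BlockDegrees.card_ne_of_blockBool (n := 4800) hG 3 70 (by decide +kernel)
  have h4928 := BlockDegrees.card_ne_of_blockBool (n := 4928) hG 11 71 (by decide +kernel)
  have h4960 := BlockDegrees.card_ne_of_blockBool (n := 4960) hG 31 71 (by decide +kernel)
  have h5104 := BlockDegrees.card_ne_of_blockBool (n := 5104) hG 29 72 (by decide +kernel)
  have h5148 := BlockDegrees.card_ne_of_blockBool (n := 5148) hG 13 72 (by decide +kernel)
  have h5200 := BlockDegrees.card_ne_of_blockBool (n := 5200) hG 13 73 (by decide +kernel)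
  have h5376 := BlockDegrees.card_ne_of_blockBool (n := 5376) hG 7 74 (by decide +kernel)
  have h5472 := BlockDegrees.card_ne_of_blockBool (n := 5472) hG 19 74 (by decide +kernel)
  have h5600 := BlockDegrees.card_ne_of_blockBool (n := 5600) hG 7 75 (by decide +kernel)
  have h5724 := BlockDegrees.card_ne_of_blockBool (n := 5724) hG 53 76 (by decide +kernel)
  have h5880 := BlockDegrees.card_ne_of_blockBool (n := 5880) hG 5 77 (by decide +kernel)
  have h5940 := BlockDegrees.card_ne_of_blockBool (n := 5940) hG 11 78 (by decide +kernel)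
  have h6160 := BlockDegrees.card_ne_of_blockBool (n := 6160) hG 11 79 (by decide +kernel)
  have h4032 := BlockDegrees.card_ne_4032 hG
  have h4320 := BlockDegrees.card_ne_4320 (G := G)
  have h4620 := BlockDegrees.card_ne_4620 (G := G)
  have h5040 := BlockDegrees.card_ne_5040 (G := G)
  have h5400 := O5400.card_ne (G := G)
  have h5460 := BlockDegrees.card_ne_5460 (G := G)
  have h5760 := BlockDegrees.card_ne_5760 hG
  have h5184 : Nat.card G ≠ 2 ^ 6 * 3 ^ 4 := fun h => hG ⟨⟨IsSimpleGroup.comm_iff_isSolvable.mpr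
    (Cfsg.Agent.CharApp.isSolvable_of_card_eq_prime_pow_mul 2 3 Nat.prime_two Nat.prime_three
      _ G rfl 6 4 h)⟩⟩
  have hmem : Nat.card G ∈ [3648, 3696, 3744, 3780, 3960, 4032, 4080, 4160, 4200, 4212, 4320, 4400, 4536, 4620, 4680, 4725, 4760, 4800, 4928, 4960, 5040, 5104, 5148, 5184, 5200, 5376, 5400, 5460, 5472, 5600, 5616, 5724, 5760, 5880, 5940, 6048, 6072, 6160] := by
    rcases Nat.lt_or_ge (Nat.card G) 4160 with h | h
    · have := mem_of_coverBool hG witness0 3641 _ cover0 (by omega) (by rw [length0]; omega)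
      simp only [List.mem_cons, List.mem_nil_iff, or_false] at this ⊢
      omega
    rcases Nat.lt_or_ge (Nat.card G) 4679 with h | h
    · have := mem_of_coverBool hG witness1 4160 _ cover1 (by omega) (by rw [length1]; omega)
      simp only [List.mem_cons, List.mem_nil_iff, or_false] at this ⊢
      omega
    rcases Nat.lt_or_ge (Nat.card G) 5198 with h | h
    · have := mem_of_coverBool hG witness2 4679 _ cover2 (by omega) (by rw [length2]; omega)
      simp only [List.mem_cons, List.mem_nil_iff, or_false] at this ⊢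
      omega
    rcases Nat.lt_or_ge (Nat.card G) 5717 with h | h
    · have := mem_of_coverBool hG witness3 5198 _ cover3 (by omega) (by rw [length3]; omega)
      simp only [List.mem_cons, List.mem_nil_iff, or_false] at this ⊢
      omega
    have := mem_of_coverBool hG witness4 5717 _ cover4 (by omega) (by rw [length4]; omega)
    simp only [List.mem_cons, List.mem_nil_iff, or_false] at this ⊢
    omega
  simp only [List.mem_cons, List.mem_nil_iff, or_false] at hmem
  omega

end Cfsg.Agent.SmallOrders.Below6232
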