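-- Eleven orders between 1093 and 3640 that the kernel-checkable criteria leave open.
--
-- * `card_ne_1344` … `card_ne_3600`
import Cfsg.Agent.Lib.SmallOrders.BlockDegrees.Orders2
import Cfsg.Agent.Lib.SmallOrders.BlockDegrees.Orders
import Cfsg.Agent.Lib.SmallOrders.ThreePrime.PrimeTriple
import Cfsg.Agent.Lib.SmallOrders.SqSylow
import Cfsg.Agent.Lib.SmallOrders.Tools
import Cfsg.Agent.Lib.Involution.IndexTwo
import Cfsg.Agent.Lib.PSL2.Existence

set_option autoImplicit false

namespace Cfsg.Agent.SmallOrders.BetweenSpecial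

open Subgroup BlockDegrees
open scoped commutatorElement

variable {G : Type*} [Group G] [Finite G] [IsSimpleGroup G]

theorem card_ne_1344 (hG : ¬ IsMulCommutative G) : Nat.card G ≠ 1344 := by
  intro h
  have hc : ¬ IsCyclic G := fun hc => hG (by have := hc; infer_instance)
  rcases ThreePrime.psl_five_or_seven (b := 6) hc (by norm_num : Nat.Prime 3) Nat.prime_two
    (by norm_num : Nat.Prime 7) (by norm_num) (by norm_num) (by norm_num) (by rw [h]; norm_num)
    with h' | ⟨F, _, _, hF, ⟨e⟩⟩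
  · omega
  · have h1 := Cfsg.Agent.PSL2.card_psl_mul (F := F)
    rw [Nat.card_eq_fintype_card (α := F), hF] at h1
    have h2 := Nat.card_congr e.toEquiv
    rw [h] at h2
    unfold Cfsg.Agent.PSL2.PSL2 at h1
    rw [← h2] at h1
    norm_num at h1

theorem card_ne_1404 (hG : ¬ IsMulCommutative G) : Nat.card G ≠ 1404 := by
  intro h
  have : Fact (Nat.Prime 13) := ⟨by norm_num⟩
  obtain ⟨x, j, hmem, hx, hN, hC⟩ := mem_of_blockBool hG h 13 38 [(27, 4)] (by decide +kernel)
  simp only [List.mem_singleton, Prod.mk.injEq] at hmem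
  obtain ⟨hd, rfl⟩ := hmem
  rw [hd] at hN
  have hN' : Nat.card (normalizer (zpowers x : Set G)) = 13 * 1 * 4 := by omega
  have hC' : Nat.card (centralizer ({x} : Set G)) = 13 * 1 := by omega
  obtain ⟨t, ht, htx⟩ := exists_inverting hx (by norm_num) (by norm_num) hC' hN'
  exact false_of_invBool' (q := 1) (pos := true) (R := 38) hG h (by norm_num) hx (by norm_num) hC' hN'
    (Or.inl le_rfl) (by decide +kernel) ht (one_dvd _) fun _ => ⟨t, IsConj.refl t, htx⟩

omit [IsSimpleGroup G] in
/-- In `N(⟨x⟩)` an element has at most `|C(x)|` conjugates. -/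
theorem exists_dvd_centralizer {x t : G} (ht : t ∈ normalizer (zpowers x : Set G)) :
    ∃ k, k ∣ Nat.card (centralizer ({t} : Set G)) ∧
      k ∣ Nat.card (normalizer (zpowers x : Set G)) ∧
      Nat.card (normalizer (zpowers x : Set G)) ≤ k * Nat.card (centralizer ({x} : Set G)) := by
  classical
  set N := normalizer (zpowers x : Set G) with hN
  set T := (centralizer ({t} : Set G)).subgroupOf N with hT
  have hpow : ∀ g ∈ N, ∃ i : ℤ, g * x * g⁻¹ = x ^ i := fun g hg =>
    (mem_zpowers_iff.mp ((mem_normalizer_iff.mp hg x).mp (mem_zpowers x))).imp fun _ h => h.symm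
  have hcom : ∀ g ∈ N, g * t * g⁻¹ * t⁻¹ ∈ centralizer ({x} : Set G) := by
    intro g hg
    obtain ⟨i, hi⟩ := hpow g hg
    obtain ⟨j, hj⟩ := hpow t ht
    have hgt : (g * t) * x * (g * t)⁻¹ = (t * g) * x * (t * g)⁻¹ := by
      calc (g * t) * x * (g * t)⁻¹ = g * (t * x * t⁻¹) * g⁻¹ := by group
        _ = x ^ (i * j) := by rw [hj, ← conj_zpow, hi, zpow_mul]
        _ = t * (g * x * g⁻¹) * t⁻¹ := by rw [hi, ← conj_zpow, hj, ← zpow_mul, mul_comm]
        _ = (t * g) * x * (t * g)⁻¹ := by group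
    refine mem_centralizer_singleton_iff.mpr ?_
    have : (t * g)⁻¹ * (g * t) * x = x * ((t * g)⁻¹ * (g * t)) := by
      have := congrArg (fun z => (t * g)⁻¹ * z * (g * t)) hgt
      simpa [mul_assoc] using this
    have h2 : g * t * g⁻¹ * t⁻¹ = (t * g) * ((t * g)⁻¹ * (g * t)) * (t * g)⁻¹ := by group
    obtain ⟨l, hl⟩ := hpow (t * g) (mul_mem ht hg)
    have h3 : Commute (g * t * g⁻¹ * t⁻¹) (x ^ l) := by
      rw [h2, ← hl]
      exact (show Commute ((t * g)⁻¹ * (g * t)) x from this).map (MulAut.conj (t * g))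
    have hgen : x ∈ zpowers (x ^ l) := by
      have hle : zpowers (x ^ l) ≤ zpowers x := zpowers_le.mpr (zpow_mem (mem_zpowers x) l)
      have hc : orderOf (x ^ l) = orderOf x := by
        rw [← hl]; exact (MulAut.conj (t * g)).orderOf_eq x
      rw [eq_of_le_of_card_ge hle (by rw [Nat.card_zpowers, Nat.card_zpowers, hc])]
      exact mem_zpowers x
    obtain ⟨m, hm⟩ := mem_zpowers_iff.mp hgen
    have h4 := (h3.zpow_right m).eq
    rwa [hm] at h4
  refine ⟨Nat.card T, ?_, card_subgroup_dvd_card T, ?_⟩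
  · rw [← card_map_of_injective (K := T) N.subtype_injective]
    exact card_dvd_of_le (map_comap_le _ _)
  · rw [← T.card_mul_index]
    refine Nat.mul_le_mul_left _ ?_
    refine Nat.card_le_card_of_injective (α := ↥N ⧸ T)
      (fun q => (⟨_, hcom q.out q.out.2⟩ : centralizer ({x} : Set G))) fun a b hab => ?_
    have h1 : (a.out : G) * t * (a.out : G)⁻¹ = (b.out : G) * t * (b.out : G)⁻¹ :=
      mul_right_cancel (congrArg Subtype.val hab)
    rw [← a.out_eq', ← b.out_eq']
    refine QuotientGroup.eq.mpr (mem_subgroupOf.mpr (mem_centralizer_singleton_iff.mpr ?_))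
    simp only [Subgroup.coe_mul, Subgroup.coe_inv]
    calc (a.out : G)⁻¹ * b.out * t = (a.out : G)⁻¹ * ((b.out : G) * t * (b.out : G)⁻¹) * b.out := by group
      _ = (a.out : G)⁻¹ * ((a.out : G) * t * (a.out : G)⁻¹) * b.out := by rw [h1]
      _ = t * ((a.out : G)⁻¹ * b.out) := by group

theorem card_ne_1512 (hG : ¬ IsMulCommutative G) : Nat.card G ≠ 1512 := by
  intro h
  have : Fact (Nat.Prime 7) := ⟨by norm_num⟩
  obtain ⟨x, j, hmem, hx, hN, hC⟩ := mem_of_blockBool hG h 7 39 [(36, 6)] (by decide +kernel)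
  simp only [List.mem_singleton, Prod.mk.injEq] at hmem
  obtain ⟨hd, rfl⟩ := hmem
  rw [hd] at hN
  have hN' : Nat.card (normalizer (zpowers x : Set G)) = 7 * 1 * 6 := by omega
  have hC' : Nat.card (centralizer ({x} : Set G)) = 7 * 1 := by omega
  obtain ⟨t, ht, htx⟩ := exists_inverting hx (by norm_num) (by norm_num) hC' hN'
  have htN : t ∈ normalizer (zpowers x : Set G) := mem_normalizer_iff.mpr fun y => by
    have htt : t⁻¹ = t := inv_eq_of_mul_eq_one_right (by rw [← pow_two, ← ht, pow_orderOf_eq_one])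
    constructor
    · intro hy
      obtain ⟨i, rfl⟩ := mem_zpowers_iff.mp hy
      rw [← conj_zpow, htx]
      exact zpow_mem (inv_mem (mem_zpowers x)) i
    · intro hy
      obtain ⟨i, hi⟩ := mem_zpowers_iff.mp hy
      have : y = t * (t * y * t⁻¹) * t⁻¹ := by
        rw [htt, show t * (t * y * t) * t = (t * t) * y * (t * t) by group,
          show t * t = 1 by rw [← pow_two, ← ht, pow_orderOf_eq_one], one_mul, mul_one]
      rw [this, ← hi, ← conj_zpow, htx]
      exact zpow_mem (inv_mem (mem_zpowers x)) i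
  obtain ⟨k, hk1, hk2, hk3⟩ := exists_dvd_centralizer htN
  have h3 : 3 ∣ k := by
    rw [hN'] at hk2 hk3; rw [hC'] at hk3
    norm_num at hk2 hk3
    have : k ≤ 42 := Nat.le_of_dvd (by norm_num) hk2
    by_contra h3
    have : k ∣ 14 := (Nat.Coprime.dvd_of_dvd_mul_right (m := 14) (n := 3)
      ((Nat.prime_three.coprime_iff_not_dvd.mpr h3).symm) hk2)
    have h7 : ¬ 7 ∣ k := by
      intro h7
      obtain ⟨⟨b, hb⟩, hbo⟩ := exists_prime_orderOf_dvd_card' 7 (h7.trans hk1)
      rw [orderOf_mk] at hbo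
      have h7C := orderOf_dvd_natCard _ (show t ∈ centralizer ({b} : Set G) from
        mem_centralizer_singleton_iff.mpr (mem_centralizer_singleton_iff.mp hb).symm)
      have hP7 : ∀ P : Sylow 7 G, Nat.card (P : Subgroup G) = 7 := fun P => by
        rw [card_sylow_subgroup (p := 7) (e := 1) (m := 216) (by rw [h]; norm_num) (by norm_num) P,
          pow_one]
      obtain ⟨P, hP⟩ := exists_sylow_eq_zpowers hP7 hbo
      obtain ⟨P', hP'⟩ := exists_sylow_eq_zpowers hP7 hx
      obtain ⟨g, hg⟩ := MulAction.exists_smul_eq G P P'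
      have hgb : zpowers (g * b * g⁻¹) = zpowers x := by
        rw [← hP', ← hg, show ((g • P : Sylow 7 G) : Subgroup G) =
          (P : Subgroup G).map (MulAut.conj g).toMonoidHom from rfl, hP, MonoidHom.map_zpowers]
        rfl
      have hgt : g * t * g⁻¹ ∈ centralizer ({x} : Set G) := by
        rw [← centralizer_zpowers, ← hgb, centralizer_zpowers]
        exact mem_centralizer_singleton_iff.mpr
          ((show Commute b t from mem_centralizer_singleton_iff.mp hb).map (MulAut.conj g)).eq.symm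
      have h2 := orderOf_dvd_natCard _ hgt
      rw [hC', show orderOf (g * t * g⁻¹) = 2 from ht ▸ (MulAut.conj g).orderOf_eq t] at h2
      norm_num at h2
    have : k ∣ 2 := (Nat.Coprime.dvd_of_dvd_mul_right (m := 2) (n := 7)
      ((by norm_num : Nat.Prime 7).coprime_iff_not_dvd.mpr h7).symm this)
    have := Nat.le_of_dvd two_pos this
    omega
  exact false_of_invBool' (q := 3) (pos := true) (R := 39) hG h (by norm_num) hx (by norm_num) hC' hN'
    (Or.inl le_rfl) (by decide +kernel) ht (h3.trans hk1) fun _ => ⟨t, IsConj.refl t, htx⟩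

theorem card_ne_1620 (hG : ¬ IsMulCommutative G) : Nat.card G ≠ 1620 := by
  intro h
  have : Fact (Nat.Prime 5) := ⟨by norm_num⟩
  obtain ⟨x, j, hmem, hx, hN, hC⟩ := mem_of_blockBool hG h 5 41 [(81, 4)] (by decide +kernel)
  simp only [List.mem_singleton, Prod.mk.injEq] at hmem
  obtain ⟨hd, rfl⟩ := hmem
  rw [hd] at hN
  have hN' : Nat.card (normalizer (zpowers x : Set G)) = 5 * 1 * 4 := by omega
  have hC' : Nat.card (centralizer ({x} : Set G)) = 5 * 1 := by omega
  obtain ⟨t, ht, htx⟩ := exists_inverting hx (by norm_num) (by norm_num) hC' hN'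
  exact false_of_invBool' (q := 1) (pos := true) (R := 41) hG h (by norm_num) hx (by norm_num) hC' hN'
    (Or.inl le_rfl) (by decide +kernel) ht (one_dvd _) fun _ => ⟨t, IsConj.refl t, htx⟩

theorem card_ne_1680 (hG : ¬ IsMulCommutative G) : Nat.card G ≠ 1680 := by
  intro h
  have : Fact (Nat.Prime 5) := ⟨by norm_num⟩
  obtain ⟨x, j, hmem, -⟩ := mem_of_blockBool hG h 5 41 [(21, 4)] (by decide +kernel)
  simp only [List.mem_singleton, Prod.mk.injEq] at hmem
  exact TwentyOne.card_sylow_five_ne _ G rfl hmem.1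

theorem card_ne_2160 (hG : ¬ IsMulCommutative G) : Nat.card G ≠ 2160 := by
  intro h
  have : Fact (Nat.Prime 5) := ⟨by norm_num⟩
  have : Fact (Nat.Prime 2) := ⟨Nat.prime_two⟩
  obtain ⟨x, j, hmem, hx, hN, hC⟩ := mem_of_blockBool hG h 5 47 [(216, 2)] (by decide +kernel)
  simp only [List.mem_singleton, Prod.mk.injEq] at hmem
  obtain ⟨hd, rfl⟩ := hmem
  rw [hd] at hN
  obtain ⟨t, ht, hT⟩ := card_sylow_dvd_centralizer (G := G) (p := 2) (by rw [h]; norm_num)
  have h16 : 16 ∣ Nat.card (centralizer ({t} : Set G)) := by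
    obtain ⟨P⟩ := (inferInstance : Nonempty (Sylow 2 G))
    have hm := card_sylow_subgroup (p := 2) (e := 4) (m := 135) (by rw [h]; norm_num) (by norm_num) P
    rw [Sylow.card_eq_multiplicity] at hm
    rw [hm] at hT
    simpa using hT
  exact false_of_invBool' (c := 1) (e := 2) (q := 16) (pos := false) (R := 47) hG h (by norm_num) hx
    (by norm_num) (by omega) (by omega) (Or.inl le_rfl) (by decide +kernel) ht h16 (by simp)

theorem card_ne_2400 (hG : ¬ IsMulCommutative G) : Nat.card G ≠ 2400 := by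
  intro h
  have : Fact (Nat.Prime 3) := ⟨Nat.prime_three⟩
  obtain ⟨x, j, hmem, hx, hN, hC⟩ := mem_of_blockBool hG h 3 49 [(400, 2)] (by decide +kernel)
  simp only [List.mem_singleton, Prod.mk.injEq] at hmem
  obtain ⟨hd, rfl⟩ := hmem
  rw [hd] at hN
  obtain ⟨t, ht⟩ := exists_prime_orderOf_dvd_card' (G := G) 2 (hp := ⟨Nat.prime_two⟩)
    (by rw [h]; norm_num)
  exact false_of_invBool' (c := 1) (e := 2) (q := 1) (pos := false) (R := 49) hG h (by norm_num) hx
    (by norm_num) (by omega) (by omega) (Or.inl le_rfl) (by decide +kernel) ht (one_dvd _) (by simp)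

theorem card_ne_3360 (hG : ¬ IsMulCommutative G) : Nat.card G ≠ 3360 := by
  intro h
  have : Fact (Nat.Prime 7) := ⟨by norm_num⟩
  obtain ⟨x, j, hmem, hx, hN, hC⟩ := mem_of_blockBool hG h 7 58 [(120, 2)] (by decide +kernel)
  simp only [List.mem_singleton, Prod.mk.injEq] at hmem
  obtain ⟨hd, rfl⟩ := hmem
  rw [hd] at hN
  obtain ⟨t, ht, h7⟩ := exists_commuting_involution (x := x) (by omega)
  exact false_of_invBool' (c := 2) (e := 2) (lo := 14) (q := 7) (pos := false) (R := 58) hG h
    (by norm_num) hx (by norm_num) (by omega) (by omega) (Or.inr ⟨by norm_num, le_rfl⟩)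
    (by decide +kernel) ht (hx ▸ h7) (by simp)

omit [IsSimpleGroup G] in
/-- A group of order 150 does not have six Sylow 5-subgroups. -/
theorem card_sylow_five_of_150 [Fact (Nat.Prime 5)] (h : Nat.card G = 150) :
    Nat.card (Sylow 5 G) = 1 := by
  have : Fact (Nat.Prime 2) := ⟨Nat.prime_two⟩
  obtain ⟨T⟩ := (inferInstance : Nonempty (Sylow 2 G))
  have hT : Nat.card (T : Subgroup G) = 2 := by
    rw [card_sylow_subgroup (p := 2) (e := 1) (m := 75) (by rw [h]; norm_num) (by norm_num) T, pow_one]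
  obtain ⟨H, hH⟩ := Cfsg.Agent.Involution.exists_index_two (by rw [h]; exact ⟨75, rfl⟩) T
    (isCyclic_of_prime_card hT)
  have hHn : H.Normal := normal_of_index_eq_two hH
  have hHc : Nat.card H = 75 := by
    have := H.card_mul_index; rw [hH, h] at this; omega
  have hn : Nat.card (Sylow 5 H) = 1 := by
    obtain ⟨P⟩ := (inferInstance : Nonempty (Sylow 5 H))
    have h1 : Nat.card (Sylow 5 H) ∣ 3 :=
      index_sylow (p := 5) (e := 2) (m := 3) (by rw [hHc]; norm_num) (by norm_num) P ▸ P.card_dvd_index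
    have h2 : Nat.card (Sylow 5 H) % 5 = 1 := card_sylow_modEq_one 5 H
    have := Nat.le_of_dvd (by norm_num) h1
    omega
  have : Subsingleton (Sylow 5 H) := Finite.card_le_one_iff_subsingleton.mp hn.le
  have hle : ∀ Q : Sylow 5 G, (Q : Subgroup G) ≤ H := fun Q g hg => by
    obtain ⟨k, hk⟩ := IsPGroup.iff_orderOf.1 Q.isPGroup' ⟨g, hg⟩
    rw [orderOf_mk] at hk
    have h1 := sq_mem_of_index_two hH g
    obtain ⟨m, hm⟩ : ∃ m, g ^ (2 * m) = g := by
      refine ⟨(5 ^ k + 1) / 2, ?_⟩
      have : 2 * ((5 ^ k + 1) / 2) = 5 ^ k + 1 := by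
        have : 5 ^ k % 2 = 1 := by rw [Nat.pow_mod]; norm_num
        omega
      rw [this, pow_succ, ← hk, pow_orderOf_eq_one, one_mul]
    rw [← hm, pow_mul]
    exact pow_mem h1 m
  exact Nat.card_eq_one_iff_unique.mpr ⟨⟨fun R S =>
    Sylow.subtype_injective (hP := hle R) (hQ := hle S) (Subsingleton.elim _ _)⟩, inferInstance⟩

omit [IsSimpleGroup G] in
/-- The centraliser of the intersection of two Sylow subgroups of order 25. -/
theorem card_centralizer_inter [Fact (Nat.Prime 5)] {n m k : ℕ} (hn : Nat.card G = n)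
    (hm : n = 25 * m) (hk : ∀ M : Subgroup G, M ≠ ⊤ → k ≤ M.index)
    (hm5 : ¬ 5 ∣ m) (hsmall : m < k * 16) (h11 : ¬ 11 ∣ m)
    {P Q : Sylow 5 G} (hPQ : P ≠ Q) {D : Subgroup G}
    (hDP : D ≤ (P : Subgroup G)) (hDQ : D ≤ (Q : Subgroup G))
    (hne : centralizer (D : Set G) ≠ ⊤) :
    Nat.card (centralizer (D : Set G)) = 300 ∧
      Nat.card (Sylow 5 (centralizer (D : Set G))) = 6 ∧ (P : Subgroup G) ≤ centralizer (D : Set G) := by
  have hP : ∀ S : Sylow 5 G, Nat.card (S : Subgroup G) = 5 ^ 2 :=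
    card_sylow_subgroup (p := 5) (e := 2) (m := m) (by rw [hn, hm]; norm_num) hm5
  set M := centralizer (D : Set G) with hMdef
  have hle : ∀ S : Sylow 5 G, D ≤ (S : Subgroup G) → (S : Subgroup G) ≤ M := by
    intro S hS x hx
    have hab : IsMulCommutative (S : Subgroup G) :=
      IsPGroup.isMulCommutative_of_card_eq_prime_sq (hP S)
    exact mem_centralizer_iff.mpr fun y hy =>
      congrArg Subtype.val (mul_comm' (⟨y, hS hy⟩ : (S : Subgroup G)) ⟨x, hx⟩)
  have hPM := hle P hDP
  have hQM := hle Q hDQ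
  set P' := P.subtype hPM
  have hP' : Nat.card (P' : Subgroup M) = 25 := by
    rw [P.coe_subtype hPM, Nat.card_congr (subgroupOfEquivOfLe hPM).toEquiv, hP]
    norm_num
  set t := (P' : Subgroup M).index with htdef
  have hMt : Nat.card M = 25 * t := by rw [← hP', htdef, card_mul_index]
  set s := Nat.card (Sylow 5 M) with hsdef
  have hst : s ∣ t := P'.card_dvd_index
  have hs1 : s % 5 = 1 := card_sylow_modEq_one 5 M
  have hs : 1 < s := by
    by_contra hs
    have : Subsingleton (Sylow 5 M) := Finite.card_le_one_iff_subsingleton.mp (by omega)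
    exact hPQ (Sylow.subtype_injective (Subsingleton.elim (P.subtype hPM) (Q.subtype hQM)))
  have hmul : t * M.index = m := by
    have := M.card_mul_index
    rw [hn, hm, hMt, mul_assoc] at this
    omega
  have hidx := hk M hne
  have ht16 : t < 16 := by
    by_contra ht
    have := Nat.mul_le_mul (Nat.not_lt.mp ht) hidx
    rw [hmul] at this
    omega
  have htm : t ∣ m := ⟨_, hmul.symm⟩
  have ht0 : 0 < t := Nat.pos_of_ne_zero index_ne_zero_of_finite
  have hst' := Nat.le_of_dvd ht0 hst
  have ht6 : s = 6 ∧ (t = 6 ∨ t = 12) := by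
    obtain ⟨c, hc⟩ := hst
    have hs' : s = 6 ∨ s = 11 := by omega
    rcases hs' with hs' | hs'
    · rw [hs'] at hc; omega
    · exact absurd ((hs' ▸ Dvd.intro c hc.symm : 11 ∣ t).trans htm) h11
  rcases ht6 with ⟨hs6, e | e⟩
  · exfalso
    have := card_sylow_five_of_150 (G := M) (by rw [hMt, e])
    omega
  · exact ⟨by rw [hMt, e], hs6, hPM⟩

theorem exists_centralizer_inter (hG : ¬ IsMulCommutative G) [Fact (Nat.Prime 5)] {n m : ℕ} (k : ℕ)
    (hn : Nat.card G = n) (hm : n = 25 * m) (hm5 : ¬ 5 ∣ m) (hsmall : m < k * 16) (h11 : ¬ 11 ∣ m)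
    (hk : facBool n k = true) (hmod : ¬ Nat.card (Sylow 5 G) ≡ 1 [MOD 5 ^ 2]) :
    ∃ (P : Sylow 5 G) (D : Subgroup G), D ≤ (P : Subgroup G) ∧ D ≠ ⊥ ∧
      centralizer (D : Set G) ≠ ⊤ ∧ Nat.card (centralizer (D : Set G)) = 300 ∧
      Nat.card (Sylow 5 (centralizer (D : Set G))) = 6 ∧ (P : Subgroup G) ≤ centralizer (D : Set G) := by
  obtain ⟨P, Q, hPQ, hidx⟩ := exists_pair_index_le 5 2 hmod
  have hne : (P : Subgroup G) ⊓ (Q : Subgroup G) ≠ ⊥ := by
    intro hb
    have hb' : (Q : Subgroup G).subgroupOf (P : Subgroup G) = ⊥ := by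
      rw [← inf_subgroupOf_left, hb]; exact bot_subgroupOf _
    rw [hb', index_bot, card_sylow_subgroup (p := 5) (e := 2) (m := m) (by rw [hn, hm]; norm_num) hm5 P]
      at hidx
    norm_num at hidx
  have htop : centralizer (((P : Subgroup G) ⊓ Q : Subgroup G) : Set G) ≠ ⊤ := by
    intro ht
    have hle := centralizer_eq_top_iff_subset.mp ht
    refine hne (le_bot_iff.mp fun z hz => ?_)
    have := hle hz
    rwa [center_eq_bot hG] at this
  refine ⟨P, _, inf_le_left, hne, htop, ?_⟩
  exact card_centralizer_inter hn hm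
    (fun M hM => le_index_of_facBool hG hn k hk hM) hm5 hsmall h11 hPQ inf_le_left inf_le_right htop

theorem card_ne_1800 (hG : ¬ IsMulCommutative G) : Nat.card G ≠ 1800 := by
  intro h
  have : Fact (Nat.Prime 5) := ⟨by norm_num⟩
  have hn : Nat.card (Sylow 5 G) ∈ [36] := mem_of_candBool hG h 5 2 [36] (by decide +kernel)
  simp only [List.mem_singleton] at hn
  obtain ⟨P, D, -, -, -, h300, -⟩ := exists_centralizer_inter hG 9 h (m := 72) (by norm_num)
    (by norm_num) (by norm_num) (by norm_num) (by decide +kernel) (by rw [hn]; decide)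
  have hidx := le_index_of_facBool hG h 9 (by decide +kernel) (M := centralizer (D : Set G))
    (fun ht => by rw [ht, card_top, h] at h300; omega)
  have := (centralizer (D : Set G)).card_mul_index
  rw [h300, h] at this
  omega

theorem card_ne_2700 (hG : ¬ IsMulCommutative G) : Nat.card G ≠ 2700 := by
  intro h
  have : Fact (Nat.Prime 5) := ⟨by norm_num⟩
  have hn : Nat.card (Sylow 5 G) ∈ [36] := mem_of_candBool hG h 5 2 [36] (by decide +kernel)
  simp only [List.mem_singleton] at hn
  obtain ⟨P, D, -, -, -, h300, -⟩ := exists_centralizer_inter hG 10 h (m := 108) (by norm_num)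
    (by norm_num) (by norm_num) (by norm_num) (by decide +kernel) (by rw [hn]; decide)
  have hidx := le_index_of_facBool hG h 10 (by decide +kernel) (M := centralizer (D : Set G))
    (fun ht => by rw [ht, card_top, h] at h300; omega)
  have := (centralizer (D : Set G)).card_mul_index
  rw [h300, h] at this
  omega

theorem card_ne_3600 (hG : ¬ IsMulCommutative G) : Nat.card G ≠ 3600 := by
  intro h
  have : Fact (Nat.Prime 5) := ⟨by norm_num⟩
  have hn : Nat.card (Sylow 5 G) ∈ [16, 36] := mem_of_candBool hG h 5 2 [16, 36] (by decide +kernel)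
  simp only [List.mem_cons, List.not_mem_nil, or_false] at hn
  obtain ⟨P, D, hDP, hD, htop, h300, h6, hPM⟩ := exists_centralizer_inter hG 10 h (m := 144)
    (by norm_num) (by norm_num) (by norm_num) (by norm_num) (by decide +kernel)
    (by rcases hn with hn | hn <;> rw [hn] <;> decide)
  set M := centralizer (D : Set G) with hMdef
  set N := normalizer ((P : Subgroup G) : Set G) with hNdef
  have hNc : Nat.card N * Nat.card (Sylow 5 G) = 3600 := h ▸ card_normalizer_mul_card_sylow P
  -- `|N(P) ⊓ M| = 50`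
  set P' := P.subtype hPM
  have h50 : Nat.card (N ⊓ M : Subgroup G) = 50 := by
    have h1 := card_normalizer_mul_card_sylow P'
    rw [h6, h300] at h1
    have h2 : normalizer ((P' : Subgroup M) : Set M) = N.subgroupOf M := by
      rw [P.coe_subtype hPM, hNdef, subgroupOf_normalizer_eq hPM]
    have h3 : Nat.card (N.subgroupOf M) = Nat.card (N ⊓ M : Subgroup G) := by
      rw [← inf_subgroupOf_right]
      exact Nat.card_congr (subgroupOfEquivOfLe inf_le_right).toEquiv
    rw [h2, h3] at h1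
    omega
  have hdvd : 50 ∣ Nat.card N := h50 ▸ card_dvd_of_le inf_le_left
  rcases hn with hn | hn <;> rw [hn] at hNc
  · omega
  have hN100 : Nat.card N = 100 := by omega
  set E := (N ⊓ M).subgroupOf N with hE
  have hEi : E.index = 2 := by
    have h1 := E.card_mul_index
    rw [hE, Nat.card_congr (subgroupOfEquivOfLe (inf_le_left : N ⊓ M ≤ N)).toEquiv, h50, hN100] at h1
    rw [hE]; omega
  have hsq : ∀ g ∈ N, g * g ∈ M := fun g hg => by
    have := sq_mem_of_index_two hEi (⟨g, hg⟩ : N)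
    rw [hE, mem_subgroupOf] at this
    rw [← pow_two]; exact this.2
  have hEn : ∀ g ∈ N, ∀ e ∈ N ⊓ M, g⁻¹ * e * g ∈ N ⊓ M := fun g hg e he => by
    have := (normal_of_index_eq_two hEi).conj_mem (⟨e, he.1⟩ : N) (by rw [mem_subgroupOf]; exact he)
      ⟨g⁻¹, inv_mem hg⟩
    rw [mem_subgroupOf] at this
    simpa using this
  have hPab : IsMulCommutative (P : Subgroup G) := IsPGroup.isMulCommutative_of_card_eq_prime_sq
    (card_sylow_subgroup (p := 5) (e := 2) (m := 144) (by rw [h]; norm_num) (by norm_num) P)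
  obtain ⟨g, hgN, hgM⟩ : ∃ g ∈ N, g ∉ M := by
    by_contra! hle
    have : N ⊓ M = N := inf_eq_left.mpr hle
    rw [this, hN100] at h50
    omega
  -- `g` inverts `D`
  have hinv : ∀ z ∈ D, g * z * g⁻¹ = z⁻¹ := by
    intro z hz
    have hgz : g * z * g⁻¹ ∈ (P : Subgroup G) := (mem_normalizer_iff.mp hgN z).mp (hDP hz)
    have hfix : ∀ e ∈ N ⊓ M, Commute e (g * z * g⁻¹) := fun e he => by
      have h1 : Commute (g⁻¹ * e * g) z :=
        (mem_centralizer_iff.mp (hEn g hgN e he).2 z hz).symm
      have := h1.map (MulAut.conj g)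
      simpa [MulAut.conj_apply, mul_assoc] using this
    have hgg : g * g * z * (g * g)⁻¹ = z := by
      rw [mul_inv_eq_iff_eq_mul]
      exact (mem_centralizer_iff.mp (hsq g hgN) z hz).symm
    have hcomm : z * (g * z * g⁻¹) = g * z * g⁻¹ * z :=
      congrArg Subtype.val (mul_comm' (⟨z, hDP hz⟩ : (P : Subgroup G)) ⟨_, hgz⟩)
    have hone := eq_one_of_abelian_fixed hG P hPab (mul_mem (hDP hz) hgz) (fun n hn => by
      by_cases hnM : n ∈ M
      · have h1 : Commute n z := (mem_centralizer_iff.mp hnM z hz).symm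
        rw [mul_inv_eq_iff_eq_mul]
        exact (h1.mul_right (hfix n ⟨hn, hnM⟩)).eq
      · have h1 : n * g⁻¹ ∈ N ⊓ M := by
          have := (mul_mem_iff_of_index_two hEi (a := ⟨n, hn⟩) (b := ⟨g⁻¹, inv_mem hgN⟩)).mpr (by
            simp only [hE, mem_subgroupOf, mem_inf, inv_mem_iff]
            exact ⟨fun h => absurd h.2 hnM, fun h => absurd h.2 hgM⟩)
          rw [hE, mem_subgroupOf] at this
          exact this
        have h2 : g * (z * (g * z * g⁻¹)) * g⁻¹ = z * (g * z * g⁻¹) := by
          calc g * (z * (g * z * g⁻¹)) * g⁻¹ = (g * z * g⁻¹) * (g * g * z * (g * g)⁻¹) := by group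
            _ = z * (g * z * g⁻¹) := by rw [hgg, hcomm]
        have h3 : Commute (n * g⁻¹) (z * (g * z * g⁻¹)) :=
          (mem_centralizer_iff.mp h1.2 z hz).symm.trans rfl |> fun (e : Commute (n * g⁻¹) z) =>
            e.mul_right (hfix _ h1)
        calc n * (z * (g * z * g⁻¹)) * n⁻¹ = (n * g⁻¹) * (g * (z * (g * z * g⁻¹)) * g⁻¹) * (n * g⁻¹)⁻¹ := by
              group
          _ = (n * g⁻¹) * (z * (g * z * g⁻¹)) * (n * g⁻¹)⁻¹ := by rw [h2]
          _ = z * (g * z * g⁻¹) := mul_inv_eq_iff_eq_mul.mpr h3.eq)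
    exact eq_inv_of_mul_eq_one_right hone
  -- so `g` normalises `M = C(D)`
  have hgNM : g ∈ normalizer (M : Set G) := by
    have hfwd : ∀ a : G, a ∈ M → g * a * g⁻¹ ∈ M := fun a ha => mem_centralizer_iff.mpr fun z hz => by
      have h1 : Commute z⁻¹ a := (show Commute z a from mem_centralizer_iff.mp ha z hz).inv_left
      have h2 := h1.map (MulAut.conj g)
      simp only [MulAut.conj_apply] at h2
      rw [← conj_inv, hinv z hz, inv_inv] at h2
      exact h2.eq
    have hbwd : ∀ a : G, g * a * g⁻¹ ∈ M → a ∈ M := fun a ha => mem_centralizer_iff.mpr fun z hz => by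
      have h1 : Commute (g * z⁻¹ * g⁻¹) (g * a * g⁻¹) := by
        rw [← conj_inv, hinv z hz, inv_inv]
        exact mem_centralizer_iff.mp ha z hz
      have h2 := h1.map (MulAut.conj g⁻¹)
      simp only [MulAut.conj_apply, inv_inv, mul_assoc, inv_mul_cancel, mul_one,
        inv_mul_cancel_left] at h2
      have h3 := h2.inv_left
      rw [inv_inv] at h3
      exact h3.eq
    exact mem_normalizer_iff.mpr fun a => ⟨hfwd a, hbwd a⟩
  have hlt : M < normalizer (M : Set G) := lt_of_le_of_ne le_normalizer fun e => hgM (e ▸ hgNM)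
  have hntop : normalizer (M : Set G) ≠ ⊤ := fun ht =>
    (normalizer_eq_top_iff.mp ht).eq_bot_or_eq_top.elim
      (fun hb => by rw [hb, card_bot] at h300; omega) htop
  have hidx := le_index_of_facBool hG h 10 (by decide +kernel) hntop
  have h1 := (normalizer (M : Set G)).card_mul_index
  have h2 : 300 ∣ Nat.card (normalizer (M : Set G)) := h300 ▸ card_dvd_of_le hlt.le
  have h3 : Nat.card (normalizer (M : Set G)) ≠ 300 := fun e =>
    hlt.ne (eq_of_le_of_card_ge hlt.le (by rw [e, h300]))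
  obtain ⟨c, hc⟩ := h2
  rw [h, hc] at h1
  have : 2 ≤ c := by
    rcases c with _ | _ | c
    · omega
    · omega
    · omega
  have := Nat.mul_le_mul (Nat.mul_le_mul_left 300 this) hidx
  omega

end Cfsg.Agent.SmallOrders.BetweenSpecial
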