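-- The orders from 1093 to 3640 of non-abelian simple groups.
--
-- * `mem_orders`
import Cfsg.Agent.Lib.SmallOrders.Check2
import Cfsg.Agent.Lib.SmallOrders.BlockDegrees.Criterion
import Cfsg.Agent.Lib.SmallOrders.Orders.BetweenSpecial
import Cfsg.Agent.Lib.CharApp.Burnside

set_option autoImplicit false

namespace Cfsg.Agent.SmallOrders.Between

/-- witnesses `(p, e)` for `n = 1093, …` -/
def witness0 : List (ℕ × ℕ) :=
  [
    (1093, 1), (547, 1), (73, 1), (137, 1), (1097, 1), (61, 1), (157, 1), (11, 1), (367, 1),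
    (29, 1), (1103, 1), (23, 1), (17, 1), (79, 1), (41, 1), (277, 1), (1109, 1), (37, 1), (101, 1),
    (139, 1), (53, 1), (557, 1), (223, 1), (31, 1), (1117, 1), (43, 1), (373, 1), (7, 1), (59, 1),
    (17, 1), (1123, 1), (281, 1), (5, 3), (563, 1), (23, 1), (47, 1), (1129, 1), (113, 1), (29, 1),
    (283, 1), (103, 1), (7, 1), (227, 1), (71, 1), (379, 1), (569, 1), (67, 1), (5, 1), (163, 1),
    (571, 1), (127, 1), (13, 1), (229, 1), (191, 1), (37, 1), (41, 1), (383, 1), (23, 1), (1151, 1),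
    (2, 7), (1153, 1), (577, 1), (11, 1), (17, 2), (89, 1), (193, 1), (61, 1), (29, 1), (43, 1),
    (83, 1), (1163, 1), (97, 1), (233, 1), (53, 1), (389, 1), (73, 1), (167, 1), (13, 1), (1171, 1),
    (293, 1), (23, 1), (587, 1), (47, 1), (7, 2), (107, 1), (31, 1), (131, 1), (59, 1), (1181, 1),
    (197, 1), (13, 2), (37, 1), (79, 1), (593, 1), (1187, 1), (11, 1), (41, 1), (5, 1), (397, 1),
    (149, 1), (1193, 1), (199, 1), (239, 1), (23, 1), (19, 1), (599, 1), (109, 1), (5, 2),
    (1201, 1), (601, 1), (401, 1), (43, 1), (241, 1), (67, 1), (71, 1), (151, 1), (31, 1), (11, 2),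
    (173, 1), (101, 1), (1213, 1), (607, 1), (5, 1), (19, 1), (1217, 1), (29, 1), (53, 1), (61, 1),
    (37, 1), (47, 1), (1223, 1), (2, 1), (7, 2), (613, 1), (409, 1), (307, 1), (1229, 1), (41, 1),
    (1231, 1), (2, 1), (137, 1), (617, 1), (19, 1), (103, 1), (1237, 1), (619, 1), (59, 1), (31, 1),
    (73, 1), (23, 1), (113, 1), (311, 1), (83, 1), (89, 1), (43, 1), (13, 1), (1249, 1), (5, 4),
    (139, 1), (313, 1), (179, 1), (19, 1), (251, 1), (157, 1), (419, 1), (37, 1), (1259, 1), (2, 1),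
    (97, 1), (631, 1), (421, 1), (79, 1), (23, 1), (211, 1), (181, 1), (317, 1), (47, 1), (127, 1),
    (41, 1), (53, 1), (67, 1), (13, 1), (17, 1), (29, 1), (1277, 1), (71, 1), (1279, 1), (2, 8),
    (61, 1), (641, 1), (1283, 1), (107, 1), (257, 1), (643, 1), (13, 1), (23, 1), (1289, 1),
    (43, 1), (1291, 1), (19, 1), (431, 1), (647, 1), (37, 1), (3, 4), (1297, 1), (59, 1), (433, 1),
    (13, 1), (1301, 1), (31, 1), (1303, 1), (163, 1), (29, 1), (653, 1), (1307, 1), (109, 1),
    (17, 1), (131, 1), (23, 1), (41, 1), (101, 1), (73, 1), (263, 1), (47, 1), (439, 1), (659, 1),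
    (1319, 1), (11, 1), (1321, 1), (661, 1), (7, 2), (331, 1), (53, 1), (17, 1), (1327, 1), (83, 1),
    (443, 1), (19, 1), (11, 3), (37, 1), (43, 1), (29, 1), (89, 1), (167, 1), (191, 1), (223, 1),
    (103, 1), (67, 1), (149, 1), (61, 1), (79, 1), (2, 1), (269, 1), (673, 1), (449, 1), (337, 1),
    (71, 1), (5, 2), (193, 1), (13, 2), (41, 1), (677, 1), (271, 1), (113, 1), (59, 1), (97, 1),
    (151, 1), (17, 1), (1361, 1), (227, 1), (47, 1), (31, 1), (13, 1), (683, 1), (1367, 1), (19, 1),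
    (37, 2), (137, 1), (457, 1), (7, 3), (1373, 1), (229, 1), (11, 1), (43, 1), (17, 1), (53, 1),
    (197, 1), (23, 1), (1381, 1), (691, 1), (461, 1), (173, 1), (277, 1), (11, 1), (73, 1),
    (347, 1), (463, 1), (139, 1), (107, 1), (29, 1), (199, 1), (41, 1), (31, 1), (349, 1), (127, 1),
    (233, 1), (1399, 1), (5, 2), (467, 1), (701, 1), (61, 1), (2, 1), (281, 1), (37, 1), (67, 1),
    (11, 1), (1409, 1), (47, 1), (83, 1), (353, 1), (157, 1), (101, 1), (283, 1), (59, 1), (109, 1),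
    (709, 1), (43, 1), (71, 1), (29, 1), (79, 1), (1423, 1), (89, 1), (19, 1), (31, 1), (1427, 1),
    (17, 1), (1429, 1), (13, 1), (53, 1), (179, 1), (1433, 1), (239, 1), (41, 1), (359, 1),
    (479, 1), (719, 1), (1439, 1), (2, 1), (131, 1), (103, 1), (37, 1), (19, 2), (17, 2), (241, 1),
    (1447, 1), (181, 1), (23, 1), (29, 1), (1451, 1), (11, 2), (1453, 1), (727, 1), (97, 1),
    (13, 1), (47, 1), (3, 6), (1459, 1), (73, 1), (487, 1), (43, 1), (19, 1), (61, 1), (293, 1),
    (733, 1), (163, 1), (367, 1), (113, 1), (7, 2), (1471, 1), (23, 1), (491, 1), (67, 1), (59, 1),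
    (41, 1), (211, 1), (739, 1), (29, 1), (37, 1), (1481, 1), (13, 1), (1483, 1), (53, 1), (11, 1),
    (743, 1), (1487, 1), (31, 1), (1489, 1), (149, 1), (71, 1), (373, 1), (1493, 1), (83, 1),
    (23, 1), (17, 1), (499, 1), (107, 1), (1499, 1), (5, 3), (79, 1), (751, 1), (167, 1), (47, 1),
    (43, 1), (251, 1), (137, 1), (29, 1), (503, 1), (151, 1), (1511, 1), (2, 1), (89, 1), (757, 1),
    (101, 1), (379, 1), (41, 1), (23, 1), (31, 1), (19, 1), (13, 2), (761, 1), (1523, 1), (127, 1),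
    (61, 1), (109, 1), (509, 1), (191, 1), (139, 1), (17, 1), (1531, 1), (383, 1), (73, 1), (59, 1),
    (307, 1), (2, 9), (53, 1), (769, 1), (19, 1), (11, 1), (67, 1), (257, 1), (1543, 1), (193, 1),
    (103, 1), (773, 1), (17, 1), (43, 1), (1549, 1), (31, 1), (47, 1), (97, 1), (1553, 1), (37, 1),
    (311, 1), (389, 1), (173, 1), (41, 1), (1559, 1), (2, 1), (223, 1), (71, 1), (521, 1), (23, 1),
    (313, 1), (29, 1), (1567, 1), (7, 2), (523, 1), (157, 1), (1571, 1), (131, 1), (13, 1),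
    (787, 1), (5, 2), (197, 1), (83, 1), (263, 1), (1579, 1), (79, 1), (31, 1), (113, 1), (1583, 1),
    (11, 1), (317, 1), (61, 1), (23, 2), (397, 1), (227, 1), (53, 1), (43, 1), (199, 1), (59, 1),
    (797, 1), (29, 1), (19, 1), (1597, 1), (47, 1), (41, 1), (5, 2), (1601, 1), (89, 1)]

theorem cover0 : coverBool 1093 witness0 [1224, 1232, 1260, 1344, 1404, 1440, 1512, 1560] = true := by decide +kernel

theorem length0 : witness0.length = 510 := by decide +kernel

/-- witnesses `(p, e)` for `n = 1603, …` -/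
def witness1 : List (ℕ × ℕ) :=
  [
    (229, 1), (401, 1), (107, 1), (73, 1), (1607, 1), (67, 1), (1609, 1), (23, 1), (179, 1),
    (31, 1), (1613, 1), (269, 1), (19, 1), (101, 1), (11, 1), (809, 1), (1619, 1), (2, 1),
    (1621, 1), (811, 1), (541, 1), (29, 1), (13, 1), (271, 1), (1627, 1), (37, 1), (181, 1),
    (163, 1), (233, 1), (17, 1), (71, 1), (43, 1), (109, 1), (409, 1), (1637, 1), (13, 1), (149, 1),
    (41, 1), (547, 1), (821, 1), (53, 1), (137, 1), (47, 1), (823, 1), (61, 1), (103, 1), (97, 1),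
    (11, 1), (127, 1), (59, 1), (29, 1), (827, 1), (331, 1), (23, 1), (1657, 1), (829, 1), (79, 1),
    (83, 1), (151, 1), (277, 1), (1663, 1), (13, 1), (37, 1), (17, 1), (1667, 1), (139, 1),
    (1669, 1), (167, 1), (557, 1), (19, 1), (239, 1), (31, 1), (67, 1), (419, 1), (43, 1), (839, 1),
    (73, 1), (2, 1), (41, 2), (29, 2), (17, 1), (421, 1), (337, 1), (281, 1), (241, 1), (211, 1),
    (563, 1), (13, 2), (89, 1), (47, 1), (1693, 1), (11, 2), (113, 1), (53, 1), (1697, 1), (283, 1),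
    (1699, 1), (17, 1), (7, 1), (37, 1), (131, 1), (71, 1), (31, 1), (853, 1), (569, 1), (61, 1),
    (1709, 1), (19, 1), (59, 1), (107, 1), (571, 1), (857, 1), (7, 3), (2, 1), (101, 1), (859, 1),
    (191, 1), (43, 1), (1721, 1), (41, 1), (1723, 1), (431, 1), (23, 1), (863, 1), (157, 1), (2, 1),
    (19, 1), (173, 1), (577, 1), (433, 1), (1733, 1), (17, 2), (347, 1), (31, 1), (193, 1), (79, 1),
    (47, 1), (5, 1), (1741, 1), (67, 1), (83, 1), (109, 1), (349, 1), (97, 1), (1747, 1), (23, 1),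
    (53, 1), (7, 1), (103, 1), (73, 1), (1753, 1), (877, 1), (13, 1), (439, 1), (251, 1), (293, 1),
    (1759, 1), (11, 1), (587, 1), (881, 1), (43, 1), (7, 2), (353, 1), (883, 1), (31, 1), (13, 1),
    (61, 1), (59, 1), (23, 1), (443, 1), (197, 1), (887, 1), (71, 1), (37, 1), (1777, 1), (127, 1),
    (593, 1), (89, 1), (137, 1), (11, 1), (1783, 1), (223, 1), (17, 1), (47, 1), (1787, 1),
    (149, 1), (1789, 1), (179, 1), (199, 1), (2, 8), (163, 1), (23, 1), (359, 1), (449, 1),
    (599, 1), (31, 1), (257, 1), (2, 1), (1801, 1), (53, 1), (601, 1), (41, 1), (19, 2), (43, 1),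
    (139, 1), (113, 1), (67, 1), (181, 1), (1811, 1), (151, 1), (37, 1), (907, 1), (11, 2),
    (227, 1), (79, 1), (101, 1), (107, 1), (13, 1), (607, 1), (911, 1), (1823, 1), (19, 1), (73, 1),
    (83, 1), (29, 1), (457, 1), (59, 1), (61, 1), (1831, 1), (229, 1), (47, 1), (131, 1), (367, 1),
    (17, 1), (167, 1), (919, 1), (613, 1), (23, 1), (263, 1), (307, 1), (97, 1), (461, 1), (41, 1),
    (71, 1), (1847, 1), (11, 1), (43, 2), (37, 1), (617, 1), (463, 1), (109, 1), (103, 1), (53, 1),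
    (29, 1), (619, 1), (929, 1), (13, 2), (31, 1), (1861, 1), (19, 1), (23, 1), (233, 1), (373, 1),
    (311, 1), (1867, 1), (467, 1), (89, 1), (17, 1), (1871, 1), (13, 1), (1873, 1), (937, 1),
    (5, 4), (67, 1), (1877, 1), (313, 1), (1879, 1), (47, 1), (19, 1), (941, 1), (269, 1), (157, 1),
    (29, 1), (41, 1), (37, 1), (59, 1), (1889, 1), (2, 1), (61, 1), (43, 1), (631, 1), (947, 1),
    (379, 1), (79, 1), (271, 1), (73, 1), (211, 1), (19, 1), (1901, 1), (317, 1), (173, 1), (17, 1),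
    (127, 1), (953, 1), (1907, 1), (53, 1), (83, 1), (191, 1), (13, 1), (239, 1), (1913, 1),
    (29, 1), (383, 1), (479, 1), (71, 1), (137, 1), (101, 1), (2, 7), (113, 1), (31, 2), (641, 1),
    (37, 1), (11, 1), (107, 1), (47, 1), (241, 1), (643, 1), (193, 1), (1931, 1), (23, 1),
    (1933, 1), (967, 1), (43, 1), (11, 2), (149, 1), (19, 1), (277, 1), (97, 1), (647, 1), (971, 1),
    (67, 1), (3, 5), (389, 1), (139, 1), (59, 1), (487, 1), (1949, 1), (13, 1), (1951, 1), (61, 1),
    (31, 1), (977, 1), (23, 1), (163, 1), (103, 1), (89, 1), (653, 1), (7, 2), (53, 1), (109, 1),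
    (151, 1), (491, 1), (131, 1), (983, 1), (281, 1), (41, 1), (179, 1), (197, 1), (73, 1), (29, 1),
    (1973, 1), (47, 1), (79, 1), (19, 1), (659, 1), (43, 1), (1979, 1), (2, 1), (283, 1), (991, 1),
    (661, 1), (31, 1), (397, 1), (331, 1), (1987, 1), (71, 1), (17, 1), (199, 1), (181, 1), (83, 1),
    (1993, 1), (997, 1), (19, 1), (499, 1), (1997, 1), (37, 1), (1999, 1), (5, 3), (29, 1), (13, 1),
    (2003, 1), (167, 1), (401, 1), (59, 1), (223, 1), (251, 1), (41, 1), (67, 1), (2011, 1),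
    (503, 1), (61, 1), (53, 1), (31, 1), (2, 1), (2017, 1), (1009, 1), (673, 1), (101, 1), (47, 1),
    (337, 1), (17, 2), (23, 1), (5, 2), (1013, 1), (2027, 1), (13, 2), (2029, 1), (29, 1), (677, 1),
    (127, 1), (107, 1), (113, 1), (37, 1), (509, 1), (97, 1), (1019, 1), (2039, 1), (17, 1),
    (157, 1), (1021, 1), (227, 1), (73, 1), (409, 1), (31, 1), (89, 1), (2, 11), (683, 1), (41, 1),
    (293, 1), (19, 1), (2053, 1), (79, 1), (137, 1), (257, 1), (17, 1), (7, 3), (71, 1), (103, 1),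
    (229, 1), (1031, 1), (2063, 1), (43, 1), (59, 1), (1033, 1), (53, 1), (47, 1), (2069, 1),
    (23, 1), (109, 1), (37, 1), (691, 1), (61, 1), (83, 1), (173, 1), (67, 1), (1039, 1), (11, 1),
    (2, 1), (2081, 1), (347, 1), (2083, 1), (521, 1), (139, 1), (149, 1), (2087, 1), (29, 1),
    (2089, 1), (19, 1), (41, 1), (523, 1), (23, 1), (349, 1), (419, 1), (131, 1), (233, 1),
    (1049, 1), (2099, 1), (2, 1), (191, 1), (1051, 1), (701, 1), (263, 1), (421, 1), (3, 4),
    (43, 1), (31, 1), (37, 1), (211, 1), (2111, 1)]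

theorem cover1 : coverBool 1603 witness1 [1620, 1680, 1716, 1728, 1800, 1980, 2016, 2080, 2100] = true := by decide +kernel

theorem length1 : witness1.length = 509 := by decide +kernel

/-- witnesses `(p, e)` for `n = 2112, …` -/
def witness2 : List (ℕ × ℕ) :=
  [
    (11, 1), (2113, 1), (151, 1), (47, 1), (23, 2), (73, 1), (353, 1), (163, 1), (53, 1), (101, 1),
    (1061, 1), (193, 1), (59, 1), (17, 1), (1063, 1), (709, 1), (19, 1), (2129, 1), (71, 1),
    (2131, 1), (41, 1), (79, 1), (97, 1), (61, 1), (89, 1), (2137, 1), (1069, 1), (31, 1), (107, 1),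
    (2141, 1), (17, 1), (2143, 1), (67, 1), (13, 1), (37, 1), (113, 1), (179, 1), (307, 1), (43, 1),
    (239, 1), (269, 1), (2153, 1), (359, 1), (431, 1), (11, 1), (719, 1), (83, 1), (127, 1), (2, 1),
    (2161, 1), (47, 1), (103, 1), (541, 1), (433, 1), (19, 2), (197, 1), (271, 1), (241, 1),
    (31, 1), (167, 1), (181, 1), (53, 1), (1087, 1), (29, 1), (17, 1), (311, 1), (11, 2), (2179, 1),
    (109, 1), (727, 1), (1091, 1), (59, 1), (13, 1), (23, 1), (1093, 1), (3, 7), (547, 1), (199, 1),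
    (73, 1), (313, 1), (137, 1), (43, 1), (1097, 1), (439, 1), (61, 1), (13, 3), (157, 1), (733, 1),
    (2, 1), (71, 1), (367, 1), (2203, 1), (29, 1), (7, 2), (1103, 1), (2207, 1), (23, 1), (47, 2),
    (17, 1), (67, 1), (79, 1), (2213, 1), (41, 1), (443, 1), (277, 1), (739, 1), (1109, 1),
    (317, 1), (37, 1), (2221, 1), (101, 1), (13, 1), (139, 1), (89, 1), (53, 1), (131, 1), (557, 1),
    (743, 1), (223, 1), (97, 1), (31, 1), (29, 1), (1117, 1), (149, 1), (43, 1), (2237, 1),
    (373, 1), (2239, 1), (7, 1), (83, 1), (59, 1), (2243, 1), (17, 1), (449, 1), (1123, 1),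
    (107, 1), (281, 1), (173, 1), (5, 3), (2251, 1), (563, 1), (751, 1), (23, 1), (41, 1), (47, 1),
    (61, 1), (1129, 1), (251, 1), (113, 1), (19, 1), (29, 1), (73, 1), (283, 1), (151, 1), (103, 1),
    (2267, 1), (2, 1), (2269, 1), (227, 1), (757, 1), (71, 1), (2273, 1), (379, 1), (13, 1),
    (569, 1), (23, 1), (67, 1), (53, 1), (19, 1), (2281, 1), (163, 1), (761, 1), (571, 1), (457, 1),
    (127, 1), (2287, 1), (13, 1), (109, 1), (229, 1), (79, 1), (191, 1), (2293, 1), (37, 1),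
    (17, 1), (41, 1), (2297, 1), (383, 1), (19, 1), (23, 1), (59, 1), (1151, 1), (47, 1), (2, 8),
    (461, 1), (1153, 1), (769, 1), (577, 1), (2309, 1), (11, 1), (2311, 1), (17, 2), (257, 1),
    (89, 1), (463, 1), (193, 1), (331, 1), (61, 1), (773, 1), (29, 1), (211, 1), (43, 1), (101, 1),
    (83, 1), (31, 1), (1163, 1), (179, 1), (97, 1), (137, 1), (233, 1), (37, 1), (53, 1), (2333, 1),
    (389, 1), (467, 1), (73, 1), (41, 1), (167, 1), (2339, 1), (13, 1), (2341, 1), (1171, 1),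
    (71, 1), (293, 1), (67, 1), (23, 1), (2347, 1), (587, 1), (29, 1), (47, 1), (2351, 1), (7, 2),
    (181, 1), (107, 1), (157, 1), (31, 1), (2357, 1), (131, 1), (337, 1), (59, 1), (787, 1),
    (1181, 1), (139, 1), (197, 1), (43, 1), (13, 2), (263, 1), (37, 1), (103, 1), (79, 1),
    (2371, 1), (593, 1), (113, 1), (1187, 1), (19, 1), (11, 1), (2377, 1), (41, 1), (61, 1), (5, 1),
    (2381, 1), (397, 1), (2383, 1), (149, 1), (53, 1), (1193, 1), (31, 1), (199, 1), (2389, 1),
    (239, 1), (797, 1), (23, 1), (2393, 1), (19, 1), (479, 1), (599, 1), (47, 1), (109, 1),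
    (2399, 1), (2, 1), (7, 4), (1201, 1), (89, 1), (601, 1), (37, 1), (401, 1), (83, 1), (43, 1),
    (73, 1), (241, 1), (2411, 1), (67, 1), (127, 1), (71, 1), (23, 1), (151, 1), (2417, 1), (31, 1),
    (59, 1), (11, 2), (269, 1), (173, 1), (2423, 1), (101, 1), (97, 1), (1213, 1), (809, 1),
    (607, 1), (347, 1), (3, 5), (17, 1), (19, 1), (811, 1), (1217, 1), (487, 1), (29, 1), (2437, 1),
    (53, 1), (271, 1), (61, 1), (2441, 1), (37, 1), (349, 1), (47, 1), (163, 1), (1223, 1),
    (2447, 1), (2, 1), (79, 1), (7, 2), (43, 1), (613, 1), (223, 1), (409, 1), (491, 1), (307, 1),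
    (13, 1), (1229, 1), (2459, 1), (41, 1), (107, 1), (1231, 1), (821, 1), (2, 1), (29, 1),
    (137, 1), (2467, 1), (617, 1), (823, 1), (19, 1), (353, 1), (103, 1), (2473, 1), (1237, 1),
    (3, 2), (619, 1), (2477, 1), (59, 1), (67, 1), (31, 1), (827, 1), (73, 1), (191, 1), (23, 1),
    (71, 1), (113, 1), (829, 1), (311, 1), (131, 1), (83, 1), (53, 1), (89, 1), (277, 1), (43, 1),
    (499, 1), (13, 1), (227, 1), (1249, 1), (17, 1), (5, 4), (61, 1), (139, 1), (2503, 1), (313, 1),
    (167, 1), (179, 1), (109, 1), (19, 1), (193, 1), (251, 1), (31, 1), (157, 1), (359, 1),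
    (419, 1), (503, 1), (37, 1), (839, 1), (1259, 1), (229, 1), (2, 1), (2521, 1), (97, 1), (29, 2),
    (631, 1), (101, 1), (421, 1), (19, 2), (79, 1), (281, 1), (23, 1), (2531, 1), (211, 1),
    (149, 1), (181, 1), (13, 2), (317, 1), (59, 1), (47, 1), (2539, 1), (127, 1), (11, 2), (41, 1),
    (2543, 1), (53, 1), (509, 1), (67, 1), (283, 1), (13, 1), (2549, 1), (17, 1), (2551, 1),
    (29, 1), (37, 1), (1277, 1), (73, 1), (71, 1), (2557, 1), (1279, 1), (853, 1), (2, 9), (197, 1),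
    (61, 1), (233, 1), (641, 1), (19, 1), (1283, 1), (151, 1), (107, 1), (367, 1), (257, 1),
    (857, 1), (643, 1), (83, 1), (11, 1), (103, 1), (23, 1), (859, 1), (1289, 1), (2579, 1),
    (43, 1), (89, 1), (1291, 1), (41, 1), (19, 1), (47, 1), (431, 1), (199, 1), (647, 1), (863, 1),
    (37, 1), (2591, 1), (3, 4), (2593, 1), (1297, 1), (173, 1), (59, 1), (53, 1), (433, 1),
    (113, 1), (13, 1), (17, 2), (1301, 1), (137, 1), (31, 1), (521, 1), (1303, 1), (79, 1),
    (163, 1), (2609, 1), (29, 1), (373, 1), (653, 1), (67, 1), (1307, 1), (523, 1), (109, 1),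
    (2617, 1), (17, 1), (97, 1), (131, 1)]

theorem cover2 : coverBool 2112 witness2 [2160, 2200, 2268, 2400, 2448, 2464, 2520] = true := by decide +kernel

theorem length2 : witness2.length = 509 := by decide +kernel

/-- witnesses `(p, e)` for `n = 2621, …` -/
def witness3 : List (ℕ × ℕ) :=
  [
    (2621, 1), (23, 1), (61, 1), (41, 1), (7, 1), (101, 1), (71, 1), (73, 1), (239, 1), (263, 1),
    (877, 1), (47, 1), (2633, 1), (439, 1), (31, 1), (659, 1), (293, 1), (1319, 1), (29, 1),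
    (11, 1), (139, 1), (1321, 1), (881, 1), (661, 1), (23, 2), (7, 2), (2647, 1), (331, 1),
    (883, 1), (53, 1), (241, 1), (17, 1), (379, 1), (1327, 1), (59, 1), (83, 1), (2657, 1),
    (443, 1), (2659, 1), (19, 1), (887, 1), (11, 3), (2663, 1), (37, 1), (41, 1), (43, 1), (127, 1),
    (29, 1), (157, 1), (89, 1), (2671, 1), (167, 1), (11, 1), (191, 1), (107, 1), (223, 1),
    (2677, 1), (103, 1), (47, 1), (67, 1), (383, 1), (149, 1), (2683, 1), (61, 1), (179, 1),
    (79, 1), (2687, 1), (2, 1), (2689, 1), (269, 1), (23, 1), (673, 1), (2693, 1), (449, 1),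
    (11, 1), (337, 1), (31, 1), (71, 1), (2699, 1), (2, 1), (73, 1), (193, 1), (53, 1), (13, 2),
    (541, 1), (41, 1), (2707, 1), (677, 1), (43, 1), (271, 1), (2711, 1), (113, 1), (2713, 1),
    (59, 1), (181, 1), (97, 1), (19, 1), (151, 1), (2719, 1), (17, 1), (907, 1), (1361, 1),
    (389, 1), (227, 1), (109, 1), (47, 1), (101, 1), (31, 1), (2729, 1), (2, 1), (2731, 1),
    (683, 1), (911, 1), (1367, 1), (547, 1), (19, 1), (23, 1), (37, 2), (83, 1), (137, 1),
    (2741, 1), (457, 1), (211, 1), (7, 3), (61, 1), (1373, 1), (67, 1), (229, 1), (2749, 1),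
    (11, 1), (131, 1), (43, 1), (2753, 1), (17, 1), (29, 1), (53, 1), (919, 1), (197, 1), (89, 1),
    (23, 1), (251, 1), (1381, 1), (307, 1), (691, 1), (79, 1), (461, 1), (2767, 1), (173, 1),
    (71, 1), (277, 1), (163, 1), (11, 1), (59, 1), (73, 1), (37, 1), (347, 1), (2777, 1), (463, 1),
    (397, 1), (139, 1), (103, 1), (107, 1), (23, 1), (29, 1), (557, 1), (199, 1), (929, 1), (41, 1),
    (2789, 1), (31, 1), (2791, 1), (349, 1), (19, 1), (127, 1), (43, 1), (233, 1), (2797, 1),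
    (1399, 1), (311, 1), (2, 1), (2801, 1), (467, 1), (2803, 1), (701, 1), (17, 1), (61, 1),
    (401, 1), (2, 1), (53, 2), (281, 1), (937, 1), (19, 1), (97, 1), (67, 1), (563, 1), (11, 1),
    (313, 1), (1409, 1), (2819, 1), (47, 1), (31, 1), (83, 1), (941, 1), (353, 1), (113, 1),
    (157, 1), (257, 1), (101, 1), (41, 1), (283, 1), (149, 1), (59, 1), (2833, 1), (109, 1), (5, 1),
    (709, 1), (2837, 1), (43, 1), (167, 1), (71, 1), (947, 1), (29, 1), (2843, 1), (79, 1),
    (569, 1), (1423, 1), (73, 1), (89, 1), (37, 1), (19, 1), (2851, 1), (31, 1), (317, 1),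
    (1427, 1), (571, 1), (17, 1), (2857, 1), (1429, 1), (953, 1), (13, 1), (2861, 1), (53, 1),
    (409, 1), (179, 1), (191, 1), (1433, 1), (61, 1), (239, 1), (151, 1), (41, 1), (29, 1),
    (359, 1), (17, 1), (479, 1), (23, 1), (719, 1), (137, 1), (1439, 1), (2879, 1), (2, 1), (67, 1),
    (131, 1), (31, 2), (103, 1), (577, 1), (37, 1), (2887, 1), (19, 2), (107, 1), (17, 2), (59, 1),
    (241, 1), (263, 1), (1447, 1), (193, 1), (181, 1), (2897, 1), (23, 1), (223, 1), (29, 1),
    (967, 1), (1451, 1), (2903, 1), (11, 2), (83, 1), (1453, 1), (19, 1), (727, 1), (2909, 1),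
    (97, 1), (71, 1), (13, 1), (971, 1), (47, 1), (53, 1), (3, 6), (2917, 1), (1459, 1), (139, 1),
    (73, 1), (127, 1), (487, 1), (79, 1), (43, 1), (13, 1), (7, 1), (2927, 1), (61, 1), (101, 1),
    (293, 1), (977, 1), (733, 1), (419, 1), (163, 1), (587, 1), (367, 1), (89, 1), (113, 1),
    (2939, 1), (7, 2), (173, 1), (1471, 1), (109, 1), (23, 1), (31, 1), (491, 1), (421, 1), (67, 1),
    (983, 1), (59, 1), (227, 1), (41, 1), (2953, 1), (211, 1), (197, 1), (739, 1), (2957, 1),
    (29, 1), (269, 1), (37, 1), (47, 1), (1481, 1), (2963, 1), (13, 1), (593, 1), (1483, 1),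
    (43, 1), (53, 1), (2969, 1), (2, 1), (2971, 1), (743, 1), (991, 1), (1487, 1), (17, 1), (2, 1),
    (229, 1), (1489, 1), (331, 1), (149, 1), (271, 1), (71, 1), (157, 1), (373, 1), (199, 1),
    (1493, 1), (103, 1), (83, 1), (61, 1), (23, 1), (997, 1), (17, 1), (73, 1), (499, 1), (599, 1),
    (107, 1), (37, 1), (1499, 1), (2999, 1), (5, 3), (3001, 1), (79, 1), (13, 1), (751, 1),
    (601, 1), (167, 1), (97, 1), (47, 1), (59, 1), (43, 1), (3011, 1), (251, 1), (131, 1), (137, 1),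
    (67, 1), (29, 1), (431, 1), (503, 1), (3019, 1), (151, 1), (53, 1), (1511, 1), (3023, 1),
    (2, 1), (11, 2), (89, 1), (1009, 1), (757, 1), (233, 1), (101, 1), (433, 1), (379, 1), (337, 1),
    (41, 1), (607, 1), (23, 1), (3037, 1), (31, 1), (1013, 1), (19, 1), (3041, 1), (13, 2),
    (179, 1), (761, 1), (29, 1), (1523, 1), (277, 1), (127, 1), (3049, 1), (61, 1), (113, 1),
    (109, 1), (71, 1), (509, 1), (47, 1), (191, 1), (1019, 1), (139, 1), (23, 1), (17, 1),
    (3061, 1), (1531, 1), (1021, 1), (383, 1), (613, 1), (73, 1), (3067, 1), (59, 1), (31, 1),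
    (307, 1), (83, 1), (2, 10), (439, 1), (53, 1), (41, 1), (769, 1), (181, 1), (19, 1), (3079, 1),
    (2, 1), (79, 1), (67, 1), (3083, 1), (257, 1), (617, 1), (1543, 1), (7, 3), (193, 1), (3089, 1),
    (103, 1), (281, 1), (773, 1), (1031, 1), (17, 1), (619, 1), (43, 1), (163, 1), (1549, 1),
    (1033, 1), (31, 1), (443, 1), (47, 1), (107, 1), (97, 1), (23, 1), (1553, 1), (239, 1), (37, 1),
    (3109, 1), (311, 1), (61, 1), (389, 1), (283, 1), (173, 1), (89, 1), (41, 1), (1039, 1),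
    (1559, 1), (3119, 1), (2, 1), (3121, 1), (223, 1), (347, 1), (71, 1), (5, 5), (521, 1), (59, 1),
    (23, 1), (149, 1), (313, 1)]

theorem cover3 : coverBool 2621 witness3 [2688, 2700, 2800, 2808, 2880, 2976, 3024, 3080, 3120] = true := by decide +kernel

theorem length3 : witness3.length = 510 := by decide +kernel

/-- witnesses `(p, e)` for `n = 3131, …` -/
def witness4 : List (ℕ × ℕ) :=
  [
    (101, 1), (29, 1), (241, 1), (1567, 1), (19, 1), (7, 2), (3137, 1), (523, 1), (73, 1), (157, 1),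
    (349, 1), (1571, 1), (449, 1), (131, 1), (37, 1), (13, 1), (1049, 1), (787, 1), (67, 1), (2, 1),
    (137, 1), (197, 1), (1051, 1), (83, 1), (631, 1), (263, 1), (41, 1), (1579, 1), (3, 5), (79, 1),
    (109, 1), (31, 1), (3163, 1), (113, 1), (211, 1), (1583, 1), (3167, 1), (2, 1), (3169, 1),
    (317, 1), (151, 1), (61, 1), (167, 1), (23, 2), (127, 1), (397, 1), (353, 1), (227, 1), (17, 2),
    (53, 1), (3181, 1), (43, 1), (1061, 1), (199, 1), (13, 1), (59, 1), (3187, 1), (797, 1),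
    (1063, 1), (29, 1), (3191, 1), (19, 1), (103, 1), (1597, 1), (71, 1), (47, 1), (139, 1),
    (41, 1), (457, 1), (2, 1), (97, 1), (1601, 1), (3203, 1), (89, 1), (641, 1), (229, 1),
    (1069, 1), (401, 1), (3209, 1), (107, 1), (19, 1), (73, 1), (17, 1), (1607, 1), (643, 1),
    (67, 1), (3217, 1), (1609, 1), (37, 1), (7, 1), (3221, 1), (179, 1), (293, 1), (31, 1), (43, 1),
    (1613, 1), (461, 1), (269, 1), (3229, 1), (19, 1), (359, 1), (101, 1), (61, 1), (11, 1),
    (647, 1), (809, 1), (83, 1), (1619, 1), (79, 1), (2, 1), (463, 1), (1621, 1), (47, 1), (811, 1),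
    (59, 1), (541, 1), (191, 1), (29, 1), (19, 2), (13, 1), (3251, 1), (271, 1), (3253, 1),
    (1627, 1), (31, 1), (37, 1), (3257, 1), (181, 1), (3259, 1), (163, 1), (1087, 1), (233, 1),
    (251, 1), (17, 1), (653, 1), (71, 1), (11, 2), (43, 1), (467, 1), (109, 1), (3271, 1), (409, 1),
    (1091, 1), (1637, 1), (131, 1), (13, 1), (113, 1), (149, 1), (1093, 1), (41, 1), (193, 1),
    (547, 1), (67, 1), (821, 1), (73, 1), (53, 1), (173, 1), (137, 1), (23, 1), (47, 1), (1097, 1),
    (823, 1), (89, 1), (61, 1), (659, 1), (103, 1), (157, 1), (97, 1), (3299, 1), (11, 1),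
    (3301, 1), (127, 1), (367, 1), (59, 1), (661, 1), (29, 1), (3307, 1), (827, 1), (1103, 1),
    (331, 1), (43, 1), (23, 1), (3313, 1), (1657, 1), (17, 1), (829, 1), (107, 1), (79, 1),
    (3319, 1), (83, 1), (41, 1), (151, 1), (3323, 1), (277, 1), (19, 1), (1663, 1), (1109, 1),
    (13, 1), (3329, 1), (37, 1), (3331, 1), (17, 1), (101, 1), (1667, 1), (29, 1), (139, 1),
    (71, 1), (1669, 1), (53, 1), (167, 1), (257, 1), (557, 1), (3343, 1), (19, 1), (223, 1),
    (239, 1), (3347, 1), (31, 1), (197, 1), (67, 1), (1117, 1), (419, 1), (479, 1), (43, 1),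
    (61, 1), (839, 1), (373, 1), (73, 1), (3359, 1), (2, 1), (3361, 1), (41, 2), (59, 1), (29, 2),
    (673, 1), (17, 1), (37, 1), (421, 1), (1123, 1), (337, 1), (3371, 1), (281, 1), (3373, 1),
    (241, 1), (5, 3), (211, 1), (307, 1), (563, 1), (109, 1), (13, 2), (23, 1), (89, 1), (199, 1),
    (47, 1), (677, 1), (1693, 1), (1129, 1), (11, 2), (3389, 1), (113, 1), (3391, 1), (53, 1),
    (29, 1), (1697, 1), (97, 1), (283, 1), (79, 1), (1699, 1), (103, 1), (17, 1), (179, 1), (3, 5),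
    (83, 1), (37, 1), (227, 1), (131, 1), (3407, 1), (71, 1), (487, 1), (31, 1), (379, 1), (853, 1),
    (3413, 1), (569, 1), (683, 1), (61, 1), (67, 1), (1709, 1), (263, 1), (2, 1), (311, 1), (59, 1),
    (163, 1), (107, 1), (137, 1), (571, 1), (149, 1), (857, 1), (127, 1), (7, 3), (73, 1), (2, 1),
    (3433, 1), (101, 1), (229, 1), (859, 1), (491, 1), (191, 1), (181, 1), (43, 1), (37, 1),
    (1721, 1), (313, 1), (2, 1), (53, 1), (1723, 1), (383, 1), (431, 1), (3449, 1), (23, 1),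
    (29, 1), (863, 1), (1151, 1), (157, 1), (691, 1), (2, 7), (3457, 1), (19, 1), (1153, 1),
    (173, 1), (3461, 1), (577, 1), (3463, 1), (433, 1), (11, 1), (1733, 1), (3467, 1), (17, 2),
    (3469, 1), (347, 1), (89, 1), (31, 1), (151, 1), (193, 1), (139, 1), (79, 1), (61, 1), (47, 1),
    (71, 1), (29, 1), (59, 2), (1741, 1), (43, 1), (67, 1), (41, 1), (83, 1), (317, 1), (109, 1),
    (1163, 1), (349, 1), (3491, 1), (97, 1), (499, 1), (1747, 1), (233, 1), (23, 1), (269, 1),
    (53, 1), (3499, 1), (5, 3), (389, 1), (103, 1), (113, 1), (73, 1), (701, 1), (1753, 1),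
    (167, 1), (877, 1), (29, 1), (2, 1), (3511, 1), (439, 1), (1171, 1), (251, 1), (37, 1),
    (293, 1), (3517, 1), (1759, 1), (23, 1), (11, 1), (503, 1), (587, 1), (271, 1), (881, 1),
    (47, 1), (43, 1), (3527, 1), (7, 2), (3529, 1), (353, 1), (107, 1), (883, 1), (3533, 1),
    (31, 1), (101, 1), (13, 1), (131, 1), (61, 1), (3539, 1), (59, 1), (3541, 1), (23, 1),
    (1181, 1), (443, 1), (709, 1), (197, 1), (3547, 1), (887, 1), (13, 2), (71, 1), (67, 1),
    (37, 1), (19, 1), (1777, 1), (79, 1), (127, 1), (3557, 1), (593, 1), (3559, 1), (89, 1),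
    (1187, 1), (137, 1), (509, 1), (11, 1), (31, 1), (1783, 1), (41, 1), (223, 1), (83, 1), (2, 1),
    (3571, 1), (47, 1), (397, 1), (1787, 1), (13, 1), (149, 1), (73, 1), (1789, 1), (1193, 1),
    (179, 1), (3581, 1), (199, 1), (3583, 1), (2, 9), (239, 1), (163, 1), (211, 1), (23, 1),
    (97, 1), (359, 1), (19, 1), (449, 1), (3593, 1), (599, 1), (719, 1), (31, 1), (109, 1),
    (257, 1), (61, 1), (2, 1), (277, 1), (1801, 1), (1201, 1), (53, 1), (103, 1), (601, 1),
    (3607, 1), (41, 1), (401, 1), (19, 2), (157, 1), (43, 1), (3613, 1), (139, 1), (241, 1),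
    (113, 1), (3617, 1), (67, 1), (47, 1), (181, 1), (71, 1), (1811, 1), (3623, 1), (151, 1),
    (29, 1), (37, 1), (31, 1), (907, 1), (191, 1), (11, 2), (3631, 1), (227, 1), (173, 1), (79, 1),
    (727, 1), (101, 1), (3637, 1), (107, 1), (1213, 1), (13, 1)]

theorem cover4 : coverBool 3131 witness4 [3168, 3200, 3240, 3360, 3420, 3432, 3444, 3600] = true := by decide +kernel

theorem length4 : witness4.length = 510 := by decide +kernel

variable {G : Type*} [Group G] [Finite G] [IsSimpleGroup G]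

theorem mem_orders (hG : ¬ IsMulCommutative G) (h1 : 1092 < Nat.card G) (h2 : Nat.card G ≤ 3640) :
    Nat.card G = 2448 ∨ Nat.card G = 2520 ∨ Nat.card G = 3420 := by
  have h1232 := card_ne_of_critBool2 (n := 1232) hG 7 1 (by decide +kernel)
  have h1260 := card_ne_of_critBool2 (n := 1260) hG 7 1 (by decide +kernel)
  have h2808 := card_ne_of_critBool2 (n := 2808) hG 13 1 (by decide +kernel)
  have h3080 := card_ne_of_critBool2 (n := 3080) hG 5 1 (by decide +kernel)
  have h1224 := BlockDegrees.card_ne_of_blockBool (n := 1224) hG 17 35 (by decide +kernel)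
  have h1344 := BetweenSpecial.card_ne_1344 (G := G) hG
  have h1404 := BetweenSpecial.card_ne_1404 (G := G) hG
  have h1440 := BlockDegrees.card_ne_of_blockBool (n := 1440) hG 5 38 (by decide +kernel)
  have h1512 := BetweenSpecial.card_ne_1512 (G := G) hG
  have h1560 := BlockDegrees.card_ne_of_blockBool (n := 1560) hG 3 40 (by decide +kernel)
  have h1620 := BetweenSpecial.card_ne_1620 (G := G) hG
  have h1680 := BetweenSpecial.card_ne_1680 (G := G) hG
  have h1716 := BlockDegrees.card_ne_of_blockBool (n := 1716) hG 3 42 (by decide +kernel)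
  have h1800 := BetweenSpecial.card_ne_1800 (G := G) hG
  have h1980 := BlockDegrees.card_ne_of_blockBool (n := 1980) hG 11 45 (by decide +kernel)
  have h2016 := BlockDegrees.card_ne_of_blockBool (n := 2016) hG 7 45 (by decide +kernel)
  have h2080 := BlockDegrees.card_ne_of_blockBool (n := 2080) hG 5 46 (by decide +kernel)
  have h2100 := BlockDegrees.card_ne_of_blockBool (n := 2100) hG 3 46 (by decide +kernel)
  have h2160 := BetweenSpecial.card_ne_2160 (G := G) hG
  have h2200 := BlockDegrees.card_ne_of_blockBool (n := 2200) hG 11 47 (by decide +kernel)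
  have h2268 := BlockDegrees.card_ne_of_blockBool (n := 2268) hG 7 48 (by decide +kernel)
  have h2400 := BetweenSpecial.card_ne_2400 (G := G) hG
  have h2464 := BlockDegrees.card_ne_of_blockBool (n := 2464) hG 7 50 (by decide +kernel)
  have h2688 := BlockDegrees.card_ne_of_blockBool (n := 2688) hG 7 52 (by decide +kernel)
  have h2700 := BetweenSpecial.card_ne_2700 (G := G) hG
  have h2800 := BlockDegrees.card_ne_of_blockBool (n := 2800) hG 7 53 (by decide +kernel)
  have h2880 := BlockDegrees.card_ne_of_blockBool (n := 2880) hG 5 54 (by decide +kernel)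
  have h2976 := BlockDegrees.card_ne_of_blockBool (n := 2976) hG 31 55 (by decide +kernel)
  have h3024 := BlockDegrees.card_ne_of_blockBool (n := 3024) hG 7 55 (by decide +kernel)
  have h3120 := BlockDegrees.card_ne_of_blockBool (n := 3120) hG 13 56 (by decide +kernel)
  have h3168 := BlockDegrees.card_ne_of_blockBool (n := 3168) hG 11 57 (by decide +kernel)
  have h3240 := BlockDegrees.card_ne_of_blockBool (n := 3240) hG 5 57 (by decide +kernel)
  have h3360 := BetweenSpecial.card_ne_3360 (G := G) hG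
  have h3432 := BlockDegrees.card_ne_of_blockBool (n := 3432) hG 3 59 (by decide +kernel)
  have h3444 := BlockDegrees.card_ne_of_blockBool (n := 3444) hG 3 59 (by decide +kernel)
  have h3600 := BetweenSpecial.card_ne_3600 (G := G) hG
  have h1728 : Nat.card G ≠ 2 ^ 6 * 3 ^ 3 := fun h => hG ⟨⟨IsSimpleGroup.comm_iff_isSolvable.mpr
    (Cfsg.Agent.CharApp.isSolvable_of_card_eq_prime_pow_mul 2 3 (by norm_num) (by norm_num)
      _ G rfl 6 3 h)⟩⟩
  have h3200 : Nat.card G ≠ 2 ^ 7 * 5 ^ 2 := fun h => hG ⟨⟨IsSimpleGroup.comm_iff_isSolvable.mpr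
    (Cfsg.Agent.CharApp.isSolvable_of_card_eq_prime_pow_mul 2 5 (by norm_num) (by norm_num)
      _ G rfl 7 2 h)⟩⟩
  have hmem : Nat.card G ∈ [1224, 1232, 1260, 1344, 1404, 1440, 1512, 1560, 1620, 1680, 1716, 1728, 1800, 1980, 2016, 2080, 2100, 2160, 2200, 2268, 2400, 2448, 2464, 2520, 2688, 2700, 2800, 2808, 2880, 2976, 3024, 3080, 3120, 3168, 3200, 3240, 3360, 3420, 3432, 3444, 3600] := by
    rcases Nat.lt_or_ge (Nat.card G) 1603 with h | h
    · have := mem_of_coverBool hG witness0 1093 _ cover0 (by omega) (by rw [length0]; omega)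
      simp only [List.mem_cons, List.mem_nil_iff, or_false] at this ⊢
      omega
    rcases Nat.lt_or_ge (Nat.card G) 2112 with h | h
    · have := mem_of_coverBool hG witness1 1603 _ cover1 (by omega) (by rw [length1]; omega)
      simp only [List.mem_cons, List.mem_nil_iff, or_false] at this ⊢
      omega
    rcases Nat.lt_or_ge (Nat.card G) 2621 with h | h
    · have := mem_of_coverBool hG witness2 2112 _ cover2 (by omega) (by rw [length2]; omega)
      simp only [List.mem_cons, List.mem_nil_iff, or_false] at this ⊢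
      omega
    rcases Nat.lt_or_ge (Nat.card G) 3131 with h | h
    · have := mem_of_coverBool hG witness3 2621 _ cover3 (by omega) (by rw [length3]; omega)
      simp only [List.mem_cons, List.mem_nil_iff, or_false] at this ⊢
      omega
    have := mem_of_coverBool hG witness4 3131 _ cover4 (by omega) (by rw [length4]; omega)
    simp only [List.mem_cons, List.mem_nil_iff, or_false] at this ⊢
    omega
  simp only [List.mem_cons, List.mem_nil_iff, or_false] at hmem
  omega

end Cfsg.Agent.SmallOrders.Between
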