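-- No simple group of order 1008.
--
-- * `card_ne`
import Cfsg.Agent.Lib.SmallOrders.Tools
import Cfsg.Agent.Lib.SmallOrders.OrbitSign
import Cfsg.Agent.Lib.SmallOrders.Check2
import Cfsg.Agent.Lib.SmallOrders.SixteenTransfer

set_option autoImplicit false

namespace Cfsg.Agent.SmallOrders.O1008

open Subgroup

variable {G : Type*} [Group G] [Finite G] [IsSimpleGroup G]

theorem card_ne (hG : ¬ IsMulCommutative G) : Nat.card G ≠ 1008 := by
  intro h
  have : Fact (Nat.Prime 7) := ⟨by norm_num⟩
  have : Fact (Nat.Prime 2) := ⟨Nat.prime_two⟩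
  have hn7 : Nat.card (Sylow 7 G) = 36 := by
    simpa using mem_of_candBool hG h 7 1 [36] (by decide +kernel)
  have hP7 : ∀ P : Sylow 7 G, Nat.card (P : Subgroup G) = 7 := fun P => by
    rw [card_sylow_subgroup (p := 7) (e := 1) (m := 144) (by rw [h]; norm_num) (by norm_num) P,
      pow_one]
  obtain ⟨y, hy⟩ := exists_prime_orderOf_dvd_card' (G := G) 7 (by rw [h]; norm_num)
  obtain ⟨P, hPy⟩ := exists_sylow_eq_zpowers hP7 hy
  have hN : Nat.card (normalizer ((P : Subgroup G) : Set G)) = 28 := by
    have := card_normalizer_mul_card_sylow P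
    rw [hn7, h] at this
    omega
  obtain ⟨c, hc, hck⟩ := exists_card_centralizer_dvd hG (by norm_num) hy hP7
    (show Nat.card (Sylow 7 G) = 5 * 7 + 1 by rw [hn7])
  obtain ⟨j, hj1, hj6, hCj, -, hle⟩ := exists_card_centralizer_mul hG hy P hPy
  rw [hc, hN] at hCj
  have hc2 : c = 2 := by
    have := Nat.le_of_dvd (by norm_num) hj6
    interval_cases j <;> omega
  rw [hc2] at hc
  set C := centralizer ({y} : Set G) with hCdef
  obtain ⟨z', hz'⟩ := exists_prime_orderOf_dvd_card' (G := C) 2 (by rw [hc]; norm_num)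
  set z : G := (z' : G) with hzdef
  have hz : orderOf z = 2 := by rw [hzdef, Subgroup.orderOf_coe, hz']
  have hzy : z * y = y * z := mem_centralizer_singleton_iff.mp z'.2
  -- `z` is the only involution of `C(y)`
  have hcyc : IsCyclic C := by
    refine isCyclic_of_orderOf_eq_card (z' * ⟨y, mem_centralizer_self y⟩) ?_
    have hcm : Commute z' (⟨y, mem_centralizer_self y⟩ : C) := Subtype.ext hzy
    rw [hcm.orderOf_mul_eq_mul_orderOf_of_coprime (by rw [hz', Subgroup.orderOf_mk, hy]; norm_num),
      hz', Subgroup.orderOf_mk, hy, hc]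
  have huniq : ∀ u ∈ C, orderOf u = 2 → u = z := by
    intro u hu hu2
    have hu' : orderOf (⟨u, hu⟩ : C) = 2 := by rw [Subgroup.orderOf_mk, hu2]
    have he : zpowers (⟨u, hu⟩ : C) = zpowers z' := by
      refine Subgroup.eq_of_le_of_card_ge ?_ (by rw [Nat.card_zpowers, Nat.card_zpowers, hu', hz'])
      classical
      have : Fintype C := Fintype.ofFinite _
      rw [zpowers_le]
      by_contra hne
      have h3 : 2 < (Finset.univ.filter fun a : C => a ^ 2 = 1).card := by
        rw [Finset.two_lt_card]
        refine ⟨1, by simp, z', by simp [← hz', pow_orderOf_eq_one], ⟨u, hu⟩,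
          by simp [← hu', pow_orderOf_eq_one], ?_, ?_, ?_⟩
        · exact fun e => by rw [← e, orderOf_one] at hz'; omega
        · exact fun e => by rw [← e, orderOf_one] at hu'; omega
        · exact fun e => hne (e ▸ mem_zpowers z')
      exact absurd (IsCyclic.card_pow_eq_one_le (α := C) (n := 2) two_pos) (by omega)
    have hmem : (⟨u, hu⟩ : C) ∈ zpowers z' := he ▸ mem_zpowers _
    obtain ⟨n, hn⟩ := mem_zpowers_iff.mp hmem
    rw [← zpow_mod_orderOf, hz'] at hn
    rcases Int.emod_two_eq_zero_or_one n with e | e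
    · rw [show ((2 : ℕ) : ℤ) = 2 from rfl, e, zpow_zero] at hn
      rw [← hn, orderOf_one] at hu'; omega
    · rw [show ((2 : ℕ) : ℤ) = 2 from rfl, e, zpow_one] at hn
      exact (congrArg Subtype.val hn).symm
  set N := normalizer ((P : Subgroup G) : Set G) with hNdef
  have hzN : N ≤ centralizer ({z} : Set G) := by
    intro g hg
    have hgy : g * y * g⁻¹ ∈ zpowers y := by
      rw [← hPy]; exact (mem_normalizer_iff.mp hg y).mp (hPy ▸ mem_zpowers y)
    have hu : g * z * g⁻¹ ∈ C := by
      obtain ⟨n, hn⟩ := mem_zpowers_iff.mp (show g⁻¹ * y * g ∈ zpowers y by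
        have := (mem_normalizer_iff.mp (inv_mem hg) y).mp (hPy ▸ mem_zpowers y)
        rw [inv_inv, hPy] at this
        exact this)
      rw [hCdef, mem_centralizer_singleton_iff]
      have hzn : Commute z (g⁻¹ * y * g) := hn ▸ (show Commute z y from hzy).zpow_right n
      calc g * z * g⁻¹ * y = g * (z * (g⁻¹ * y * g)) * g⁻¹ := by group
        _ = g * ((g⁻¹ * y * g) * z) * g⁻¹ := by rw [hzn.eq]
        _ = y * (g * z * g⁻¹) := by group
    have := huniq _ hu ((orderOf_injective (MulAut.conj g).toMonoidHom (MulAut.conj g).injective z).trans hz)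
    exact mem_centralizer_singleton_iff.mpr (mul_inv_eq_iff_eq_mul.mp this)
  set H := centralizer ({z} : Set G) with hH
  have hPH : (P : Subgroup G) ≤ H := (le_normalizer).trans hzN
  have hn7H : Nat.card (Sylow 7 H) * 28 = Nat.card H := by
    have hN' : (normalizer (((P.subtype hPH : Sylow 7 H) : Subgroup H) : Set H)).map H.subtype = N := by
      rw [P.coe_subtype hPH, ← subgroupOf_normalizer_eq hPH, ← hNdef, map_subgroupOf_eq_of_le hzN]
    have := card_normalizer_mul_card_sylow (P.subtype hPH)
    rw [← card_map_of_injective (K := normalizer (((P.subtype hPH : Sylow 7 H) : Subgroup H) : Set H))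
      H.subtype_injective, hN', hN, mul_comm] at this
    exact this
  have hHtop : H ≠ ⊤ := by
    intro ht
    have : z ∈ center G := mem_center_iff.mpr fun g =>
      mem_centralizer_singleton_iff.mp (ht ▸ mem_top g : g ∈ H)
    rw [center_eq_bot hG, mem_bot] at this
    rw [this, orderOf_one] at hz; omega
  have hidx := le_index_of_facBool hG h 8 (by decide +kernel) hHtop
  have hmul := H.card_mul_index
  rw [h] at hmul
  have hH28 : Nat.card H = 28 := by
    have hm : Nat.card (Sylow 7 H) % 7 = 1 := card_sylow_modEq_one 7 H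
    have hd : Nat.card H ∣ 1008 := ⟨H.index, hmul.symm⟩
    rw [← hn7H] at hmul hd ⊢
    have : Nat.card (Sylow 7 H) ≤ 4 := by
      by_contra hgt
      have : 5 * 28 * 8 ≤ Nat.card (Sylow 7 H) * 28 * H.index := Nat.mul_le_mul (by omega) hidx
      omega
    omega
  obtain ⟨T, hT⟩ := (IsPGroup.of_card (n := 1) (show Nat.card (zpowers z) = 2 ^ 1 by
    rw [Nat.card_zpowers, hz, pow_one])).exists_le_sylow
  have hTc : Nat.card (T : Subgroup G) = 2 ^ 4 :=
    card_sylow_subgroup (p := 2) (e := 4) (m := 63) (by rw [h]; norm_num) (by norm_num) T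
  set L := (T : Subgroup G) ⊓ H with hL
  have hL4 : Nat.card L ∣ 4 := by
    have a1 : Nat.card L ∣ 16 := by
      have := card_dvd_of_le (inf_le_left : L ≤ (T : Subgroup G))
      rwa [hTc] at this
    have a2 : Nat.card L ∣ 28 := hH28 ▸ card_dvd_of_le inf_le_right
    exact Nat.dvd_gcd a1 a2
  -- a central involution of `T` is different from `z`
  have h3 : 2 < Nat.card L := by
    classical
    have : Fintype L := Fintype.ofFinite _
    have hTne : Nontrivial (T : Subgroup G) := Finite.one_lt_card_iff_nontrivial.mp (by rw [hTc]; norm_num)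
    have hcn := T.isPGroup'.center_nontrivial
    obtain ⟨⟨w, hwZ⟩, hw1⟩ := exists_ne (1 : center (T : Subgroup G))
    have hwc : ∀ t ∈ (T : Subgroup G), t * (w : G) = w * t := fun t ht =>
      congrArg Subtype.val (mem_center_iff.mp hwZ ⟨t, ht⟩)
    have hzT : z ∈ (T : Subgroup G) := hT (mem_zpowers z)
    have hwz : (w : G) ≠ z := by
      intro e
      have hle' : (T : Subgroup G) ≤ H := fun t ht =>
        mem_centralizer_singleton_iff.mpr (by rw [← e]; exact hwc t ht)
      have := card_dvd_of_le hle'
      rw [hTc, hH28] at this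
      norm_num at this
    have hwL : (w : G) ∈ L := ⟨w.2, mem_centralizer_singleton_iff.mpr (hwc z hzT).symm⟩
    rw [Nat.card_eq_fintype_card, ← Finset.card_univ, Finset.two_lt_card]
    refine ⟨1, Finset.mem_univ _, ⟨z, hzT, mem_centralizer_self z⟩, Finset.mem_univ _, ⟨w, hwL⟩,
      Finset.mem_univ _, ?_, ?_, ?_⟩
    · intro e
      have e1 : (1 : G) = z := congrArg Subtype.val e
      rw [← e1, orderOf_one] at hz; omega
    · intro e
      have e1 : (1 : G) = w := congrArg Subtype.val e
      exact hw1 (Subtype.ext (Subtype.ext e1.symm))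
    · intro e
      exact hwz (congrArg Subtype.val e).symm
  have hL4' : Nat.card L = 4 := by
    have := Nat.le_of_dvd (by norm_num) hL4
    interval_cases (Nat.card L) <;> omega
  exact false_of_small_centralizer hG T (by rw [hTc]; norm_num) hz (hT (mem_zpowers z)) hL4'
    (by rw [hH28]; norm_num)

end Cfsg.Agent.SmallOrders.O1008
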