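-- No simple group of order 1040.
--
-- * `card_ne`
import Cfsg.Agent.Lib.SmallOrders.Tools
import Cfsg.Agent.Lib.SmallOrders.SingleFixed

set_option autoImplicit false

namespace Cfsg.Agent.SmallOrders.O1040

open Subgroup MulAction

variable {G : Type*} [Group G] [Finite G]

theorem mem_centralizer_conj {a b g : G} (h : a ∈ centralizer ({b} : Set G)) :
    g * a * g⁻¹ ∈ centralizer ({g * b * g⁻¹} : Set G) := by
  rw [mem_centralizer_singleton_iff] at h ⊢
  calc g * a * g⁻¹ * (g * b * g⁻¹) = g * (a * b) * g⁻¹ := by group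
    _ = g * (b * a) * g⁻¹ := by rw [h]
    _ = g * b * g⁻¹ * (g * a * g⁻¹) := by group

/-- The transfer step: a Sylow `2`-subgroup of order `16` with the structure found below. -/
theorem false_of_structure [IsSimpleGroup G] (hG : ¬ IsMulCommutative G) (T : Subgroup G)
    {k w : G} (hk : k ∈ T) (hkk : k * k = w) (hw : w ≠ 1) (hww : w * w = 1)
    (hkT : ∀ a ∈ T, a * k = k * a)
    (hCw : centralizer ({w} : Set G) = T)
    (hcomm : ∀ a ∈ T, ∀ b ∈ T, a * b * a⁻¹ * b⁻¹ ∈ zpowers w)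
    (hsq : ∀ s ∈ T, (s * s) * (s * s) = 1 → s * s ≠ 1 → s * s = w) : False := by
  have hwT : w ∈ T := hkk ▸ mul_mem hk hk
  set W := (zpowers w).subgroupOf T with hW
  have hWn : W.Normal := ⟨fun n hn g => by
    rw [hW, mem_subgroupOf] at hn ⊢
    have := hcomm _ g.2 _ n.2
    simpa using mul_mem this hn⟩
  let inst : CommGroup (T ⧸ W) := { QuotientGroup.Quotient.group W with
    mul_comm := fun x y => by
      induction x using QuotientGroup.induction_on with
      | H a =>
      induction y using QuotientGroup.induction_on with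
      | H b =>
      rw [← QuotientGroup.mk_mul, ← QuotientGroup.mk_mul, QuotientGroup.eq, hW, mem_subgroupOf]
      have := hcomm _ (inv_mem b.2) _ (inv_mem a.2)
      simpa [mul_assoc] using this }
  let ψ : T →* T ⧸ W := QuotientGroup.mk' W
  have hker : ∀ a : T, ψ a = 1 ↔ (a : G) ∈ zpowers w := fun a => by
    rw [← mem_subgroupOf]
    exact QuotientGroup.eq_one_iff a
  have hmem_w : ∀ a ∈ zpowers w, a = 1 ∨ a = w := by
    intro a ha
    obtain ⟨n, rfl⟩ := mem_zpowers_iff.mp ha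
    obtain ⟨m, rfl⟩ | ⟨m, rfl⟩ := Int.even_or_odd n
    · left
      rw [← two_mul, zpow_mul, zpow_two, hww, one_zpow]
    · right
      rw [zpow_add_one, zpow_mul, zpow_two, hww, one_zpow, one_mul]
  refine false_of_single_fixed hG T ψ k hk ?_ ?_
  · intro he
    rcases hmem_w k ((hker _).mp he) with e | e
    · exact hw (by rw [← hkk, e, one_mul])
    · rw [e, hww] at hkk
      exact hw hkk.symm
  · intro g r hr hfix hmin hne hmem
    rw [hker]
    show g⁻¹ * k ^ r * g ∈ zpowers w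
    have hk4 : k ^ 4 = 1 := by
      rw [show (4 : ℕ) = 2 + 2 from rfl, pow_add, pow_two, hkk, hww]
    have hgT : g ∉ T := fun hgT => hne ((QuotientGroup.eq).mpr (by rw [mul_one]; exact inv_mem hgT))
    have hr4 : r ≤ 4 := by
      by_contra hgt
      exact hmin 4 (by norm_num) (by omega) (by rw [hk4, one_smul])
    have hkey : ∀ e : G, e ∈ T → e * e = g⁻¹ * w * g → False := by
      intro e he hee
      have h1 : e * e = w := hsq e he (by
          rw [hee, show g⁻¹ * w * g * (g⁻¹ * w * g) = g⁻¹ * (w * w) * g by group, hww, mul_one,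
            inv_mul_cancel])
        (fun e1 => hw (by
          rw [hee] at e1
          calc w = g * (g⁻¹ * w * g) * g⁻¹ := by group
            _ = 1 := by rw [e1]; group))
      refine hgT (hCw ▸ mem_centralizer_singleton_iff.mpr ?_)
      rw [hee] at h1
      calc g * w = g * (g⁻¹ * w * g) := by rw [h1]
        _ = w * g := by group
    interval_cases r
    · exfalso
      refine hkey _ hmem ?_
      rw [pow_one, ← hkk]; group
    · by_cases hu : g⁻¹ * k ^ 2 * g = w
      · exact hu ▸ mem_zpowers w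
      exfalso
      rw [pow_two, hkk] at hmem hu
      -- `k` centralises `g⁻¹ w g`
      have h1 : g * k * g⁻¹ ∈ centralizer ({g * (g⁻¹ * w * g) * g⁻¹} : Set G) :=
        mem_centralizer_conj (mem_centralizer_singleton_iff.mpr (hkT _ hmem).symm)
      rw [show g * (g⁻¹ * w * g) * g⁻¹ = w by group, hCw] at h1
      have h2 : g * k * g⁻¹ * (g * k * g⁻¹) = g * w * g⁻¹ := by rw [← hkk]; group
      have h3 : g * k * g⁻¹ * (g * k * g⁻¹) = w := hsq _ h1 (by
          rw [h2, show g * w * g⁻¹ * (g * w * g⁻¹) = g * (w * w) * g⁻¹ by group, hww, mul_one,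
            mul_inv_cancel])
        (fun e1 => hw (by
          rw [h2] at e1
          calc w = g⁻¹ * (g * w * g⁻¹) * g := by group
            _ = 1 := by rw [e1]; group))
      rw [h2] at h3
      apply hu
      calc g⁻¹ * w * g = g⁻¹ * (g * w * g⁻¹) * g := by rw [h3]
        _ = w := by group
    · exact absurd (show k ^ 1 • (g : G ⧸ T) = (g : G ⧸ T) by
        calc k ^ 1 • (g : G ⧸ T) = k ^ 1 • k ^ 3 • (g : G ⧸ T) := by rw [hfix]
          _ = k ^ 4 • (g : G ⧸ T) := by rw [← mul_smul, ← pow_add]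
          _ = g := by rw [hk4, one_smul]) (hmin 1 one_pos (by norm_num))
    · rw [hk4, mul_one, inv_mul_cancel]
      exact one_mem _

variable [IsSimpleGroup G]

theorem card_ne (hG : ¬ IsMulCommutative G) : Nat.card G ≠ 1040 := by
  intro h
  classical
  have : Fact (Nat.Prime 5) := ⟨by norm_num⟩
  have : Fact (Nat.Prime 2) := ⟨Nat.prime_two⟩
  have hn5 : Nat.card (Sylow 5 G) = 26 := by
    simpa using mem_of_candBool hG h 5 1 [26] (by decide +kernel)
  have hP5 : ∀ P : Sylow 5 G, Nat.card (P : Subgroup G) = 5 := fun P => by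
    rw [card_sylow_subgroup (p := 5) (e := 1) (m := 208) (by rw [h]; norm_num) (by norm_num) P,
      pow_one]
  obtain ⟨x, hx⟩ := exists_prime_orderOf_dvd_card' (G := G) 5 (by rw [h]; norm_num)
  obtain ⟨P, hPx⟩ := exists_sylow_eq_zpowers hP5 hx
  obtain ⟨j, hj1, hj4, hCj, -, hCN⟩ := exists_card_centralizer_mul hG hx P hPx
  set N := normalizer ((P : Subgroup G) : Set G) with hNdef
  set C := centralizer ({x} : Set G) with hCdef
  have hN : Nat.card N = 40 := by
    have := card_normalizer_mul_card_sylow P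
    rw [hn5, h, ← hNdef] at this
    omega
  rw [hN] at hCj
  have hC : Nat.card C = 20 ∨ Nat.card C = 10 := by
    have := Nat.le_of_dvd (by norm_num) hj4
    interval_cases j <;> omega
  have hx1 : x ≠ 1 := fun e => by rw [e, orderOf_one] at hx; omega
  have hPN : (P : Subgroup G) ≤ N := le_normalizer
  -- centralisers of elements commuting with `x`
  have hle80 : ∀ H : Subgroup G, H ≠ ⊤ → Nat.card H ≤ 80 := fun H hH => by
    have hi := le_index_of_facBool hG h 13 (by decide +kernel) hH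
    have hm := H.card_mul_index
    rw [h] at hm
    by_contra hgt
    have := Nat.mul_le_mul (show 81 ≤ Nat.card H by omega) hi
    omega
  have hloc : ∀ g : G, g ≠ 1 → g ∈ C → centralizer ({g} : Set G) ≤ N := by
    intro g hg1 hg
    set H := centralizer ({g} : Set G) with hH
    have hxH : x ∈ H := mem_centralizer_singleton_iff.mpr (mem_centralizer_singleton_iff.mp hg).symm
    by_cases hgP : g ∈ (P : Subgroup G)
    · have he : zpowers g = (P : Subgroup G) := eq_of_le_of_card_ge (zpowers_le.mpr hgP) (by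
        rw [Nat.card_zpowers, hP5, orderOf_eq_prime (p := 5) ?_ hg1]
        have h5 := pow_card_eq_one' (x := (⟨g, hgP⟩ : (P : Subgroup G)))
        rw [hP5] at h5
        exact congrArg Subtype.val h5)
      refine le_trans ?_ hCN
      rw [hH, hCdef, ← centralizer_zpowers g, ← centralizer_zpowers x, he, hPx]
    have hPH : (P : Subgroup G) ≤ H := hPx ▸ zpowers_le.mpr hxH
    refine le_normalizer_of_card_sylow_one hPH ?_
    by_contra hne
    have hH80 : Nat.card H ≤ 80 := hle80 H fun ht => by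
      have : g ∈ center G := mem_center_iff.mpr fun a =>
        mem_centralizer_singleton_iff.mp (ht ▸ mem_top a : a ∈ H)
      rw [center_eq_bot hG, mem_bot] at this
      exact hg1 this
    have hmul := card_normalizer_mul_card_sylow (P.subtype hPH)
    have hmod : Nat.card (Sylow 5 H) % 5 = 1 := card_sylow_modEq_one 5 H
    have hd : Nat.card H ∣ 1040 := h ▸ card_subgroup_dvd_card H
    set a := Nat.card (normalizer (((P.subtype hPH : Sylow 5 H) : Subgroup H) : Set H)) with ha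
    have h6 : 6 ≤ Nat.card (Sylow 5 H) := by omega
    have ha5 : 5 ∣ a := by
      have := card_dvd_of_le (le_normalizer (H := ((P.subtype hPH : Sylow 5 H) : Subgroup H)))
      rwa [P.coe_subtype hPH, Nat.card_congr (subgroupOfEquivOfLe hPH).toEquiv, hP5,
        ← P.coe_subtype hPH] at this
    have ha2 : a ≠ 5 := by
      intro ha5'
      have he : (((P.subtype hPH : Sylow 5 H) : Subgroup H)) =
          normalizer (((P.subtype hPH : Sylow 5 H) : Subgroup H) : Set H) :=
        eq_of_le_of_card_ge le_normalizer (by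
          rw [← ha, ha5', P.coe_subtype hPH, Nat.card_congr (subgroupOfEquivOfLe hPH).toEquiv, hP5])
      apply hgP
      have hgn : (⟨g, mem_centralizer_self g⟩ : H) ∈
          normalizer (((P.subtype hPH : Sylow 5 H) : Subgroup H) : Set H) := by
        refine mem_normalizer_iff.mpr fun b => ?_
        have hb : (⟨g, mem_centralizer_self g⟩ : H) * b * (⟨g, mem_centralizer_self g⟩ : H)⁻¹ = b :=
          Subtype.ext (show g * (b : G) * g⁻¹ = b by
            rw [← mem_centralizer_singleton_iff.mp b.2, mul_inv_cancel_right])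
        rw [hb]
      rw [← he, P.coe_subtype hPH, mem_subgroupOf] at hgn
      exact hgn
    obtain ⟨e, he⟩ := ha5
    have hdn : Nat.card (Sylow 5 H) ∣ 1040 := dvd_trans ⟨a, by rw [← hmul, mul_comm]⟩ hd
    have h8 : Nat.card (Sylow 5 H) * 10 ≤ 80 := by
      refine le_trans ?_ hH80
      rw [← hmul, mul_comm a]
      exact Nat.mul_le_mul_left _ (by
        have : 0 < a := Nat.card_pos
        omega)
    have : Nat.card (Sylow 5 H) = 6 := by omega
    rw [this] at hdn
    norm_num at hdn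
  -- a `2`-subgroup `V` of `C(x)` inside a Sylow `2`-subgroup `T₀` of `N`
  obtain ⟨c, hc, hCc⟩ : ∃ c, (c = 1 ∨ c = 2) ∧ Nat.card C = 5 * 2 ^ c := by
    rcases hC with e | e
    exacts [⟨2, Or.inr rfl, by rw [e]; norm_num⟩, ⟨1, Or.inl rfl, by rw [e]; norm_num⟩]
  obtain ⟨V', hV'⟩ := Sylow.exists_subgroup_card_pow_prime (G := C) 2 (n := c)
    (by rw [hCc]; exact dvd_mul_left _ _)
  set V := V'.map C.subtype with hVdef
  have hVc : Nat.card V = 2 ^ c := by rw [card_map_of_injective C.subtype_injective, hV']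
  have hVC : V ≤ C := map_subtype_le V'
  have hVN : V ≤ N := hVC.trans hCN
  obtain ⟨S₀, hS₀⟩ := (IsPGroup.of_card (p := 2) (n := c) (show Nat.card (V.subgroupOf N) = 2 ^ c by
    rw [Nat.card_congr (subgroupOfEquivOfLe hVN).toEquiv, hVc])).exists_le_sylow
  set T₀ := (S₀ : Subgroup N).map N.subtype with hT₀def
  have hT₀ : Nat.card T₀ = 2 ^ 3 := by
    rw [card_map_of_injective N.subtype_injective,
      card_sylow_subgroup (p := 2) (e := 3) (m := 5) (by rw [hN]; norm_num) (by norm_num) S₀]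
  have hT₀N : T₀ ≤ N := map_subtype_le _
  have hVT₀ : V ≤ T₀ := fun v hv => ⟨⟨v, hVN hv⟩, hS₀ hv, rfl⟩
  obtain ⟨T, hT⟩ := (IsPGroup.of_card hT₀).exists_le_sylow
  have hTc : Nat.card (T : Subgroup G) = 2 ^ 4 :=
    card_sylow_subgroup (p := 2) (e := 4) (m := 65) (by rw [h]; norm_num) (by norm_num) T
  have hTN : (T : Subgroup G) ⊓ N = T₀ := by
    refine (eq_of_le_of_card_ge (le_inf hT hT₀N) (Nat.le_of_dvd (by rw [hT₀]; norm_num) ?_)).symm
    have h1 := Nat.dvd_gcd (card_dvd_of_le (inf_le_left : (T : Subgroup G) ⊓ N ≤ (T : Subgroup G)))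
      (card_dvd_of_le (inf_le_right : (T : Subgroup G) ⊓ N ≤ N))
    rw [hTc, hN] at h1
    rw [hT₀]
    exact h1.trans (by norm_num)
  have hTnorm : ∀ t ∈ (T : Subgroup G), ∀ a, a ∈ T₀ → t * a * t⁻¹ ∈ T₀ := fun t ht a ha =>
    (mem_normalizer_iff.mp (le_normalizer_of_card (p := 2) (e := 3) hT hT₀ hTc ht) a).mp ha
  have hidx : (T₀.subgroupOf (T : Subgroup G)).index = 2 := by
    have h1 := (T₀.subgroupOf (T : Subgroup G)).card_mul_index
    rw [Nat.card_congr (subgroupOfEquivOfLe hT).toEquiv, hT₀, hTc] at h1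
    norm_num at h1
    omega
  obtain ⟨t, ht, htn⟩ := SetLike.exists_of_lt (lt_of_le_of_ne hT fun e => by
    rw [e] at hT₀; rw [hT₀] at hTc; norm_num at hTc)
  -- no non-trivial element of `V` is mapped into `C(x)` by `t`
  have htV : ∀ v ∈ V, t * v * t⁻¹ ∈ C → v = 1 := by
    intro v hv hw
    by_contra hv1
    have h1 : t * x * t⁻¹ ∈ N := by
      refine hloc _ (fun e => hv1 (by
        calc v = t⁻¹ * (t * v * t⁻¹) * t := by group
          _ = 1 := by rw [e]; group)) hw ?_
      exact mem_centralizer_conj (mem_centralizer_singleton_iff.mpr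
        (mem_centralizer_singleton_iff.mp (hVC hv)).symm)
    apply htn
    have h5 : orderOf (t * x * t⁻¹) = 5 :=
      (orderOf_injective (MulAut.conj t).toMonoidHom (MulAut.conj t).injective x).trans hx
    obtain ⟨Q, hQ⟩ := exists_sylow_eq_zpowers hP5 h5
    have hQP : (Q : Subgroup G) = P := by
      have hQN : (Q : Subgroup G) ≤ N := hQ ▸ zpowers_le.mpr h1
      have hn : (((P.subtype hPN : Sylow 5 N) : Subgroup N)).Normal := by
        rw [P.coe_subtype hPN]; exact (normal_subgroupOf_iff_le_normalizer hPN).mpr le_rfl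
      let := Sylow.unique_of_normal (P.subtype hPN) hn
      have e := congrArg (fun R : Sylow 5 N => (R : Subgroup N).map N.subtype)
        (Subsingleton.elim (Q.subtype hQN) (P.subtype hPN))
      simp only [Sylow.coe_subtype, map_subgroupOf_eq_of_le hQN, map_subgroupOf_eq_of_le hPN] at e
      exact e
    have h3 : t ∈ N := by
      refine Sylow.smul_eq_iff_mem_normalizer.mp ?_
      refine Sylow.ext (eq_of_le_of_card_ge ?_ (by rw [hP5, hP5])).symm
      rw [hPx, zpowers_le, Sylow.coe_subgroup_smul, Subgroup.mem_pointwise_smul_iff_inv_smul_mem,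
        ← map_inv, MulAut.smul_def, MulAut.conj_apply, inv_inv]
      obtain ⟨n, hn⟩ := mem_zpowers_iff.mp (show x ∈ zpowers (t * x * t⁻¹) by
        rw [← hQ, hQP, hPx]; exact mem_zpowers x)
      rw [conj_zpow] at hn
      rw [hPx, show t⁻¹ * x * t = x ^ n by
        calc t⁻¹ * x * t = t⁻¹ * (t * x ^ n * t⁻¹) * t := by rw [hn]
          _ = x ^ n := by group]
      exact zpow_mem (mem_zpowers x) n
    exact hTN ▸ ⟨ht, h3⟩
  rcases hc with rfl | rfl
  swap
  · -- `V` and its conjugate meet in `T₀`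
    obtain ⟨v, hv, hv1, hvC⟩ : ∃ v ∈ V, v ≠ 1 ∧ t * v * t⁻¹ ∈ V := by
      by_contra hcon
      push Not at hcon
      let f : V × V → T₀ := fun q => ⟨q.1 * (t * q.2 * t⁻¹),
        mul_mem (hVT₀ q.1.2) (hTnorm t ht _ (hVT₀ q.2.2))⟩
      have hf : Function.Injective f := by
        rintro ⟨a, b⟩ ⟨a', b'⟩ he
        have he' : (a : G) * (t * b * t⁻¹) = a' * (t * b' * t⁻¹) := congrArg Subtype.val he
        have h1 : t * ((b : G) * (b' : G)⁻¹) * t⁻¹ = (a : G)⁻¹ * a' := by
          rw [eq_inv_mul_iff_mul_eq]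
          calc (a : G) * (t * ((b : G) * (b' : G)⁻¹) * t⁻¹)
              = (a : G) * (t * b * t⁻¹) * (t * b' * t⁻¹)⁻¹ := by group
            _ = a' := by rw [he', mul_inv_cancel_right]
        have h2 : (b : G) * (b' : G)⁻¹ = 1 := by
          by_contra h2
          exact hcon _ (mul_mem b.2 (inv_mem b'.2)) h2 (h1 ▸ mul_mem (inv_mem a.2) a'.2)
        have hb : b = b' := Subtype.ext (mul_inv_eq_one.mp h2)
        subst hb
        exact Prod.ext (Subtype.ext (mul_right_cancel he')) rfl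
      have := Nat.card_le_card_of_injective f hf
      rw [Nat.card_prod, hVc, hT₀] at this
      norm_num at this
    exact hv1 (htV v hv (hVC hvC))
  -- `|C(x)| = 10`
  have hPC : (P : Subgroup G) ≤ C := hPx ▸ zpowers_le_centralizer x
  have hidxC : ((P : Subgroup G).subgroupOf C).index = 2 := by
    have h1 := ((P : Subgroup G).subgroupOf C).card_mul_index
    rw [Nat.card_congr (subgroupOfEquivOfLe hPC).toEquiv, hP5, hCc] at h1
    norm_num at h1
    omega
  have hno : ∀ u ∈ (P : Subgroup G), u * u = 1 → u = 1 := fun u hu huu => by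
    have h5 : u ^ 5 = 1 := by
      have h5 := pow_card_eq_one' (x := (⟨u, hu⟩ : (P : Subgroup G)))
      rw [hP5] at h5
      exact congrArg Subtype.val h5
    rwa [show u ^ 5 = (u * u) * (u * u) * u by simp [pow_succ, mul_assoc], huu, one_mul,
      one_mul] at h5
  have huniq : ∀ u ∈ C, ∀ v ∈ C, u * u = 1 → v * v = 1 → u ≠ 1 → v ≠ 1 → u = v := by
    intro u hu v hv huu hvv hu1 hv1
    have huP : u ∉ (P : Subgroup G) := fun e => hu1 (hno u e huu)
    have hvP : v ∉ (P : Subgroup G) := fun e => hv1 (hno v e hvv)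
    have h1 : u * v ∈ (P : Subgroup G) := by
      have := (mul_mem_iff_of_index_two hidxC (a := (⟨u, hu⟩ : C)) (b := ⟨v, hv⟩)).mpr
        (by rw [mem_subgroupOf, mem_subgroupOf]; exact iff_of_false huP hvP)
      exact this
    have hcomv : ∀ a ∈ (P : Subgroup G), a * v = v * a := fun a ha => by
      obtain ⟨n, rfl⟩ := mem_zpowers_iff.mp (hPx ▸ ha)
      exact ((Commute.symm (mem_centralizer_singleton_iff.mp hv)).zpow_left n).eq
    have h2 : u * v = v * u := by
      have := hcomv _ h1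
      rw [mul_assoc, hvv, mul_one] at this
      calc u * v = v * (v * (u * v)) * 1 := by rw [← mul_assoc, hvv, one_mul, mul_one]
        _ = v * u := by rw [← this, mul_one]
    have h3 : u * v = 1 := hno _ h1 (by
      rw [show u * v * (u * v) = u * (v * u) * v by group, ← h2, show u * (u * v) * v =
        (u * u) * (v * v) by group, huu, hvv, one_mul])
    rw [mul_eq_one_iff_eq_inv.mp h3]
    exact (eq_inv_of_mul_eq_one_left hvv).symm
  have hV2 : Nat.card V = 2 := by rw [hVc]; norm_num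
  obtain ⟨z, hz⟩ := exists_prime_orderOf_dvd_card' (G := V) 2 (by rw [hV2])
  have hz1 : (z : G) ≠ 1 := fun e => by
    rw [← orderOf_coe, e, orderOf_one] at hz; omega
  have hzz : (z : G) * z = 1 := by
    rw [← pow_two, ← hz, ← orderOf_coe, pow_orderOf_eq_one]
  set z₀ : G := (z : G) with hz₀def
  have hzC : z₀ ∈ C := hVC z.2
  have hzT₀ : z₀ ∈ T₀ := hVT₀ z.2
  -- `z₀` is central in `N`
  have hzN : ∀ g ∈ N, g * z₀ = z₀ * g := by
    intro g hg
    have h1 : g * z₀ * g⁻¹ ∈ C := by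
      obtain ⟨n, hn⟩ := mem_zpowers_iff.mp (show g⁻¹ * x * g ∈ zpowers x by
        have := (mem_normalizer_iff.mp (inv_mem hg) x).mp (hPx ▸ mem_zpowers x)
        rwa [inv_inv, hPx] at this)
      have hzn : Commute z₀ (g⁻¹ * x * g) :=
        hn ▸ (show Commute z₀ x from mem_centralizer_singleton_iff.mp hzC).zpow_right n
      rw [hCdef, mem_centralizer_singleton_iff]
      calc g * z₀ * g⁻¹ * x = g * (z₀ * (g⁻¹ * x * g)) * g⁻¹ := by group
        _ = g * ((g⁻¹ * x * g) * z₀) * g⁻¹ := by rw [hzn.eq]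
        _ = x * (g * z₀ * g⁻¹) := by group
    exact mul_inv_eq_iff_eq_mul.mp (huniq _ h1 _ hzC
      (by rw [show g * z₀ * g⁻¹ * (g * z₀ * g⁻¹) = g * (z₀ * z₀) * g⁻¹ by group, hzz, mul_one,
        mul_inv_cancel]) hzz
      (fun e => hz1 (by
        calc z₀ = g⁻¹ * (g * z₀ * g⁻¹) * g := by group
          _ = 1 := by rw [e]; group)) hz1)
  have hCz : centralizer ({z₀} : Set G) ≤ N := hloc z₀ hz1 hzC
  set z₁ := t * z₀ * t⁻¹ with hz₁def
  have hz₁T₀ : z₁ ∈ T₀ := hTnorm t ht _ hzT₀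
  have hz₁z₁ : z₁ * z₁ = 1 := by
    rw [hz₁def, show t * z₀ * t⁻¹ * (t * z₀ * t⁻¹) = t * (z₀ * z₀) * t⁻¹ by group, hzz, mul_one,
      mul_inv_cancel]
  have hz₁1 : z₁ ≠ 1 := fun e => hz1 (by
    calc z₀ = t⁻¹ * z₁ * t := by rw [hz₁def]; group
      _ = 1 := by rw [e]; group)
  have hne01 : z₁ ≠ z₀ := fun e => hz1 (htV z₀ z.2 (by rw [← hz₁def, e]; exact hzC))
  have hz0c : ∀ a ∈ T₀, a * z₀ = z₀ * a := fun a ha => hzN a (hT₀N ha)
  have hz1c : ∀ a ∈ T₀, a * z₁ = z₁ * a := by
    intro a ha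
    have h1 := hz0c (t⁻¹ * a * t) (by simpa using hTnorm t⁻¹ (inv_mem ht) a ha)
    calc a * z₁ = t * ((t⁻¹ * a * t) * z₀) * t⁻¹ := by rw [hz₁def]; group
      _ = t * (z₀ * (t⁻¹ * a * t)) * t⁻¹ := by rw [h1]
      _ = z₁ * a := by rw [hz₁def]; group
  set w := z₀ * z₁ with hwdef
  have hwc : ∀ a ∈ T₀, a * w = w * a := fun a ha =>
    ((show Commute a z₀ from hz0c a ha).mul_right (hz1c a ha)).eq
  -- the four central elements
  have h01 : z₁ * z₀ = z₀ * z₁ := hz0c _ hz₁T₀
  let S : Subgroup G :=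
    { carrier := {a | a = 1 ∨ a = z₀ ∨ a = z₁ ∨ a = w}
      one_mem' := Or.inl rfl
      mul_mem' := by
        rintro a b (rfl | rfl | rfl | rfl) (rfl | rfl | rfl | rfl) <;>
          simp only [Set.mem_setOf_eq, hwdef, one_mul, mul_one, hzz, hz₁z₁, h01,
            show z₀ * (z₀ * z₁) = z₁ by rw [← mul_assoc, hzz, one_mul],
            show z₁ * (z₀ * z₁) = z₀ by rw [← mul_assoc, h01, mul_assoc, hz₁z₁, mul_one],
            show z₀ * z₁ * z₀ = z₁ by rw [mul_assoc, h01, ← mul_assoc, hzz, one_mul],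
            show z₀ * z₁ * z₁ = z₀ by rw [mul_assoc, hz₁z₁, mul_one],
            show z₀ * z₁ * (z₀ * z₁) = 1 by
              rw [mul_assoc, ← mul_assoc z₁, h01, mul_assoc z₀ z₁ z₁, hz₁z₁, mul_one, hzz],
            true_or, or_true]
      inv_mem' := by
        rintro a (rfl | rfl | rfl | rfl)
        · exact Or.inl inv_one
        · exact Or.inr (Or.inl (inv_eq_of_mul_eq_one_right hzz))
        · exact Or.inr (Or.inr (Or.inl (inv_eq_of_mul_eq_one_right hz₁z₁)))
        · refine Or.inr (Or.inr (Or.inr ?_))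
          rw [hwdef, mul_inv_rev, inv_eq_of_mul_eq_one_right hzz, inv_eq_of_mul_eq_one_right hz₁z₁,
            h01] }
  have hmemS : ∀ a, a ∈ S ↔ a = 1 ∨ a = z₀ ∨ a = z₁ ∨ a = w := fun a => Iff.rfl
  have hST₀ : S ≤ T₀ := by
    rintro a (rfl | rfl | rfl | rfl)
    exacts [one_mem _, hzT₀, hz₁T₀, mul_mem hzT₀ hz₁T₀]
  have hS4 : Nat.card S = 4 := by
    have hw0 : w ≠ z₀ := fun e => hz₁1 (mul_left_cancel (e.trans (mul_one z₀).symm))
    have hw1 : w ≠ z₁ := fun e => hz1 (mul_right_cancel (e.trans (one_mul z₁).symm))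
    have hwne : w ≠ 1 := fun e => hne01 (by
      rw [← mul_one z₀, ← e, hwdef, ← mul_assoc, hzz, one_mul])
    have e : (S : Set G) = (({1, z₀, z₁, w} : Finset G) : Set G) := by
      ext a; simp [hmemS]
    show Nat.card (S : Set G) = 4
    rw [e, Nat.card_coe_set_eq, Set.ncard_coe_finset]
    rw [Finset.card_insert_of_notMem (by simp [hz1.symm, hz₁1.symm, hwne.symm]),
      Finset.card_insert_of_notMem (by simp [hne01.symm, hw0.symm]),
      Finset.card_insert_of_notMem (by simp [hw1.symm]), Finset.card_singleton]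
  have hwne : w ≠ 1 := fun e => hne01 (by
    rw [← mul_one z₀, ← e, hwdef, ← mul_assoc, hzz, one_mul])
  have hww : w * w = 1 := by
    rw [hwdef, mul_assoc, ← mul_assoc z₁, h01, mul_assoc z₀ z₁ z₁, hz₁z₁, mul_one, hzz]
  have hSidx : (S.subgroupOf T₀).index = 2 := by
    have h1 := (S.subgroupOf T₀).card_mul_index
    rw [Nat.card_congr (subgroupOfEquivOfLe hST₀).toEquiv, hS4, hT₀] at h1
    norm_num at h1
    omega
  -- an element of `T₀` of order four
  obtain ⟨h₀, hh₀, hh₀2⟩ : ∃ a ∈ T₀, a * a ≠ 1 := by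
    by_contra hcon
    push Not at hcon
    -- every element of `T₀` centralises or inverts `x`
    have hinv : ∀ a ∈ T₀, a * x * a⁻¹ = x ∨ a * x * a⁻¹ = x⁻¹ := by
      intro a ha
      obtain ⟨n, hn⟩ := mem_zpowers_iff.mp (show a * x * a⁻¹ ∈ zpowers x by
        rw [← hPx]; exact (mem_normalizer_iff.mp (hT₀N ha) x).mp (hPx ▸ mem_zpowers x))
      have h2 : x = x ^ (n * n) := by
        rw [zpow_mul, hn, conj_zpow, hn, show a * (a * x * a⁻¹) * a⁻¹ = (a * a) * x * (a * a)⁻¹ by
          group, hcon a ha, one_mul, inv_one, mul_one]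
      have hd : (5 : ℤ) ∣ n * n - 1 := by
        have := orderOf_dvd_iff_zpow_eq_one.mpr (show x ^ (n * n - 1) = 1 by
          rw [zpow_sub_one, ← h2, mul_inv_cancel])
        rwa [hx] at this
      rw [show n * n - 1 = (n - 1) * (n + 1) by ring] at hd
      rcases (Nat.prime_iff_prime_int.mp (by norm_num : Nat.Prime 5)).dvd_mul.mp hd with ⟨m, hm⟩ | ⟨m, hm⟩
      · left
        rw [← hn, show n = 5 * m + 1 by omega, zpow_add_one, zpow_mul,
          show x ^ (5 : ℤ) = 1 by exact_mod_cast hx ▸ pow_orderOf_eq_one x, one_zpow, one_mul]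
      · right
        rw [← hn, show n = 5 * m - 1 by omega, zpow_sub_one, zpow_mul,
          show x ^ (5 : ℤ) = 1 by exact_mod_cast hx ▸ pow_orderOf_eq_one x, one_zpow, one_mul]
    have hcv : T₀ ⊓ C ≤ V := by
      intro a ⟨ha, haC⟩
      by_cases ha1 : a = 1
      · exact ha1 ▸ one_mem _
      rw [huniq a haC z₀ hzC (hcon a ha) hzz ha1 hz1]
      exact z.2
    have h2 : ∀ a ∈ T₀, ∀ b ∈ T₀, a ∉ V → b ∉ V → a * b ∈ V := by
      intro a ha b hb haV hbV
      refine hcv ⟨mul_mem ha hb, mem_centralizer_singleton_iff.mpr (mul_inv_eq_iff_eq_mul.mp ?_)⟩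
      have h3 : ∀ u ∈ T₀, u ∉ V → u * x * u⁻¹ = x⁻¹ := fun u hu huV => (hinv u hu).resolve_left
        fun e => huV (hcv ⟨hu, mem_centralizer_singleton_iff.mpr (mul_inv_eq_iff_eq_mul.mp e)⟩)
      calc a * b * x * (a * b)⁻¹ = a * (b * x * b⁻¹) * a⁻¹ := by group
        _ = (a * x * a⁻¹)⁻¹ := by rw [h3 b hb hbV]; group
        _ = x := by rw [h3 a ha haV, inv_inv]
    have hz₁V : z₁ ∉ V := fun e => hz1 (htV z₀ z.2 (hVC e))
    obtain ⟨b, hb, hbS⟩ := SetLike.exists_of_lt (lt_of_le_of_ne hST₀ fun e => by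
      rw [e] at hS4; rw [hS4] at hT₀; norm_num at hT₀)
    have hbV : b ∉ V := fun e => hbS (by
      rcases eq_or_ne b 1 with rfl | hb1
      · exact one_mem _
      rw [huniq b (hVC e) z₀ hzC (hcon b hb) hzz hb1 hz1]
      exact Or.inr (Or.inl rfl))
    have h4 := h2 z₁ hz₁T₀ b hb hz₁V hbV
    apply hbS
    have h5 : z₁ * b ∈ S := by
      rcases eq_or_ne (z₁ * b) 1 with e | e
      · exact e ▸ one_mem _
      rw [huniq _ (hVC h4) z₀ hzC (hcon _ (mul_mem hz₁T₀ hb)) hzz e hz1]
      exact Or.inr (Or.inl rfl)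
    simpa [← mul_assoc, hz₁z₁] using mul_mem (show z₁ ∈ S from Or.inr (Or.inr (Or.inl rfl))) h5
  have hSc : ∀ s ∈ S, ∀ a ∈ T₀, a * s = s * a := by
    rintro s (rfl | rfl | rfl | rfl) a ha
    exacts [by rw [one_mul, mul_one], hz0c a ha, hz1c a ha, hwc a ha]
  have hSsq : ∀ s ∈ S, s * s = 1 := by
    rintro s (rfl | rfl | rfl | rfl)
    exacts [one_mul 1, hzz, hz₁z₁, hww]
  have hh₀S : h₀ ∉ S := fun e => hh₀2 (hSsq _ e)
  have hcoset : ∀ a ∈ T₀, a ∈ S ∨ ∃ s ∈ S, a = h₀ * s := by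
    intro a ha
    by_cases haS : a ∈ S
    · exact Or.inl haS
    refine Or.inr ⟨h₀⁻¹ * a, ?_, by rw [mul_inv_cancel_left]⟩
    have := (mul_mem_iff_of_index_two hSidx (a := (⟨h₀, hh₀⟩ : T₀)⁻¹) (b := ⟨a, ha⟩)).mpr
      (by rw [inv_mem_iff, mem_subgroupOf, mem_subgroupOf]; exact iff_of_false hh₀S haS)
    exact this
  have hsq₀ : ∀ a ∈ T₀, a * a = 1 ∨ a * a = h₀ * h₀ := by
    intro a ha
    rcases hcoset a ha with e | ⟨s, hs, rfl⟩
    · exact Or.inl (hSsq a e)
    · right
      rw [show h₀ * s * (h₀ * s) = h₀ * (s * h₀) * s by group, ← hSc s hs h₀ hh₀,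
        show h₀ * (h₀ * s) * s = h₀ * h₀ * (s * s) by group, hSsq s hs, mul_one]
  have hT₀comm : ∀ a ∈ T₀, ∀ b ∈ T₀, a * b = b * a := by
    intro a ha b hb
    rcases hcoset a ha with e | ⟨s, hs, rfl⟩
    · exact (hSc a e b hb).symm
    rcases hcoset b hb with e' | ⟨s', hs', rfl⟩
    · exact hSc b e' _ (mul_mem hh₀ (hST₀ hs))
    · calc h₀ * s * (h₀ * s') = h₀ * (s * h₀) * s' := by group
        _ = h₀ * (h₀ * s) * s' := by rw [← hSc s hs h₀ hh₀]
        _ = h₀ * h₀ * (s * s') := by group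
        _ = h₀ * h₀ * (s' * s) := by rw [hSc s' hs' s (hST₀ hs)]
        _ = h₀ * (h₀ * s') * s := by group
        _ = h₀ * (s' * h₀) * s := by rw [hSc s' hs' h₀ hh₀]
        _ = h₀ * s' * (h₀ * s) := by group
  have hconjsq : t * (h₀ * h₀) * t⁻¹ = h₀ * h₀ := by
    rcases hsq₀ _ (hTnorm t ht h₀ hh₀) with e | e
    · exfalso
      apply hh₀2
      calc h₀ * h₀ = t⁻¹ * ((t * h₀ * t⁻¹) * (t * h₀ * t⁻¹)) * t := by group
        _ = 1 := by rw [e]; group
    · calc t * (h₀ * h₀) * t⁻¹ = t * h₀ * t⁻¹ * (t * h₀ * t⁻¹) := by group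
        _ = _ := e
  have hh₀w : h₀ * h₀ = w := by
    have h1 : h₀ * h₀ ∈ S := by
      have := sq_mem_of_index_two hSidx (⟨h₀, hh₀⟩ : T₀)
      rwa [mem_subgroupOf, SubgroupClass.coe_pow, pow_two] at this
    rcases h1 with e | e | e | e
    · exact absurd e hh₀2
    · rw [e] at hconjsq; exact absurd hconjsq hne01
    · exfalso
      rw [e] at hconjsq
      apply hne01
      have h2 : t * z₁ * t⁻¹ = t * z₀ * t⁻¹ := hconjsq
      exact mul_left_cancel (mul_right_cancel h2)
    · exact e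
  rw [hh₀w] at hconjsq hsq₀
  have ht01 : t * z₁ * t⁻¹ = z₀ := by
    have h1 : t * z₀ * t⁻¹ * (t * z₁ * t⁻¹) = z₀ * z₁ := by
      calc _ = t * (z₀ * z₁) * t⁻¹ := by group
        _ = _ := hconjsq
    rw [← hz₁def] at h1
    calc t * z₁ * t⁻¹ = z₁ * (z₁ * (t * z₁ * t⁻¹)) := by
          rw [← mul_assoc z₁ z₁, hz₁z₁, one_mul]
      _ = z₀ := by rw [h1, ← mul_assoc, h01, mul_assoc, hz₁z₁, mul_one]
  have htt : t * t ∈ T₀ := by
    have := sq_mem_of_index_two hidx (⟨t, ht⟩ : (T : Subgroup G))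
    rwa [mem_subgroupOf, SubgroupClass.coe_pow, pow_two] at this
  -- `t` fixes an element `k` with `k² = w`
  obtain ⟨k, hk, hkk, hkt⟩ : ∃ k ∈ T₀, k * k = w ∧ t * k * t⁻¹ = k := by
    have hconj : ∀ a ∈ T₀, t * (t * a * t⁻¹) * t⁻¹ = a := fun a ha => by
      rw [show t * (t * a * t⁻¹) * t⁻¹ = (t * t) * a * (t * t)⁻¹ by group,
        hT₀comm _ htt a ha, mul_inv_cancel_right]
    rcases hcoset _ (hTnorm t ht h₀ hh₀) with e | ⟨s, hs, hts⟩
    · exfalso
      apply hwne
      calc w = t⁻¹ * ((t * h₀ * t⁻¹) * (t * h₀ * t⁻¹)) * t := by rw [← hh₀w]; group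
        _ = 1 := by rw [hSsq _ e]; group
    have h2 : t * (h₀ * s) * t⁻¹ = h₀ := hts ▸ hconj h₀ hh₀
    rw [show t * (h₀ * s) * t⁻¹ = t * h₀ * t⁻¹ * (t * s * t⁻¹) by group, hts, mul_assoc] at h2
    have h3 : s * (t * s * t⁻¹) = 1 := mul_left_cancel (h2.trans (mul_one h₀).symm)
    rcases hs with rfl | rfl | rfl | rfl
    · exact ⟨h₀, hh₀, hh₀w, by rw [hts, mul_one]⟩
    · exact absurd h3 hwne
    · rw [ht01, h01] at h3; exact absurd h3 hwne
    · refine ⟨h₀ * z₀, mul_mem hh₀ hzT₀, ?_, ?_⟩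
      · rw [show h₀ * z₀ * (h₀ * z₀) = h₀ * (z₀ * h₀) * z₀ by group, ← hz0c h₀ hh₀,
          show h₀ * (h₀ * z₀) * z₀ = h₀ * h₀ * (z₀ * z₀) by group, hh₀w, hzz, mul_one]
      · rw [show t * (h₀ * z₀) * t⁻¹ = t * h₀ * t⁻¹ * (t * z₀ * t⁻¹) by group, hts, ← hz₁def,
          hwdef, mul_assoc, mul_assoc z₀, hz₁z₁, mul_one]
  have hdecomp : ∀ a ∈ (T : Subgroup G), a ∈ T₀ ∨ ∃ u ∈ T₀, a = t * u := by
    intro a ha
    by_cases haS : a ∈ T₀
    · exact Or.inl haS
    refine Or.inr ⟨t⁻¹ * a, ?_, by rw [mul_inv_cancel_left]⟩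
    have := (mul_mem_iff_of_index_two hidx (a := (⟨t, ht⟩ : (T : Subgroup G))⁻¹) (b := ⟨a, ha⟩)).mpr
      (by rw [inv_mem_iff, mem_subgroupOf, mem_subgroupOf]; exact iff_of_false htn haS)
    exact this
  have hkT : ∀ a ∈ (T : Subgroup G), a * k = k * a := by
    intro a ha
    rcases hdecomp a ha with e | ⟨u, hu, rfl⟩
    · exact hT₀comm a e k hk
    · rw [mul_assoc, hT₀comm u hu k hk, ← mul_assoc, mul_inv_eq_iff_eq_mul.mp hkt, mul_assoc]
  have hkw : k ∉ S := fun e => hwne (hkk ▸ hSsq k e)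
  have hcos : ∀ a ∈ T₀, a ∈ S ∨ ∃ s ∈ S, a = k * s := by
    intro a ha
    by_cases haS : a ∈ S
    · exact Or.inl haS
    refine Or.inr ⟨k⁻¹ * a, ?_, by rw [mul_inv_cancel_left]⟩
    have := (mul_mem_iff_of_index_two hSidx (a := (⟨k, hk⟩ : T₀)⁻¹) (b := ⟨a, ha⟩)).mpr
      (by rw [inv_mem_iff, mem_subgroupOf, mem_subgroupOf]; exact iff_of_false hkw haS)
    exact this
  -- conjugation by `t` moves elements of `T₀` by `w`
  have htS : ∀ s ∈ S, t * s * t⁻¹ = s ∨ t * s * t⁻¹ = s * w := by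
    rintro s (rfl | rfl | rfl | rfl)
    · exact Or.inl (by rw [mul_one, mul_inv_cancel])
    · right; rw [← hz₁def, hwdef, ← mul_assoc, hzz, one_mul]
    · right; rw [ht01, hwdef, ← mul_assoc, h01, mul_assoc, hz₁z₁, mul_one]
    · exact Or.inl hconjsq
  have htT₀ : ∀ a ∈ T₀, t * a * t⁻¹ = a ∨ t * a * t⁻¹ = a * w := by
    intro a ha
    rcases hcos a ha with e | ⟨s, hs, rfl⟩
    · exact htS a e
    · have e1 : t * (k * s) * t⁻¹ = k * (t * s * t⁻¹) := by
        rw [show t * (k * s) * t⁻¹ = t * k * t⁻¹ * (t * s * t⁻¹) by group, hkt]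
      rcases htS s hs with e | e
      · exact Or.inl (by rw [e1, e])
      · exact Or.inr (by rw [e1, e, mul_assoc])
  have hkwT : ∀ a ∈ (T : Subgroup G), a * w = w * a := fun a ha => by
    rw [← hkk, ← mul_assoc, hkT a ha, mul_assoc, hkT a ha, mul_assoc]
  have hCw : centralizer ({w} : Set G) = (T : Subgroup G) := by
    set H := centralizer ({w} : Set G) with hH
    have hTH : (T : Subgroup G) ≤ H := fun a ha => mem_centralizer_singleton_iff.mpr (hkwT a ha)
    refine (eq_of_le_of_card_ge hTH ?_).symm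
    have hd : Nat.card H ∣ 1040 := h ▸ card_subgroup_dvd_card H
    have h16 : 16 ∣ Nat.card H := by
      have := card_dvd_of_le hTH
      rwa [hTc] at this
    have hle := hle80 H fun ht' => by
      have : w ∈ center G := mem_center_iff.mpr fun a =>
        mem_centralizer_singleton_iff.mp (ht' ▸ mem_top a : a ∈ H)
      rw [center_eq_bot hG, mem_bot] at this
      exact hwne this
    rw [hTc]
    by_contra hgt
    obtain ⟨m, hm⟩ := h16
    have hm5 : m = 5 := by
      have hm' : m ∣ 65 := Nat.dvd_of_mul_dvd_mul_left (show 0 < 16 by norm_num) (hm ▸ hd)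
      have : m ≤ 5 := by omega
      have : 1 < m := by omega
      interval_cases m <;> omega
    obtain ⟨y, hy⟩ := exists_prime_orderOf_dvd_card' (G := H) 5 (by rw [hm, hm5]; norm_num)
    have hyG : orderOf (y : G) = 5 := by rw [orderOf_coe, hy]
    obtain ⟨Q, hQ⟩ := exists_sylow_eq_zpowers hP5 hyG
    obtain ⟨g, hg⟩ := MulAction.exists_smul_eq G P Q
    -- `g⁻¹ w g` centralises `x`
    have hxw : g * x * g⁻¹ * w = w * (g * x * g⁻¹) := by
      have hxQ : g * x * g⁻¹ ∈ zpowers (y : G) := by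
        rw [← hQ, ← hg, Sylow.coe_subgroup_smul, Subgroup.mem_pointwise_smul_iff_inv_smul_mem,
          ← map_inv, MulAut.smul_def, MulAut.conj_apply, inv_inv, hPx,
          show g⁻¹ * (g * x * g⁻¹) * g = x by group]
        exact mem_zpowers x
      exact mem_centralizer_singleton_iff.mp (zpowers_le.mpr y.2 hxQ)
    have hu : g⁻¹ * w * g ∈ C := mem_centralizer_singleton_iff.mpr (by
      calc g⁻¹ * w * g * x = g⁻¹ * (w * (g * x * g⁻¹)) * g := by group
        _ = g⁻¹ * (g * x * g⁻¹ * w) * g := by rw [hxw]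
        _ = x * (g⁻¹ * w * g) := by group)
    have hwz : g⁻¹ * w * g = z₀ := huniq _ hu _ hzC
      (by rw [show g⁻¹ * w * g * (g⁻¹ * w * g) = g⁻¹ * (w * w) * g by group, hww, mul_one,
        inv_mul_cancel]) hzz
      (fun e => hwne (by
        calc w = g * (g⁻¹ * w * g) * g⁻¹ := by group
          _ = 1 := by rw [e]; group)) hz1
    have hmap : (T : Subgroup G).map (MulAut.conj g⁻¹).toMonoidHom ≤ N := by
      rintro _ ⟨a, ha, rfl⟩
      refine hCz ?_
      have := mem_centralizer_conj (g := g⁻¹) (hTH ha)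
      rw [inv_inv, hwz] at this
      simpa using this
    have := card_dvd_of_le hmap
    rw [card_map_of_injective (MulAut.conj g⁻¹).injective, hTc, hN] at this
    norm_num at this
  refine false_of_structure hG (T : Subgroup G) (hT hk) hkk hwne hww hkT hCw ?_ ?_
  · -- commutators
    have hwz : w ∈ zpowers w := mem_zpowers w
    have htu : ∀ u ∈ T₀, t * u * t⁻¹ * u⁻¹ ∈ zpowers w := fun u hu => by
      rcases htT₀ u hu with e | e
      · rw [e, mul_inv_cancel]; exact one_mem _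
      · rw [e, hwc u hu, mul_inv_cancel_right]; exact hwz
    have hconj : ∀ a ∈ (T : Subgroup G), ∀ u ∈ zpowers w, a * u * a⁻¹ = u := by
      intro a ha u hu
      obtain ⟨n, rfl⟩ := mem_zpowers_iff.mp hu
      rw [((show Commute a w from hkwT a ha).zpow_right n).eq, mul_inv_cancel_right]
    intro a ha b hb
    rcases hdecomp a ha with e | ⟨u, hu, rfl⟩ <;> rcases hdecomp b hb with e' | ⟨v, hv, rfl⟩
    · rw [hT₀comm a e b e', mul_inv_cancel_right, mul_inv_cancel]; exact one_mem _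
    · rw [show a * (t * v) * a⁻¹ * (t * v)⁻¹ =
          (t * a * t⁻¹ * a⁻¹)⁻¹ * (t * (a * v * a⁻¹ * v⁻¹) * t⁻¹) by group,
        hT₀comm a e v hv, mul_inv_cancel_right, mul_inv_cancel, mul_one, mul_inv_cancel, mul_one]
      exact inv_mem (htu a e)
    · rw [show t * u * b * (t * u)⁻¹ * b⁻¹ =
          t * (u * b * u⁻¹ * b⁻¹) * t⁻¹ * (t * b * t⁻¹ * b⁻¹) by group,
        hT₀comm u hu b e', mul_inv_cancel_right, mul_inv_cancel, mul_one, mul_inv_cancel, one_mul]
      exact htu b e'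
    · have hc : u⁻¹ * v ∈ T₀ := mul_mem (inv_mem hu) hv
      have h1 : t * u * (u⁻¹ * v) * (t * u)⁻¹ * (u⁻¹ * v)⁻¹ ∈ zpowers w := by
        rw [show t * u * (u⁻¹ * v) * (t * u)⁻¹ * (u⁻¹ * v)⁻¹ =
          t * (u * (u⁻¹ * v) * u⁻¹ * (u⁻¹ * v)⁻¹) * t⁻¹ *
            (t * (u⁻¹ * v) * t⁻¹ * (u⁻¹ * v)⁻¹) by group,
          hT₀comm u hu _ hc, mul_inv_cancel_right, mul_inv_cancel, mul_one, mul_inv_cancel, one_mul]
        exact htu _ hc
      rw [show t * u * (t * v) * (t * u)⁻¹ * (t * v)⁻¹ =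
        t * u * (t * u * (u⁻¹ * v) * (t * u)⁻¹ * (u⁻¹ * v)⁻¹) * (t * u)⁻¹ by group,
        hconj _ ha _ h1]
      exact h1
  · intro s hs h4 h2
    rcases hdecomp s hs with e | ⟨u, hu, rfl⟩
    · exact (hsq₀ s e).resolve_left h2
    have hss : t * u * (t * u) ∈ T₀ := by
      have := sq_mem_of_index_two hidx (⟨t * u, hs⟩ : (T : Subgroup G))
      rwa [mem_subgroupOf, SubgroupClass.coe_pow, pow_two] at this
    set q := t * u * (t * u) with hq
    have hfix : t * q * t⁻¹ = q := by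
      calc t * q * t⁻¹ = (t * u) * (u⁻¹ * q * u) * (t * u)⁻¹ := by group
        _ = (t * u) * q * (t * u)⁻¹ := by
          rw [mul_assoc u⁻¹, hT₀comm q hss u hu, inv_mul_cancel_left]
        _ = q := by rw [hq]; group
    rcases hcos q hss with ⟨e | e | e | e⟩ | ⟨s', hs', hqs⟩
    · exact absurd e h2
    · exact absurd (e ▸ hfix : t * z₀ * t⁻¹ = z₀) hne01
    · exact absurd ((e ▸ hfix : t * z₁ * t⁻¹ = z₁).symm.trans ht01) hne01
    · exact e
    · exfalso
      apply hwne
      rw [hqs, show k * s' * (k * s') = k * (s' * k) * s' by group, ← hSc s' hs' k hk,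
        show k * (k * s') * s' = k * k * (s' * s') by group, hkk, hSsq s' hs', mul_one] at h4
      exact h4

end Cfsg.Agent.SmallOrders.O1040
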