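-- No simple group of order 1080.
--
-- * `card_ne`
import Cfsg.Agent.Lib.SmallOrders.Tools

set_option autoImplicit false

namespace Cfsg.Agent.SmallOrders.O1080

open Subgroup

variable {G : Type*} [Group G] [Finite G] [IsSimpleGroup G]

theorem card_ne (hG : ¬ IsMulCommutative G) : Nat.card G ≠ 1080 := by
  intro h
  have : Fact (Nat.Prime 5) := ⟨by norm_num⟩
  have : Fact (Nat.Prime 3) := ⟨by norm_num⟩
  have hn5 : Nat.card (Sylow 5 G) = 36 := by
    simpa using mem_of_candBool hG h 5 1 [36] (by decide +kernel)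
  have hP5 : ∀ P : Sylow 5 G, Nat.card (P : Subgroup G) = 5 := fun P => by
    rw [card_sylow_subgroup (p := 5) (e := 1) (m := 216) (by rw [h]; norm_num) (by norm_num) P,
      pow_one]
  obtain ⟨P⟩ := (inferInstance : Nonempty (Sylow 5 G))
  obtain ⟨x', hx'⟩ := exists_prime_orderOf_dvd_card' (G := (P : Subgroup G)) 5 (by rw [hP5])
  set x : G := (x' : G) with hxdef
  have hx : orderOf x = 5 := by rw [hxdef, Subgroup.orderOf_coe, hx']
  have hPx : (P : Subgroup G) = zpowers x :=
    (eq_of_le_of_card_ge (zpowers_le.mpr x'.2) (by rw [hP5, Nat.card_zpowers, hx])).symm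
  obtain ⟨j, hj1, hj4, hCj, hC5, -⟩ := exists_card_centralizer_mul hG hx P hPx
  have hN : Nat.card (normalizer ((P : Subgroup G) : Set G)) = 30 := by
    have := card_normalizer_mul_card_sylow P
    rw [hn5, h] at this
    omega
  have hC : Nat.card (centralizer ({x} : Set G)) = 15 := by
    rw [hN] at hCj
    have := Nat.le_of_dvd (by norm_num) hj4
    interval_cases j <;> omega
  obtain ⟨a', ha'⟩ := exists_prime_orderOf_dvd_card' (G := centralizer ({x} : Set G)) 3
    (by rw [hC]; norm_num)
  set a : G := (a' : G) with hadef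
  have ha : orderOf a = 3 := by rw [hadef, Subgroup.orderOf_coe, ha']
  have ha1 : a ≠ 1 := fun e => by rw [e, orderOf_one] at ha; omega
  have hax : a * x = x * a := mem_centralizer_singleton_iff.mp a'.2
  set H := centralizer ({a} : Set G) with hH
  have hHtop : H ≠ ⊤ := by
    intro ht
    have : a ∈ center G := mem_center_iff.mpr fun g =>
      mem_centralizer_singleton_iff.mp (ht ▸ mem_top g : g ∈ H)
    rw [center_eq_bot hG, mem_bot] at this
    exact ha1 this
  -- nine divides `|C(a)|`
  have h9 : 9 ∣ Nat.card H := by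
    obtain ⟨R, hR⟩ := (IsPGroup.of_card (n := 1) (show Nat.card (zpowers a) = 3 ^ 1 by
      rw [Nat.card_zpowers, ha, pow_one])).exists_le_sylow
    have hRc : Nat.card (R : Subgroup G) = 3 ^ 3 :=
      card_sylow_subgroup (p := 3) (e := 3) (m := 40) (by rw [h]; norm_num) (by norm_num) R
    have haR : a ∈ (R : Subgroup G) := hR (mem_zpowers a)
    by_cases hz : (⟨a, haR⟩ : (R : Subgroup G)) ∈ center (R : Subgroup G)
    · have hle : (R : Subgroup G) ≤ H := fun r hr => mem_centralizer_singleton_iff.mpr
        (congrArg Subtype.val (mem_center_iff.mp hz ⟨r, hr⟩))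
      exact (Dvd.intro 3 (by rw [hRc]; norm_num)).trans (card_dvd_of_le hle)
    · set K := (centralizer ({(⟨a, haR⟩ : (R : Subgroup G))} : Set (R : Subgroup G))) with hK
      have hlt : center (R : Subgroup G) < K := lt_of_le_of_ne
        (fun z hz => mem_centralizer_singleton_iff.mpr (mem_center_iff.mp hz _).symm)
        fun e => hz (e ▸ mem_centralizer_self _)
      have hKd : Nat.card K ∣ 3 ^ 3 := hRc ▸ card_subgroup_dvd_card K
      obtain ⟨k, hk3, hk⟩ := (Nat.dvd_prime_pow Nat.prime_three).mp hKd
      have hZ : 1 < Nat.card (center (R : Subgroup G)) := by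
        have : Nontrivial (R : Subgroup G) := Finite.one_lt_card_iff_nontrivial.mp (by rw [hRc]; norm_num)
        have := R.isPGroup'.center_nontrivial
        exact Finite.one_lt_card
      have hlt' : Nat.card (center (R : Subgroup G)) < Nat.card K :=
        lt_of_le_of_ne (card_le_of_le hlt.le) fun e => hlt.ne (eq_of_le_of_card_ge hlt.le e.ge)
      have hZd : Nat.card (center (R : Subgroup G)) ∣ 3 ^ 3 := hRc ▸ card_subgroup_dvd_card _
      obtain ⟨l, -, hl⟩ := (Nat.dvd_prime_pow Nat.prime_three).mp hZd
      rw [hl] at hZ hlt'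
      rw [hk] at hlt'
      have hkl := (Nat.pow_lt_pow_iff_right (by norm_num)).mp hlt'
      have hl0 : l ≠ 0 := fun e => by rw [e] at hZ; norm_num at hZ
      have h9K : 9 ∣ Nat.card K := hk ▸ (show 9 = 3 ^ 2 by norm_num) ▸ pow_dvd_pow 3 (by omega)
      refine h9K.trans ?_
      rw [← card_map_of_injective (K := K) (R : Subgroup G).subtype_injective]
      refine card_dvd_of_le ?_
      rintro _ ⟨r, hr, rfl⟩
      exact mem_centralizer_singleton_iff.mpr
        (congrArg Subtype.val (mem_centralizer_singleton_iff.mp hr))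
  have hxH : x ∈ H := mem_centralizer_singleton_iff.mpr hax.symm
  have hPH : (P : Subgroup G) ≤ H := by rw [hPx, zpowers_le]; exact hxH
  have h45 : 45 ∣ Nat.card H :=
    Nat.Coprime.mul_dvd_of_dvd_of_dvd (by norm_num : Nat.Coprime 9 5) h9
      (hx ▸ orderOf_dvd_natCard _ hxH)
  set P' := P.subtype hPH
  have hP' : Nat.card (P' : Subgroup H) = 5 := by
    rw [P.coe_subtype hPH, Nat.card_congr (subgroupOfEquivOfLe hPH).toEquiv, hP5]
  have hN' := card_normalizer_mul_card_sylow P'
  have hNle : Nat.card (normalizer ((P' : Subgroup H) : Set H)) ∣ 30 := by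
    rw [← hN, ← card_map_of_injective (K := normalizer ((P' : Subgroup H) : Set H)) H.subtype_injective]
    refine card_dvd_of_le ((le_normalizer_map _).trans (le_of_eq ?_))
    rw [P.coe_subtype hPH, map_subgroupOf_eq_of_le hPH]
  have hidx := le_index_of_facBool hG h 8 (by decide +kernel) hHtop
  have hmul := H.card_mul_index
  rw [h] at hmul
  have hmod : Nat.card (Sylow 5 H) % 5 = 1 := card_sylow_modEq_one 5 H
  set nu := Nat.card (normalizer ((P' : Subgroup H) : Set H))
  set n5 := Nat.card (Sylow 5 H)
  have h135 : Nat.card H ≤ 135 := by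
    by_contra hlt
    have : 136 * 8 ≤ Nat.card H * H.index := Nat.mul_le_mul (by omega) hidx
    omega
  have h5nu : 5 ∣ nu := hP' ▸ card_dvd_of_le le_normalizer
  -- so `|C(a)| = 90` and `N(P) ∩ C(a) = C(x)`
  have hcases : Nat.card H = 90 ∧ nu = 15 := by
    obtain ⟨t, ht⟩ := h45
    have hd : Nat.card H ∣ 1080 := ⟨H.index, hmul.symm⟩
    rw [ht] at hd h135 hN' ⊢
    have ht3 : t ≤ 3 := by omega
    have hnu := Nat.le_of_dvd (by norm_num) hNle
    have hn5le : n5 ≤ 27 := by
      by_contra hlt
      have : 28 * 5 ≤ n5 * nu := Nat.mul_le_mul (by omega) (Nat.le_of_dvd (Nat.pos_of_ne_zero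
        fun e => by rw [e] at hNle; simp at hNle) h5nu)
      rw [mul_comm n5] at this
      omega
    obtain ⟨s, hs⟩ := h5nu
    rw [hs] at hN' hnu hNle ⊢
    have : s ≤ 6 := by omega
    interval_cases t <;> interval_cases s <;> omega
  obtain ⟨hH90, hnu15⟩ := hcases
  -- Burnside gives a normal complement of order 18
  have hcen : normalizer ((P' : Subgroup H) : Set H) ≤ centralizer ((P' : Subgroup H) : Set H) := by
    have hle : ((centralizer ({x} : Set G)).subgroupOf H) ⊓ normalizer ((P' : Subgroup H) : Set H) =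
        normalizer ((P' : Subgroup H) : Set H) := by
      refine inf_eq_right.mpr fun g hg => mem_subgroupOf.mpr (mem_centralizer_singleton_iff.mpr ?_)
      have hg15 : orderOf g ∣ 15 := hnu15 ▸ orderOf_dvd_natCard _ hg
      have hgN : (g : G) ∈ normalizer ((P : Subgroup G) : Set G) := by
        have := le_normalizer_map H.subtype (mem_map_of_mem H.subtype hg)
        rwa [P.coe_subtype hPH, map_subgroupOf_eq_of_le hPH] at this
      obtain ⟨j', -, -, hCj', -, hle'⟩ := exists_card_centralizer_mul hG hx P hPx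
      have hsub : ((centralizer ({x} : Set G)).subgroupOf (normalizer ((P : Subgroup G) : Set G))).index = 2 := by
        have h1 := ((centralizer ({x} : Set G)).subgroupOf (normalizer ((P : Subgroup G) : Set G))).card_mul_index
        rw [Nat.card_congr (subgroupOfEquivOfLe hle').toEquiv, hC, hN] at h1
        omega
      obtain ⟨m, hm⟩ : ∃ m, g ^ (2 * m) = g := by
        refine ⟨8, ?_⟩
        rw [show 2 * 8 = 15 + 1 from rfl, pow_succ, orderOf_dvd_iff_pow_eq_one.mp hg15, one_mul]
      have h2 := sq_mem_of_index_two hsub ⟨(g : G), hgN⟩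
      rw [mem_subgroupOf] at h2
      have h3 : (g : G) ∈ centralizer ({x} : Set G) := by
        rw [← hm, SubgroupClass.coe_pow, pow_mul]
        exact pow_mem h2 m
      exact mem_centralizer_singleton_iff.mp h3
    intro g hg
    rw [← hle] at hg
    refine mem_centralizer_iff.mpr fun z hz => Subtype.ext ?_
    have hzx : (z : G) ∈ zpowers x := hPx ▸ (by rw [P.coe_subtype hPH] at hz; exact hz)
    obtain ⟨n, hn⟩ := mem_zpowers_iff.mp hzx
    show (z : G) * g = g * z
    rw [← hn]
    exact ((show Commute (g : G) x from mem_centralizer_singleton_iff.mp hg.1).zpow_right n).symm.eq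
  have hc := MonoidHom.ker_transferSylow_isComplement' P' hcen
  set K := (MonoidHom.transferSylow P' hcen).ker
  have hK : Nat.card K = 18 := by
    have := hc.card_mul
    rw [hP', hH90] at this
    omega
  obtain ⟨S⟩ := (inferInstance : Nonempty (Sylow 3 K))
  have hS : Nat.card (S : Subgroup K) = 3 ^ 2 :=
    card_sylow_subgroup (p := 3) (e := 2) (m := 2) (by rw [hK]; norm_num) (by norm_num) S
  have hSn : Nat.card (Sylow 3 K) = 1 := by
    have h1 : Nat.card (Sylow 3 K) ∣ 2 :=
      index_sylow (p := 3) (e := 2) (m := 2) (by rw [hK]; norm_num) (by norm_num) S ▸ S.card_dvd_index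
    have h2 : Nat.card (Sylow 3 K) % 3 = 1 := card_sylow_modEq_one 3 K
    have := Nat.le_of_dvd (by norm_num) h1
    omega
  have : Subsingleton (Sylow 3 K) := Finite.card_le_one_iff_subsingleton.mp hSn.le
  have hchar : (S : Subgroup K).Characteristic := Sylow.characteristic_of_subsingleton S
  set R := (S : Subgroup K).map K.subtype with hR
  have hRn : R.Normal := ConjAct.normal_of_characteristic_of_normal
  set R' := R.map H.subtype with hR'
  have hR'c : Nat.card R' = 9 := by
    rw [hR', card_map_of_injective H.subtype_injective, hR,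
      card_map_of_injective K.subtype_injective, hS]
    norm_num
  have hxR : (P : Subgroup G) ≤ normalizer (R' : Set G) := hPH.trans (le_normalizer_map_subtype R)
  let f : (P : Subgroup G) →* MulAut R' := (normalizerMonoidHom R').comp (Subgroup.inclusion hxR)
  letI : MulAction (P : Subgroup G) R' := MulAction.compHom _ f
  have h4 := P.isPGroup'.card_modEq_card_fixedPoints R'
  have h5 : Nat.card (MulAction.fixedPoints (P : Subgroup G) R') ∣ 3 := by
    let F : Subgroup G := R' ⊓ centralizer ({x} : Set G)
    have hF : Nat.card (MulAction.fixedPoints (P : Subgroup G) R') = Nat.card F := by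
      refine Nat.card_congr ⟨fun z => ⟨(z.1 : G), z.1.2, mem_centralizer_singleton_iff.mpr ?_⟩,
        fun z => ⟨⟨(z : G), z.2.1⟩, fun u => Subtype.ext ?_⟩, fun z => rfl, fun z => rfl⟩
      · have := congrArg Subtype.val (z.2 ⟨x, x'.2⟩)
        exact (mul_inv_eq_iff_eq_mul.mp this).symm
      · obtain ⟨n, hn⟩ := mem_zpowers_iff.mp (show (u : G) ∈ zpowers x by rw [← hPx]; exact u.2)
        show (u : G) * (z : G) * (u : G)⁻¹ = z
        rw [mul_inv_eq_iff_eq_mul, ← hn]
        exact ((show Commute (z : G) x from mem_centralizer_singleton_iff.mp z.2.2).zpow_right n).symm.eq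
    rw [hF]
    have a1 : Nat.card F ∣ 9 := hR'c ▸ card_dvd_of_le inf_le_left
    have a2 : Nat.card F ∣ 15 := hC ▸ card_dvd_of_le inf_le_right
    exact Nat.dvd_gcd a1 a2
  rw [hR'c] at h4
  have := Nat.le_of_dvd (by norm_num) h5
  unfold Nat.ModEq at h4
  interval_cases (Nat.card (MulAction.fixedPoints (P : Subgroup G) R')) <;> omega

end Cfsg.Agent.SmallOrders.O1080
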