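-- No simple group of order 612.
--
-- * `card_ne`
import Cfsg.Agent.Lib.SmallOrders.Tools
import Cfsg.Agent.Lib.SmallOrders.TwoPoint.SylowTI

set_option autoImplicit false

namespace Cfsg.Agent.SmallOrders.O612

open Subgroup

variable {G : Type*} [Group G] [Finite G] [IsSimpleGroup G]

theorem card_ne (hG : ¬ IsMulCommutative G) : Nat.card G ≠ 612 := by
  intro h
  classical
  have : Fact (Nat.Prime 17) := ⟨by norm_num⟩
  have : Fact (Nat.Prime 3) := ⟨Nat.prime_three⟩
  have : Fact (Nat.Prime 2) := ⟨Nat.prime_two⟩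
  have hn17 : Nat.card (Sylow 17 G) = 18 := by
    simpa using mem_of_candBool hG h 17 1 [18] (by decide +kernel)
  have hn3 : Nat.card (Sylow 3 G) = 34 := by
    simpa using mem_of_candBool hG h 3 2 [34] (by decide +kernel)
  have hP17 : ∀ P : Sylow 17 G, Nat.card (P : Subgroup G) = 17 := fun P => by
    rw [card_sylow_subgroup (p := 17) (e := 1) (m := 36) (by rw [h]; norm_num) (by norm_num) P,
      pow_one]
  have hP3 : ∀ P : Sylow 3 G, Nat.card (P : Subgroup G) = 3 ^ 2 :=
    card_sylow_subgroup (p := 3) (e := 2) (m := 68) (by rw [h]; norm_num) (by norm_num)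
  have hab : ∀ P : Sylow 3 G, IsMulCommutative (P : Subgroup G) := fun P =>
    IsPGroup.isMulCommutative_of_card_eq_prime_sq (hP3 P)
  have hN3 : ∀ P : Sylow 3 G, Nat.card (normalizer ((P : Subgroup G) : Set G)) = 18 := fun P => by
    have := card_normalizer_mul_card_sylow P
    rw [hn3, h] at this
    omega
  have hinv : ∀ P : Sylow 3 G, ∃ i, i ∈ normalizer ((P : Subgroup G) : Set G) ∧
      i ∉ (P : Subgroup G) ∧ ∀ a ∈ (P : Subgroup G), i * a * i⁻¹ = a⁻¹ := fun P => by
    obtain ⟨i, hi, hiP⟩ := SetLike.exists_of_lt (lt_of_le_of_ne (le_normalizer (H := (P : Subgroup G)))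
      fun e => by have := hN3 P; rw [← e, hP3] at this; norm_num at this)
    exact ⟨i, hi, hiP, fun a ha => conj_eq_inv_of_normalizer hG P (hab P)
      (by rw [hN3, hP3]; norm_num) hi hiP ha⟩
  -- Sylow 3-subgroups meet trivially
  have hTI : ∀ P Q : Sylow 3 G, P ≠ Q → (P : Subgroup G) ⊓ (Q : Subgroup G) = ⊥ := by
    intro P Q hPQ
    by_contra hne
    set D := (P : Subgroup G) ⊓ Q with hD
    obtain ⟨M, hM, t, hcard, hdvd, hlt, hPM⟩ := exists_normalizer_inter hG hP3 hPQ hne
    have hidx := le_index_of_facBool hG h 9 (by decide +kernel) hM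
    have hmul := M.card_mul_index
    rw [h, hcard] at hmul
    have h1 : t * M.index = 68 := by
      have : 9 * (t * M.index) = 9 * 68 := by rw [← mul_assoc]; simpa using hmul
      omega
    have ht : t ≤ 7 := by
      by_contra hgt
      have := Nat.mul_le_mul (show 8 ≤ t by omega) hidx
      omega
    have hmod : Nat.card (Sylow 3 M) % 3 = 1 := card_sylow_modEq_one 3 M
    have hle := Nat.le_of_dvd (Nat.pos_of_ne_zero fun e => by simp [e] at h1) hdvd
    have ht4 : t = 4 ∧ Nat.card (Sylow 3 M) = 4 := by
      have : t ∣ 68 := ⟨M.index, h1.symm⟩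
      interval_cases t <;> interval_cases (Nat.card (Sylow 3 M)) <;> omega
    obtain ⟨rfl, hn4⟩ := ht4
    -- `N(P) ∩ M = P`, although an inverting element normalises `D`
    obtain ⟨W, hW, hWM, hMW⟩ := exists_le_normalizer_complement (p := 3) (e := 2) hPM (hP3 P) (hab P)
      hcard hn4
    obtain ⟨T, hT⟩ := (IsPGroup.of_card (p := 2) (n := 2) (show Nat.card W = 2 ^ 2 by
      rw [hW]; norm_num)).exists_le_sylow
    have hWT : W = (T : Subgroup G) := eq_of_le_of_card_ge hT (by
      rw [hW, card_sylow_subgroup (p := 2) (e := 2) (m := 153) (by rw [h]; norm_num) (by norm_num) T]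
      norm_num)
    have hMN : M = normalizer ((T : Subgroup G) : Set G) := by
      rw [← hWT]
      refine eq_of_le_of_card_ge hMW ?_
      have htop : normalizer (W : Set G) ≠ ⊤ := hWT ▸ normalizer_sylow_ne_top hG (by rw [h]; norm_num) T
      have hi := le_index_of_facBool hG h 9 (by decide +kernel) htop
      have hm := (normalizer (W : Set G)).card_mul_index
      rw [h] at hm
      obtain ⟨w, hw⟩ : 36 ∣ Nat.card (normalizer (W : Set G)) := by
        have := card_dvd_of_le hMW
        rwa [hcard] at this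
      rw [hw] at hm ⊢
      have hw1 : w ≤ 1 := by
        by_contra hgt
        have := Nat.mul_le_mul (Nat.mul_le_mul_left 36 (show 2 ≤ w by omega)) hi
        omega
      rw [hcard]
      omega
    -- `D` is centralised by `P`, hence lies in the intersection of the Sylow subgroups of `M`
    obtain ⟨i, hiN, hiP, hi⟩ := hinv P
    have hDc : ∀ a ∈ D, i * a * i⁻¹ ∈ D := fun a ha => by rw [hi a ha.1]; exact inv_mem ha
    have hiD : i ∈ normalizer (D : Set G) := mem_normalizer_iff.mpr fun a => ⟨hDc a, fun ha => by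
      have haP : a ∈ (P : Subgroup G) := (mem_normalizer_iff.mp hiN a).mpr ha.1
      have := hi a haP
      rw [this] at ha
      exact inv_mem_iff.mp ha⟩
    set M' := normalizer (D : Set G) with hM'
    have hPM' : (P : Subgroup G) ≤ M' := by
      intro g hg
      refine centralizer_le_normalizer _ (mem_centralizer_iff.mpr fun a ha => ?_)
      exact congrArg Subtype.val (@mul_comm' _ _ (hab P) (⟨a, ha.1⟩ : (P : Subgroup G)) ⟨g, hg⟩)
    have hQM' : (Q : Subgroup G) ≤ M' := by
      intro g hg
      refine centralizer_le_normalizer _ (mem_centralizer_iff.mpr fun a ha => ?_)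
      exact congrArg Subtype.val (@mul_comm' _ _ (hab Q) (⟨a, ha.2⟩ : (Q : Subgroup G)) ⟨g, hg⟩)
    have hM'top : M' ≠ ⊤ := by
      intro ht
      rcases (normalizer_eq_top_iff.mp ht).eq_bot_or_eq_top with hb | ht'
      · exact hne hb
      · exact (inf_lt_left hPQ).not_ge (ht' ▸ le_top : (P : Subgroup G) ≤ D)
    have hidx' := le_index_of_facBool hG h 9 (by decide +kernel) hM'top
    have hmul' := M'.card_mul_index
    rw [h] at hmul'
    have hN18 : normalizer ((P : Subgroup G) : Set G) ≤ M' := by
      intro g hg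
      have hNle : normalizer ((P : Subgroup G) : Set G) = (P : Subgroup G) ⊔ zpowers i := by
        refine (eq_of_le_of_card_ge (sup_le le_normalizer (zpowers_le.mpr hiN)) ?_).symm
        rw [hN3]
        have h9 : 9 ∣ Nat.card ↥((P : Subgroup G) ⊔ zpowers i) := by
          have := card_dvd_of_le (le_sup_left : (P : Subgroup G) ≤ (P : Subgroup G) ⊔ zpowers i)
          rwa [hP3] at this
        have hne9 : Nat.card ↥((P : Subgroup G) ⊔ zpowers i) ≠ 9 := fun e => hiP
          ((eq_of_le_of_card_ge (le_sup_left : (P : Subgroup G) ≤ (P : Subgroup G) ⊔ zpowers i)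
            (by rw [e, hP3]; norm_num)).symm ▸ mem_sup_right (mem_zpowers i))
        obtain ⟨k, hk⟩ := h9
        rw [hk] at hne9 ⊢
        have hk0 : k ≠ 0 := fun e => by
          rw [e, mul_zero] at hk
          exact absurd hk Nat.card_pos.ne'
        omega
      exact (hNle ▸ hg : g ∈ (P : Subgroup G) ⊔ zpowers i) |> fun hmem =>
        sup_le hPM' (zpowers_le.mpr hiD) hmem
    have h18 : 18 ∣ Nat.card M' := hN3 P ▸ card_dvd_of_le hN18
    have hSub : Nat.card (Sylow 3 M') ∣ 2 := by
      obtain ⟨u, hu⟩ := h18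
      rw [hu] at hmul'
      have hu3 : u ≤ 3 := by
        by_contra hgt
        have := Nat.mul_le_mul (Nat.mul_le_mul_left 18 (show 4 ≤ u by omega)) hidx'
        omega
      set P' := P.subtype hPM'
      have hN' : Nat.card (normalizer ((P' : Subgroup M') : Set M')) = 18 := by
        rw [← hN3 P, P.coe_subtype hPM', ← subgroupOf_normalizer_eq hPM',
          Nat.card_congr (subgroupOfEquivOfLe hN18).toEquiv]
      have := card_normalizer_mul_card_sylow P'
      rw [hN', hu] at this
      have hu' : Nat.card (Sylow 3 M') = u := by omega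
      have hm : Nat.card (Sylow 3 M') % 3 = 1 := card_sylow_modEq_one 3 M'
      rw [hu'] at hm ⊢
      interval_cases u <;> omega
    have h1' : 1 < Nat.card (Sylow 3 M') := by
      by_contra hle
      have : Subsingleton (Sylow 3 M') := (Finite.card_le_one_iff_subsingleton (α := _)).mp (by omega)
      exact hPQ (Sylow.subtype_injective (Subsingleton.elim (P.subtype hPM') (Q.subtype hQM')))
    have hm : Nat.card (Sylow 3 M') % 3 = 1 := card_sylow_modEq_one 3 M'
    have := Nat.le_of_dvd (by norm_num) hSub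
    omega
  -- count elements
  have hC3 : ∀ (P : Sylow 3 G) (a : G), a ≠ 1 → a ∈ (P : Subgroup G) →
      centralizer ({a} : Set G) ≤ (P : Subgroup G) := by
    intro P a ha haP g hg
    by_contra hgP
    have hgN := centralizer_le_of_inf_eq_bot (fun Q hQ => hTI P Q hQ.symm) ha haP hg
    have := conj_eq_inv_of_normalizer hG P (hab P) (by rw [hN3, hP3]; norm_num) hgN hgP haP
    rw [mem_centralizer_singleton_iff.mp hg, mul_inv_cancel_right] at this
    have ha3 : orderOf a ∣ 9 := by
      have := orderOf_dvd_natCard _ haP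
      rwa [hP3] at this
    have ha2 : orderOf a ∣ 2 := orderOf_dvd_of_pow_eq_one (by
      rw [pow_two]; exact mul_eq_one_iff_eq_inv.mpr this)
    have h1 := Nat.dvd_gcd ha3 ha2
    rw [show Nat.gcd 9 2 = 1 from rfl, Nat.dvd_one, orderOf_eq_one_iff] at h1
    exact ha h1
  have hC17 : ∀ y : G, orderOf y = 17 → Nat.card (centralizer ({y} : Set G)) = 17 := by
    intro y hy
    obtain ⟨P, hP⟩ := exists_sylow_eq_zpowers hP17 hy
    obtain ⟨j, hj1, -, hCj, hC, -⟩ := exists_card_centralizer_mul hG hy P hP
    have := card_normalizer_mul_card_sylow P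
    rw [hn17, h, ← hCj] at this
    obtain ⟨c, hc⟩ := hC
    rw [hc] at this ⊢
    have hcj : c * j = 2 := by
      have : 17 * (c * j) * 18 = 612 := by rw [← this]; ring
      omega
    rcases Nat.prime_two.eq_one_or_self_of_dvd c ⟨j, hcj.symm⟩ with rfl | rfl <;> omega
  obtain ⟨T⟩ := (inferInstance : Nonempty (Sylow 2 G))
  have hT : Nat.card (T : Subgroup G) = 2 ^ 2 :=
    card_sylow_subgroup (p := 2) (e := 2) (m := 153) (by rw [h]; norm_num) (by norm_num) T
  obtain ⟨t', ht'⟩ := exists_prime_orderOf_dvd_card' (G := (T : Subgroup G)) 2 (by rw [hT]; norm_num)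
  set t : G := (t' : G) with htdef
  have ht : orderOf t = 2 := by rw [htdef, Subgroup.orderOf_coe, ht']
  have hCt : Nat.card (centralizer ({t} : Set G)) = 4 := by
    have hTle : (T : Subgroup G) ≤ centralizer ({t} : Set G) := fun g hg =>
      mem_centralizer_singleton_iff.mpr (congrArg Subtype.val (@mul_comm' _ _
        (IsPGroup.isMulCommutative_of_card_eq_prime_sq hT) (⟨g, hg⟩ : (T : Subgroup G)) t'))
    have h4 : 4 ∣ Nat.card (centralizer ({t} : Set G)) := by
      have := card_dvd_of_le hTle
      rwa [hT] at this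
    have hd : Nat.card (centralizer ({t} : Set G)) ∣ 4 * (9 * 17) := by
      have := card_subgroup_dvd_card (centralizer ({t} : Set G))
      rwa [h] at this
    have h17 : ¬ 17 ∣ Nat.card (centralizer ({t} : Set G)) := fun hd' => by
      obtain ⟨y, hy⟩ := exists_prime_orderOf_dvd_card' 17 hd'
      have hy' : orderOf (y : G) = 17 := by rw [Subgroup.orderOf_coe, hy]
      have h2 : orderOf t ∣ 17 := orderOf_dvd_of_centralizer (hC17 _ hy')
        (mem_centralizer_singleton_iff.mp y.2).symm
      rw [ht] at h2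
      norm_num at h2
    have h3 : ¬ 3 ∣ Nat.card (centralizer ({t} : Set G)) := fun hd' => by
      obtain ⟨a, ha⟩ := exists_prime_orderOf_dvd_card' 3 hd'
      have ha' : orderOf (a : G) = 3 := by rw [Subgroup.orderOf_coe, ha]
      obtain ⟨P, hP⟩ := (IsPGroup.of_card (n := 1) (show Nat.card (zpowers (a : G)) = 3 ^ 1 by
        rw [Nat.card_zpowers, ha', pow_one])).exists_le_sylow
      have htP : t ∈ (P : Subgroup G) := hC3 P a (fun e => by rw [e, orderOf_one] at ha'; omega)
        (hP (mem_zpowers _)) (mem_centralizer_singleton_iff.mpr (mem_centralizer_singleton_iff.mp a.2).symm)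
      have := orderOf_dvd_natCard _ htP
      rw [ht, hP3] at this
      norm_num at this
    have c3 : Nat.Coprime (Nat.card (centralizer ({t} : Set G))) 3 :=
      (Nat.prime_three.coprime_iff_not_dvd.mpr h3).symm
    have c17 : Nat.Coprime (Nat.card (centralizer ({t} : Set G))) 17 :=
      ((Fact.out : Nat.Prime 17).coprime_iff_not_dvd.mpr h17).symm
    exact Nat.dvd_antisymm (((c3.mul_right c3).mul_right c17).dvd_of_dvd_mul_right
      (show _ ∣ 4 * (3 * 3 * 17) from hd)) h4
  have hcls := card_isConj_class t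
  rw [hCt, h] at hcls
  have h17c := card_orderOf_eq_prime hP17
  rw [hn17] at h17c
  have h3c := TwoPoint.card_nontrivial_pElements hP3 hTI
  rw [hn3] at h3c
  let f : ({g : G // IsConj t g} ⊕ {g : G // orderOf g = 17}) ⊕
      {g : G // g ≠ 1 ∧ ∃ k, g ^ 3 ^ k = 1} → G :=
    Sum.elim (Sum.elim Subtype.val Subtype.val) Subtype.val
  have hco : ∀ g : G, IsConj t g → orderOf g = 2 := fun g hg => by
    obtain ⟨c, hc⟩ := isConj_iff.mp hg
    rw [← hc]; exact (orderOf_injective (MulAut.conj c).toMonoidHom (MulAut.conj c).injective t).trans ht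
  have h3o : ∀ g : G, (∃ k, g ^ 3 ^ k = 1) → orderOf g ≠ 2 ∧ orderOf g ≠ 17 := by
    rintro g ⟨k, hk⟩
    have hd := orderOf_dvd_of_pow_eq_one hk
    constructor <;> intro e <;> rw [e] at hd
    · have := Nat.prime_two.dvd_of_dvd_pow hd; norm_num at this
    · have := (Fact.out : Nat.Prime 17).dvd_of_dvd_pow hd; norm_num at this
  have hf : Function.Injective f := by
    refine (Subtype.val_injective.sumElim Subtype.val_injective ?_).sumElim Subtype.val_injective ?_
    · rintro ⟨a, ha⟩ ⟨b, hb⟩ e
      have e' : a = b := e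
      subst e'
      have := hco a ha
      omega
    · rintro (⟨a, ha⟩ | ⟨a, ha⟩) ⟨b, hb1, hb⟩ e
      · have e' : a = b := e
        subst e'
        exact (h3o a hb).1 (hco a ha)
      · have e' : a = b := e
        subst e'
        exact (h3o a hb).2 ha
  have := Nat.card_le_card_of_injective f hf
  rw [Nat.card_sum, Nat.card_sum, h17c, h3c, h] at this
  omega

end Cfsg.Agent.SmallOrders.O612
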