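-- The Sylow 3-subgroups of a simple group of order 720.
--
-- * `card_sylow_three`: there are ten
-- * `inf_eq_bot`: two of them meet trivially
import Cfsg.Agent.Lib.SmallOrders.Tools

set_option autoImplicit false

namespace Cfsg.Agent.SmallOrders.O720

open Subgroup MulAction

variable {G : Type*} [Group G] [Finite G] [IsSimpleGroup G] [Fact (Nat.Prime 3)]

theorem card_sylow (h : Nat.card G = 720) (P : Sylow 3 G) : Nat.card (P : Subgroup G) = 3 ^ 2 :=
  card_sylow_subgroup (p := 3) (e := 2) (m := 80) (by rw [h]; norm_num) (by norm_num) P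

theorem card_le_ninety (hG : ¬ IsMulCommutative G) (h : Nat.card G = 720) {M : Subgroup G}
    (hM : M ≠ ⊤) : Nat.card M ≤ 90 := by
  have hi := le_index_of_facBool hG h 8 (by decide +kernel) hM
  have hm := M.card_mul_index
  rw [h] at hm
  by_contra hgt
  have := Nat.mul_le_mul (show 91 ≤ Nat.card M by omega) hi
  omega

theorem normalizer_inf_ne_top {P Q : Sylow 3 G} (hPQ : P ≠ Q)
    (hne : (P : Subgroup G) ⊓ (Q : Subgroup G) ≠ ⊥) :
    normalizer (((P : Subgroup G) ⊓ (Q : Subgroup G) : Subgroup G) : Set G) ≠ ⊤ := by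
  intro ht
  rcases (normalizer_eq_top_iff.mp ht).eq_bot_or_eq_top with hb | ht'
  · exact hne hb
  · exact (inf_lt_left hPQ).not_ge
      (ht' ▸ le_top : (P : Subgroup G) ≤ (P : Subgroup G) ⊓ (Q : Subgroup G))

theorem card_inf (h : Nat.card G = 720) {P Q : Sylow 3 G} (hPQ : P ≠ Q)
    (hne : (P : Subgroup G) ⊓ (Q : Subgroup G) ≠ ⊥) :
    Nat.card ↥((P : Subgroup G) ⊓ (Q : Subgroup G)) = 3 := by
  obtain ⟨e, he, hDe⟩ := (Nat.dvd_prime_pow (Fact.out : Nat.Prime 3)).mp
    (card_sylow h P ▸ card_dvd_of_le (inf_le_left : (P : Subgroup G) ⊓ (Q : Subgroup G) ≤ _))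
  rcases (show e = 0 ∨ e = 1 ∨ e = 2 by omega) with rfl | rfl | rfl
  · rw [pow_zero] at hDe
    exact absurd (eq_bot_of_card_eq _ hDe) hne
  · simpa using hDe
  · exact absurd (eq_of_le_of_card_ge (inf_le_left : (P : Subgroup G) ⊓ (Q : Subgroup G) ≤ _)
      (by rw [hDe, card_sylow h P])) (inf_lt_left hPQ).ne

theorem card_sylow_three (hG : ¬ IsMulCommutative G) (h : Nat.card G = 720) :
    Nat.card (Sylow 3 G) = 10 := by
  classical
  have hn : Nat.card (Sylow 3 G) ∈ [10, 40] := mem_of_candBool hG h 3 2 _ (by decide +kernel)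
  simp only [List.mem_cons, List.mem_nil_iff, or_false] at hn
  refine hn.resolve_right fun h40 => ?_
  have hab : ∀ P : Sylow 3 G, IsMulCommutative (P : Subgroup G) := fun P =>
    IsPGroup.isMulCommutative_of_card_eq_prime_sq (card_sylow h P)
  have hN18 : ∀ P : Sylow 3 G, Nat.card (normalizer ((P : Subgroup G) : Set G)) = 18 := fun P => by
    have := card_normalizer_mul_card_sylow P
    rw [h40, h] at this
    omega
  obtain ⟨P, Q, hPQ, hidx⟩ := exists_pair_index_le (G := G) 3 2 (by rw [h40]; decide)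
  set D := (P : Subgroup G) ⊓ Q with hD
  have hne : D ≠ ⊥ := by
    intro hb
    have h1 : (Q : Subgroup G).subgroupOf (P : Subgroup G) = ⊥ := by
      rw [← inf_subgroupOf_left, ← hD, hb, bot_subgroupOf]
    rw [h1, index_bot, card_sylow h P] at hidx
    norm_num at hidx
  have hD3 := card_inf h hPQ hne
  set M := normalizer (D : Set G) with hM
  have hMtop : M ≠ ⊤ := normalizer_inf_ne_top hPQ hne
  have hinv : ∀ g ∈ normalizer ((P : Subgroup G) : Set G), g ∉ (P : Subgroup G) →
      ∀ a ∈ (P : Subgroup G), g * a * g⁻¹ = a⁻¹ := fun g hg hgP a ha =>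
    conj_eq_inv_of_normalizer hG P (hab P) (by rw [hN18, card_sylow h]; norm_num) hg hgP ha
  have hPc : ∀ a ∈ (P : Subgroup G), ∀ b ∈ (P : Subgroup G), a * b = b * a := fun a ha b hb =>
    congrArg Subtype.val (@mul_comm' _ _ (hab P) (⟨a, ha⟩ : (P : Subgroup G)) ⟨b, hb⟩)
  have hNM : normalizer ((P : Subgroup G) : Set G) ≤ M := by
    intro g hg
    refine mem_normalizer_iff.mpr fun a => ?_
    by_cases hgP : g ∈ (P : Subgroup G)
    · constructor <;> intro ha
      · rwa [hPc g hgP a ha.1, mul_inv_cancel_right]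
      · have haP : a ∈ (P : Subgroup G) := (mem_normalizer_iff.mp hg a).mpr ha.1
        rwa [hPc g hgP a haP, mul_inv_cancel_right] at ha
    · constructor <;> intro ha
      · rw [hinv g hg hgP a ha.1]; exact inv_mem ha
      · have haP : a ∈ (P : Subgroup G) := (mem_normalizer_iff.mp hg a).mpr ha.1
        rw [hinv g hg hgP a haP] at ha
        exact inv_mem_iff.mp ha
  have hPM : (P : Subgroup G) ≤ M := le_normalizer.trans hNM
  have hQM : (Q : Subgroup G) ≤ M := fun g hg =>
    centralizer_le_normalizer _ (mem_centralizer_iff.mpr fun a ha =>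
      congrArg Subtype.val (@mul_comm' _ _ (hab Q) (⟨a, ha.2⟩ : (Q : Subgroup G)) ⟨g, hg⟩))
  have hMc : Nat.card M = 72 := by
    obtain ⟨u, hu⟩ : 18 ∣ Nat.card M := hN18 P ▸ card_dvd_of_le hNM
    have hle := card_le_ninety hG h hMtop
    set P' := P.subtype hPM
    have hN' : Nat.card (normalizer ((P' : Subgroup M) : Set M)) = 18 := by
      rw [← hN18 P, P.coe_subtype hPM, ← subgroupOf_normalizer_eq hPM,
        Nat.card_congr (subgroupOfEquivOfLe hNM).toEquiv]
    have := card_normalizer_mul_card_sylow P'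
    rw [hN', hu] at this
    have hu' : Nat.card (Sylow 3 M) = u := by omega
    have hm : Nat.card (Sylow 3 M) % 3 = 1 := card_sylow_modEq_one 3 M
    have h1' : 1 < Nat.card (Sylow 3 M) := by
      by_contra hle
      have : Subsingleton (Sylow 3 M) := (Finite.card_le_one_iff_subsingleton (α := _)).mp (by omega)
      exact hPQ (Sylow.subtype_injective (Subsingleton.elim (P.subtype hPM) (Q.subtype hQM)))
    omega
  obtain ⟨d', hd'⟩ := exists_prime_orderOf_dvd_card' (G := D) 3 (by rw [hD3])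
  set d : G := (d' : G) with hddef
  have hd : orderOf d = 3 := by rw [hddef, orderOf_coe, hd']
  have hd1 : d ≠ 1 := fun e => by rw [e, orderOf_one] at hd; omega
  have hd3 : d ^ 3 = 1 := hd ▸ pow_orderOf_eq_one d
  have hDd : D = zpowers d := (eq_of_le_of_card_ge (zpowers_le.mpr d'.2)
    (by rw [hD3, Nat.card_zpowers, hd])).symm
  have hdP : d ∈ (P : Subgroup G) := d'.2.1
  have hdM : d ∈ M := le_normalizer d'.2
  -- `d` fixes only one coset of `M`
  have hfix : ∀ g : G, d • (g : G ⧸ M) = g → g ∈ M := by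
    intro g hg
    have hmem : g⁻¹ * d * g ∈ M := by
      have h1 : ((g : G) : G ⧸ M) = ((d * g : G) : G ⧸ M) := hg.symm
      rw [QuotientGroup.eq] at h1
      rwa [mul_assoc]
    set c : M := ⟨g⁻¹ * d * g, hmem⟩
    have hc3 : c ^ 3 = 1 := Subtype.ext (by
      show (g⁻¹ * d * g) ^ 3 = 1
      calc (g⁻¹ * d * g) ^ 3 = g⁻¹ * d ^ 3 * g := by simp only [pow_succ, pow_zero]; group
        _ = 1 := by rw [hd3]; group)
    obtain ⟨k, -, hk⟩ := (Nat.dvd_prime_pow (Fact.out : Nat.Prime 3)).mp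
      (show orderOf c ∣ 3 ^ 1 from orderOf_dvd_of_pow_eq_one hc3)
    obtain ⟨S, hS⟩ := (IsPGroup.of_card (n := k)
      (show Nat.card (zpowers c) = 3 ^ k by rw [Nat.card_zpowers, hk])).exists_le_sylow
    obtain ⟨m, hm⟩ := MulAction.exists_smul_eq M S (P.subtype hPM)
    have hmc : (m : G) * (g⁻¹ * d * g) * (m : G)⁻¹ ∈ (P : Subgroup G) := by
      have h1 : m * c * m⁻¹ ∈ ((m • S : Sylow 3 M) : Subgroup M) := by
        rw [Sylow.coe_subgroup_smul, Subgroup.mem_pointwise_smul_iff_inv_smul_mem, ← map_inv,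
          MulAut.smul_def, MulAut.conj_apply, inv_inv, show m⁻¹ * (m * c * m⁻¹) * m = c by group]
        exact hS (mem_zpowers c)
      rw [hm, P.coe_subtype hPM, mem_subgroupOf] at h1
      exact h1
    have h2 : (g * (m : G)⁻¹)⁻¹ * d * (g * (m : G)⁻¹) = (m : G) * (g⁻¹ * d * g) * (m : G)⁻¹ := by
      group
    have := hab P
    obtain ⟨n, hn, hnd⟩ := P.conj_eq_normalizer_conj_of_mem d (g * (m : G)⁻¹) hdP (h2 ▸ hmc)
    have h3 : (g * (m : G)⁻¹)⁻¹ * d * (g * (m : G)⁻¹) ∈ D := by
      rw [hnd]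
      exact (mem_normalizer_iff''.mp (hNM hn) d).mp d'.2
    have h4 : (g * (m : G)⁻¹)⁻¹ ∈ M := by
      refine mem_normalizer_iff.mpr fun a => ?_
      have hz : zpowers ((g * (m : G)⁻¹)⁻¹ * d * (g * (m : G)⁻¹)) = D :=
        eq_of_le_of_card_ge (zpowers_le.mpr h3) (by
          rw [hD3, Nat.card_zpowers]
          have := (orderOf_injective (MulAut.conj (g * (m : G)⁻¹)⁻¹).toMonoidHom
            (MulAut.conj (g * (m : G)⁻¹)⁻¹).injective d).trans hd
          simp only [MulEquiv.coe_toMonoidHom, MulAut.conj_apply, inv_inv] at this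
          rw [this])
      have hmap : D.map (MulAut.conj (g * (m : G)⁻¹)⁻¹).toMonoidHom = D := by
        conv_lhs => rw [hDd, MonoidHom.map_zpowers]
        rw [MulEquiv.coe_toMonoidHom, MulAut.conj_apply, inv_inv, hz]
      conv_rhs => rw [← hmap]
      rw [mem_map]
      constructor
      · intro ha
        exact ⟨a, ha, rfl⟩
      · rintro ⟨b, hb, hba⟩
        rwa [show b = a from (MulAut.conj (g * (m : G)⁻¹)⁻¹).injective hba] at hb
    have h5 := mul_mem (inv_mem h4) m.2
    rwa [inv_inv, inv_mul_cancel_right] at h5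
  -- an involution of `M` centralising `d`
  have : Fact (Nat.Prime 2) := ⟨Nat.prime_two⟩
  obtain ⟨T, hTc⟩ := Sylow.exists_subgroup_card_pow_prime (G := M) 2 (n := 3)
    (by rw [hMc]; norm_num)
  obtain ⟨v, hvM, hv1, hvv, hvd⟩ :
      ∃ v : G, v ∈ M ∧ v ≠ 1 ∧ v * v = 1 ∧ v * d = d * v := by
    have himg : ∀ u : T, ((u : M) : G) * d * ((u : M) : G)⁻¹ = d ∨
        ((u : M) : G) * d * ((u : M) : G)⁻¹ = d⁻¹ := by
      intro u
      have h1 : ((u : M) : G) * d * ((u : M) : G)⁻¹ ∈ D := (mem_normalizer_iff.mp (u : M).2 d).mp d'.2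
      rw [hDd] at h1
      obtain ⟨n, hn⟩ := mem_zpowers_iff.mp h1
      rw [← zpow_mod_orderOf, hd] at hn
      have h0 : n % 3 = 0 ∨ n % 3 = 1 ∨ n % 3 = 2 := by omega
      rcases h0 with e | e | e <;> rw [show ((3 : ℕ) : ℤ) = 3 from rfl, e] at hn
      · exfalso
        apply hd1
        rw [zpow_zero] at hn
        calc d = ((u : M) : G)⁻¹ * (((u : M) : G) * d * ((u : M) : G)⁻¹) * ((u : M) : G) := by group
          _ = 1 := by rw [← hn]; group
      · left; rw [← hn, zpow_one]
      · right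
        rw [← hn, eq_inv_iff_mul_eq_one, show (2 : ℤ) = ((2 : ℕ) : ℤ) from rfl, zpow_natCast,
          ← pow_succ, hd3]
    let f : T → Bool := fun u => decide (((u : M) : G) * d * ((u : M) : G)⁻¹ = d)
    have : Fintype T := Fintype.ofFinite _
    obtain ⟨a, b, hab', hfab⟩ := Fintype.exists_ne_map_eq_of_card_lt f (by
      rw [Fintype.card_bool, ← Nat.card_eq_fintype_card, hTc]; norm_num)
    have heq : ((a : M) : G) * d * ((a : M) : G)⁻¹ = ((b : M) : G) * d * ((b : M) : G)⁻¹ := by
      rcases himg a with ea | ea <;> rcases himg b with eb | eb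
      · rw [ea, eb]
      · rw [ea]
        have := (decide_eq_decide.mp hfab).mp ea
        rw [this]
      · have := (decide_eq_decide.mp hfab).mpr eb
        rw [this, eb]
      · rw [ea, eb]
    set w : T := a⁻¹ * b with hwdef
    have hwd : Commute ((w : M) : G) d := by
      show ((a : M) : G)⁻¹ * ((b : M) : G) * d = d * (((a : M) : G)⁻¹ * ((b : M) : G))
      calc ((a : M) : G)⁻¹ * ((b : M) : G) * d
          = ((a : M) : G)⁻¹ * (((b : M) : G) * d * ((b : M) : G)⁻¹) * ((b : M) : G) := by group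
        _ = ((a : M) : G)⁻¹ * (((a : M) : G) * d * ((a : M) : G)⁻¹) * ((b : M) : G) := by rw [heq]
        _ = _ := by group
    have hw1 : w ≠ 1 := fun e => hab' (inv_mul_eq_one.mp e)
    have hord : orderOf w ∣ 2 ^ 3 := hTc ▸ orderOf_dvd_natCard w
    obtain ⟨e, he, hwe⟩ := (Nat.dvd_prime_pow Nat.prime_two).mp hord
    obtain ⟨j, rfl⟩ : ∃ j, e = j + 1 := by
      refine ⟨e - 1, ?_⟩
      have : e ≠ 0 := fun e0 => hw1 (orderOf_eq_one_iff.mp (by rw [hwe, e0, pow_zero]))
      omega
    refine ⟨(((w ^ 2 ^ j : T) : M) : G), (w ^ 2 ^ j : T).1.2, ?_, ?_, ?_⟩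
    · intro e1
      have h1 : w ^ 2 ^ j = 1 := Subtype.ext (Subtype.ext e1)
      have := orderOf_dvd_of_pow_eq_one h1
      rw [hwe] at this
      have := Nat.le_of_dvd (by positivity) this
      rw [pow_succ] at this
      have : 0 < 2 ^ j := by positivity
      omega
    · have h1 : w ^ 2 ^ j * w ^ 2 ^ j = 1 := by
        rw [← pow_add, ← mul_two, ← pow_succ, ← hwe, pow_orderOf_eq_one]
      exact congrArg (fun x : T => ((x : M) : G)) h1
    · push_cast
      exact (hwd.pow_left _).eq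
  -- it moves a multiple of 12 of the ten cosets
  have : Fintype (G ⧸ M) := Fintype.ofFinite _
  have hten : Fintype.card (G ⧸ M) = 10 := by
    have hm := M.card_mul_index
    rw [hMc, h] at hm
    rw [← Nat.card_eq_fintype_card, ← Subgroup.index]
    omega
  have hv0 : v • ((1 : G) : G ⧸ M) = ((1 : G) : G ⧸ M) := by
    show ((v * 1 : G) : G ⧸ M) = _
    rw [mul_one, QuotientGroup.eq, mul_one]
    exact inv_mem hvM
  set σ : Equiv.Perm (G ⧸ M) := toPerm v with hσ
  have hσ2 : σ ^ 2 = 1 := by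
    ext x : 1
    simp [hσ, pow_two, Equiv.Perm.mul_apply, smul_smul, hvv]
  have h4 := four_dvd_card_moved σ hσ2 (sign_toPerm_eq_one hG v)
  have hsupp : σ.support.card ≤ 9 := by
    have h1 : σ.support ⊆ Finset.univ.erase ((1 : G) : G ⧸ M) := fun x hx =>
      Finset.mem_erase.mpr ⟨fun e => Equiv.Perm.mem_support.mp hx (e ▸ hv0), Finset.mem_univ _⟩
    have := Finset.card_le_card h1
    rw [Finset.card_erase_of_mem (Finset.mem_univ _), Finset.card_univ, hten] at this
    omega
  have hinvd : ∀ x, (toPerm d : Equiv.Perm (G ⧸ M)) x ∈ σ.support ↔ x ∈ σ.support := by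
    intro x
    simp only [Equiv.Perm.mem_support, hσ, toPerm_apply, smul_smul, hvd, ne_eq, not_iff_not]
    constructor
    · intro e
      exact smul_left_cancel d (by rw [smul_smul]; exact e)
    · intro e
      rw [mul_smul, e]
  set τ := (toPerm d : Equiv.Perm (G ⧸ M)).subtypePerm hinvd with hτ
  have hτ3 : τ ^ 3 ^ 1 = 1 := by
    ext x : 2
    have e : (toPerm d : Equiv.Perm (G ⧸ M)) ^ 3 = 1 := by
      rw [← toPermHom_apply, ← map_pow, hd3, map_one]
    rw [hτ, Equiv.Perm.subtypePerm_pow, pow_one]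
    simp [e]
  have hτ0 : τ.supportᶜ = ∅ := by
    refine Finset.eq_empty_of_forall_notMem fun x hx => ?_
    rw [Finset.mem_compl, Equiv.Perm.notMem_support] at hx
    have hdx : d • (x : G ⧸ M) = x := congrArg Subtype.val hx
    obtain ⟨g, hg⟩ := QuotientGroup.mk_surjective (x : G ⧸ M)
    rw [← hg] at hdx
    refine Equiv.Perm.mem_support.mp x.2 ?_
    have : (g : G ⧸ M) = ((1 : G) : G ⧸ M) := by
      rw [QuotientGroup.eq, mul_one]; exact inv_mem (hfix g hdx)
    rw [← hg, this]
    exact hv0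
  have hmod := Equiv.Perm.card_compl_support_modEq hτ3
  rw [hτ0, Finset.card_empty, Fintype.card_coe, Nat.ModEq] at hmod
  have hz : σ.support = ∅ := Finset.card_eq_zero.mp (by omega)
  have hall : ∀ x : G ⧸ M, v • x = x := fun x => by
    by_contra hne
    have : x ∈ σ.support := Equiv.Perm.mem_support.mpr hne
    simp [hz] at this
  apply hv1
  have hcore : v ∈ M.normalCore := fun g => by
    have h1 := hall ((g⁻¹ : G) : G ⧸ M)
    have h2 : ((g⁻¹ : G) : G ⧸ M) = ((v * g⁻¹ : G) : G ⧸ M) := h1.symm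
    rw [QuotientGroup.eq, inv_inv] at h2
    rwa [mul_assoc]
  rwa [normalCore_eq_bot hMtop, mem_bot] at hcore

theorem inf_eq_bot (hG : ¬ IsMulCommutative G) (h : Nat.card G = 720) {P Q : Sylow 3 G}
    (hPQ : P ≠ Q) : (P : Subgroup G) ⊓ (Q : Subgroup G) = ⊥ := by
  classical
  by_contra hne
  have hn := card_sylow_three hG h
  have : Fintype (Sylow 3 G) := Fintype.ofFinite _
  set D := (P : Subgroup G) ⊓ Q with hD
  have hD3 := card_inf h hPQ hne
  set M := normalizer (D : Set G) with hM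
  have hidx := le_index_of_facBool hG h 8 (by decide +kernel) (normalizer_inf_ne_top hPQ hne)
  have hcP : ∀ a ∈ (P : Subgroup G), ∀ b ∈ (P : Subgroup G), a * b = b * a := fun a ha b hb =>
    congrArg Subtype.val (@mul_comm' _ _ (IsPGroup.isMulCommutative_of_card_eq_prime_sq
      (card_sylow h P)) (⟨a, ha⟩ : (P : Subgroup G)) ⟨b, hb⟩)
  set F := Finset.univ.filter fun R : Sylow 3 G => D ≤ (R : Subgroup G) with hF
  have hFP : ∀ R : Sylow 3 G, R ∈ orbit (P : Subgroup G) Q → R ∈ F := by
    rintro _ ⟨⟨g, hg⟩, rfl⟩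
    rw [hF, Finset.mem_filter]
    refine ⟨Finset.mem_univ _, fun a ha => ?_⟩
    show a ∈ ((g • Q : Sylow 3 G) : Subgroup G)
    rw [Sylow.coe_subgroup_smul, Subgroup.mem_pointwise_smul_iff_inv_smul_mem, ← map_inv,
      MulAut.smul_def, MulAut.conj_apply, inv_inv, mul_assoc, hcP a ha.1 g hg, inv_mul_cancel_left]
    exact ha.2
  have hF4 : 4 ≤ F.card := by
    have h1 : (orbit (P : Subgroup G) Q).ncard = 3 := by
      have h2 : ((Q : Subgroup G).subgroupOf (P : Subgroup G)).index = 3 := by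
        have h3 := ((Q : Subgroup G).subgroupOf (P : Subgroup G)).card_mul_index
        rw [card_sylow h, ← inf_subgroupOf_left, ← hD,
          Nat.card_congr (subgroupOfEquivOfLe (inf_le_left : D ≤ (P : Subgroup G))).toEquiv,
          hD3] at h3
        rw [← inf_subgroupOf_left, ← hD]
        omega
      rw [← index_stabilizer, stabilizer_sylow, h2]
    have hPn : P ∉ orbit (P : Subgroup G) Q := by
      rintro ⟨⟨g, hg⟩, he⟩
      exact hPQ (smul_left_cancel g
        ((Sylow.smul_eq_iff_mem_normalizer.mpr (le_normalizer hg)).trans he.symm))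
    have h4 : (insert P (orbit (P : Subgroup G) Q)).ncard = 4 := by
      rw [Set.ncard_insert_of_notMem hPn, h1]
    rw [← h4, ← Set.ncard_coe_finset]
    refine Set.ncard_le_ncard (fun R hR => ?_)
    rcases hR with e | hR
    · rw [e, Finset.mem_coe, hF, Finset.mem_filter]
      exact ⟨Finset.mem_univ _, (inf_le_left : D ≤ (P : Subgroup G))⟩
    · exact Finset.mem_coe.mpr (hFP R hR)
  -- the conjugates of `D` give too many pairs
  have : Fintype (G ⧸ M) := Fintype.ofFinite _
  let f : (G ⧸ M) × F.offDiag → (Finset.univ : Finset (Sylow 3 G)).offDiag := fun q =>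
    ⟨(q.1.out • q.2.1.1, q.1.out • q.2.1.2), by
      simp only [Finset.mem_offDiag, Finset.mem_univ, true_and]
      exact fun e => (Finset.mem_offDiag.mp q.2.2).2.2 (smul_left_cancel _ e)⟩
  have hinter : ∀ A B : Sylow 3 G, A ∈ F → B ∈ F → A ≠ B →
      (A : Subgroup G) ⊓ (B : Subgroup G) = D := by
    intro A B hA hB hAB
    simp only [hF, Finset.mem_filter] at hA hB
    have hne' : (A : Subgroup G) ⊓ (B : Subgroup G) ≠ ⊥ := fun e =>
      hne (le_bot_iff.mp (e ▸ le_inf hA.2 hB.2))
    exact (eq_of_le_of_card_ge (le_inf hA.2 hB.2) (by rw [card_inf h hAB hne', hD3])).symm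
  have hf : Function.Injective f := by
    rintro ⟨g, ⟨A, B⟩, hAB⟩ ⟨g', ⟨A', B'⟩, hAB'⟩ he
    have e1 : g.out • A = g'.out • A' := congrArg (fun z => z.1.1) he
    have e2 : g.out • B = g'.out • B' := congrArg (fun z => z.1.2) he
    obtain ⟨hA, hB, hne1⟩ := Finset.mem_offDiag.mp hAB
    obtain ⟨hA', hB', hne2⟩ := Finset.mem_offDiag.mp hAB'
    set k := g'.out⁻¹ * g.out with hk
    have k1 : k • A = A' := by rw [hk, mul_smul, e1, inv_smul_smul]
    have k2 : k • B = B' := by rw [hk, mul_smul, e2, inv_smul_smul]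
    have hkM : k ∈ M := by
      refine mem_normalizer_iff.mpr fun a => ?_
      conv_lhs => rw [← hinter A B hA hB hne1]
      rw [← hinter A' B' hA' hB' hne2, ← k1, ← k2, Subgroup.mem_inf, Subgroup.mem_inf, Sylow.coe_subgroup_smul,
        Sylow.coe_subgroup_smul, Subgroup.mem_pointwise_smul_iff_inv_smul_mem,
        Subgroup.mem_pointwise_smul_iff_inv_smul_mem, ← map_inv, MulAut.smul_def,
        MulAut.conj_apply, inv_inv, show k⁻¹ * (k * a * k⁻¹) * k = a by group]
    have hgg : g = g' := by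
      rw [← QuotientGroup.out_eq' g, ← QuotientGroup.out_eq' g', eq_comm, QuotientGroup.eq]
      exact hkM
    subst hgg
    obtain rfl := smul_left_cancel _ e1
    obtain rfl := smul_left_cancel _ e2
    rfl
  have hcard := Fintype.card_le_of_injective f hf
  rw [Fintype.card_prod, Fintype.card_coe, Fintype.card_coe, Finset.offDiag_card,
    Finset.offDiag_card, Finset.card_univ, ← Nat.card_eq_fintype_card (α := Sylow 3 G), hn,
    ← Nat.card_eq_fintype_card (α := G ⧸ M), ← Subgroup.index] at hcard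
  have hmul : 8 * 12 ≤ M.index * (F.card * F.card - F.card) := by
    refine Nat.mul_le_mul hidx ?_
    have : 4 * F.card ≤ F.card * F.card := Nat.mul_le_mul_right _ hF4
    omega
  omega

end Cfsg.Agent.SmallOrders.O720
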