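-- No simple group of order 720.
--
-- * `card_ne`
import Cfsg.Agent.Lib.SmallOrders.Orders.O720Meet
import Cfsg.Agent.Lib.SmallOrders.SingleFixed
import Cfsg.Agent.Lib.SmallOrders.TwoPoint.SylowTI
import Cfsg.Agent.Lib.SmallOrders.TwoPoint.Coords

set_option autoImplicit false

namespace Cfsg.Agent.SmallOrders.O720

open Subgroup MulAction

variable {G : Type*} [Group G] [Finite G] [IsSimpleGroup G]

theorem card_ne (hG : ¬ IsMulCommutative G) : Nat.card G ≠ 720 := by
  intro h
  classical
  have : Fact (Nat.Prime 3) := ⟨Nat.prime_three⟩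
  have : Fact (Nat.Prime 2) := ⟨Nat.prime_two⟩
  have : Fintype (Sylow 3 G) := Fintype.ofFinite _
  have hn : Fintype.card (Sylow 3 G) = 9 + 1 := by
    rw [← Nat.card_eq_fintype_card, card_sylow_three hG h]
  obtain ⟨-, P, Q, S, hQP, hPo, hfree, hreg, hS, hSc, hSP, hfaithS⟩ :=
    TwoPoint.exists_frame (p := 3) (q := 9) (r := 8) (by norm_num) hn
      (fun R => by rw [card_sylow h]; norm_num) (fun _ _ hne => inf_eq_bot hG h hne)
      (by rw [h])
  have hcomm : ∀ a ∈ (P : Subgroup G), ∀ b ∈ (P : Subgroup G), a * b = b * a := fun a ha b hb =>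
    congrArg Subtype.val (@mul_comm' _ _ (IsPGroup.isMulCommutative_of_card_eq_prime_sq
      (card_sylow h P)) (⟨a, ha⟩ : (P : Subgroup G)) ⟨b, hb⟩)
  have hfix10 : ∀ i : G, (Finset.univ.filter fun R : Sylow 3 G => i • R = R).card +
      (toPerm i : Equiv.Perm (Sylow 3 G)).support.card = 10 := fun i => by
    rw [show (10 : ℕ) = Fintype.card (Sylow 3 G) from hn.symm, Equiv.Perm.support, ← Finset.card_univ]
    exact Finset.card_filter_add_card_filter_not (fun R => i • R = R)
  have hmoved : ∀ i : G, i * i = 1 → 4 ∣ (toPerm i : Equiv.Perm (Sylow 3 G)).support.card := by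
    intro i hii
    refine four_dvd_card_moved _ ?_ (sign_toPerm_eq_one hG i)
    ext R : 1
    simp [pow_two, Equiv.Perm.mul_apply, smul_smul, hii]
  -- involutions of `S` invert `P`
  have hinv : ∀ i ∈ S, i * i = 1 → i ≠ 1 → ∀ a ∈ (P : Subgroup G), i * a * i⁻¹ = a⁻¹ := by
    intro i hi hii hi1
    have hiP := ((hS i).mp hi).1
    have hiQ := ((hS i).mp hi).2
    set C := (P : Subgroup G) ⊓ centralizer ({i} : Set G) with hC
    have hC1 : C = ⊥ := by
      rw [← Subgroup.card_eq_one]
      have hdvd : Nat.card C ∣ 3 ^ 2 := card_sylow h P ▸ card_dvd_of_le inf_le_left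
      obtain ⟨e, he, hCe⟩ := (Nat.dvd_prime_pow Nat.prime_three).mp hdvd
      by_contra hne1
      have he1 : e = 1 := by
        rcases (show e = 0 ∨ e = 1 ∨ e = 2 by omega) with rfl | rfl | rfl
        · exact absurd (by simpa using hCe) hne1
        · rfl
        · exfalso
          have hCP : C = P := eq_of_le_of_card_ge inf_le_left (by rw [hCe, card_sylow h])
          refine hi1 (hfaithS i hi fun a ha => ?_)
          have h1 : a ∈ C := hCP.symm ▸ ha
          rw [← mem_centralizer_singleton_iff.mp h1.2, mul_inv_cancel_right]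
      rw [he1, pow_one] at hCe
      have : Fintype C := Fintype.ofFinite _
      have hfix : (Finset.univ.filter fun R : Sylow 3 G => i • R = R) =
          insert P (Finset.univ.image fun a : C => (a : G) • Q) := by
        ext R
        simp only [Finset.mem_filter, Finset.mem_univ, true_and, Finset.mem_insert, Finset.mem_image]
        constructor
        · intro hR
          by_cases hRP : R = P
          · exact Or.inl hRP
          · obtain ⟨a, ha, rfl⟩ := hreg R hRP
            refine Or.inr ⟨⟨a, ha, mem_centralizer_singleton_iff.mpr ?_⟩, rfl⟩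
            have h1 : (i * a * i⁻¹) • Q = a • Q := by
              rw [mul_smul, mul_smul, inv_smul_eq_iff.mpr hiQ.symm, hR]
            have h3 := inv_mul_eq_one.mp (hfree _ (mul_mem (inv_mem ha) (hSP i hi a ha)) Q hQP
              (by rw [mul_smul, h1, inv_smul_smul]))
            exact (mul_inv_eq_iff_eq_mul.mp h3.symm).symm
        · rintro (rfl | ⟨a, rfl⟩)
          · exact hiP
          · rw [smul_smul, (mem_centralizer_singleton_iff.mp a.2.2).symm, mul_smul, hiQ]
      have h4 : (Finset.univ.filter fun R : Sylow 3 G => i • R = R).card = 4 := by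
        rw [hfix, Finset.card_insert_of_notMem, Finset.card_image_of_injective,
          Finset.card_univ, ← Nat.card_eq_fintype_card, hCe]
        · intro a b hab
          exact Subtype.ext (inv_mul_eq_one.mp (hfree _ (mul_mem (inv_mem a.2.1) b.2.1) Q hQP
            (by
              have h1 : (a : G) • Q = (b : G) • Q := hab
              rw [mul_smul, ← h1, inv_smul_smul])))
        · simp only [Finset.mem_image, not_exists, not_and]
          rintro a - he
          exact hQP (smul_left_cancel (a : G) (he.trans (hPo _ a.2.1).symm))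
      have := hfix10 i
      have := hmoved i hii
      omega
    intro a ha
    have h1 : a * (i * a * i⁻¹) ∈ C := by
      refine ⟨mul_mem ha (hSP i hi a ha), mem_centralizer_singleton_iff.mpr ?_⟩
      have h2 : i⁻¹ = i := inv_eq_of_mul_eq_one_right hii
      have hm2 := hSP i hi a ha
      rw [h2] at hm2 ⊢
      have hc2 := hcomm a ha _ hm2
      calc a * (i * a * i) * i = a * i * a * (i * i) := by group
        _ = a * i * a := by rw [hii, mul_one]
        _ = i * i * a * i * a := by rw [hii, one_mul]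
        _ = i * (i * a * i * a) := by group
        _ = i * (a * (i * a * i)) := by rw [hc2]
    rw [hC1, mem_bot] at h1
    exact eq_inv_of_mul_eq_one_right h1
  have huniq : ∀ i ∈ S, ∀ j ∈ S, i * i = 1 → i ≠ 1 → j * j = 1 → j ≠ 1 → i = j := by
    intro i hi j hj hii hi1 hjj hj1
    refine inv_mul_eq_one.mp (hfaithS _ (mul_mem (inv_mem hi) hj) fun a ha => ?_)
    calc (i⁻¹ * j) * a * (i⁻¹ * j)⁻¹ = i⁻¹ * (j * a * j⁻¹) * i := by group
      _ = i⁻¹ * (i * a * i⁻¹) * i := by rw [hinv j hj hjj hj1 a ha, hinv i hi hii hi1 a ha]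
      _ = a := by group
  obtain ⟨z', hz'⟩ := exists_prime_orderOf_dvd_card' (G := S) 2 (by rw [hSc]; norm_num)
  set z : G := (z' : G) with hzdef
  have hz2 : orderOf z = 2 := by rw [hzdef, orderOf_coe, hz']
  have hzS : z ∈ S := z'.2
  have hzz : z * z = 1 := by rw [← pow_two, ← hz2, pow_orderOf_eq_one]
  have hz1 : z ≠ 1 := fun e => by rw [e, orderOf_one] at hz2; omega
  have hzfix : ∀ R : Sylow 3 G, z • R = R → R = P ∨ R = Q := by
    intro R hR
    by_cases hRP : R = P
    · exact Or.inl hRP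
    obtain ⟨a, ha, rfl⟩ := hreg R hRP
    right
    have h1 : (z * a * z⁻¹) • Q = a • Q := by
      rw [mul_smul, mul_smul, inv_smul_eq_iff.mpr ((hS z).mp hzS).2.symm, hR]
    have h3 := inv_mul_eq_one.mp (hfree _ (mul_mem (inv_mem ha) (hSP z hzS a ha)) Q hQP
      (by rw [mul_smul, h1, inv_smul_smul]))
    rw [hinv z hzS hzz hz1 a ha] at h3
    have h2 : orderOf a ∣ 2 := orderOf_dvd_of_pow_eq_one (by
      rw [pow_two]; exact mul_eq_one_iff_eq_inv.mpr h3)
    have h9 : orderOf a ∣ 9 := by
      have := orderOf_dvd_natCard _ ha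
      rwa [card_sylow h] at this
    have := Nat.dvd_gcd h9 h2
    rw [show Nat.gcd 9 2 = 1 from rfl, Nat.dvd_one, orderOf_eq_one_iff] at this
    rw [this, one_smul]
  -- an element fixing two points is conjugate into `S`
  have hmove : ∀ A B : Sylow 3 G, A ≠ B → ∃ g : G, g • A = P ∧ g • B = Q := by
    intro A B hAB
    obtain ⟨g₁, hg₁⟩ := MulAction.exists_smul_eq G A P
    obtain ⟨a, ha, haQ⟩ := hreg (g₁ • B) fun e => hAB (smul_left_cancel g₁ (hg₁.trans e.symm))
    exact ⟨a⁻¹ * g₁, by rw [mul_smul, hg₁, hPo _ (inv_mem ha)], by rw [mul_smul, ← haQ, inv_smul_smul]⟩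
  have hinvol : ∀ i : G, i * i = 1 → i ≠ 1 → ∀ A B : Sylow 3 G, A ≠ B → i • A = A → i • B = B →
      ∀ C : Sylow 3 G, i • C = C → C = A ∨ C = B := by
    intro i hii hi1 A B hAB hA hB C hC
    obtain ⟨g, hgA, hgB⟩ := hmove A B hAB
    have hconj : ∀ R : Sylow 3 G, i • R = R → (g * i * g⁻¹) • (g • R) = g • R := fun R hR => by
      rw [smul_smul, inv_mul_cancel_right, mul_smul, hR]
    have hmem : g * i * g⁻¹ ∈ S :=
      (hS _).mpr ⟨hgA ▸ hconj A hA, hgB ▸ hconj B hB⟩
    have he := huniq _ hmem z hzS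
      (by rw [show g * i * g⁻¹ * (g * i * g⁻¹) = g * (i * i) * g⁻¹ by group, hii, mul_one,
        mul_inv_cancel])
      (fun e => hi1 (by
        calc i = g⁻¹ * (g * i * g⁻¹) * g := by group
          _ = 1 := by rw [e]; group)) hzz hz1
    rcases hzfix (g • C) (he ▸ hconj C hC) with e | e
    · exact Or.inl (smul_left_cancel g (e.trans hgA.symm))
    · exact Or.inr (smul_left_cancel g (e.trans hgB.symm))
  -- every element of `S` outside `⟨z⟩` squares to `z`
  have hz8 : ∀ v ∈ S, v ^ 8 = 1 := fun v hv => by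
    have := pow_card_eq_one' (x := (⟨v, hv⟩ : S))
    rw [hSc] at this
    exact congrArg Subtype.val this
  have h4 : ∀ v ∈ S, v ^ 4 = 1 := by
    intro v hv
    by_contra h4
    have h44 : v ^ 4 = z := huniq _ (pow_mem hv 4) z hzS (by rw [← pow_add]; exact hz8 v hv) h4 hzz hz1
    set σ : Equiv.Perm (Sylow 3 G) := toPerm v with hσ
    have hσp : ∀ n, σ ^ n = toPerm (v ^ n) := fun n => by
      rw [hσ, ← toPermHom_apply, ← map_pow]; rfl
    have hsupp : σ.support.card ≤ 8 := by
      have h1 : σ.support ⊆ (Finset.univ.erase P).erase Q := fun R hR => by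
        rw [Equiv.Perm.mem_support, hσ, toPerm_apply] at hR
        simp only [Finset.mem_erase, Finset.mem_univ, and_true]
        exact ⟨fun e => hR (e ▸ ((hS v).mp hv).2), fun e => hR (e ▸ ((hS v).mp hv).1)⟩
      have := Finset.card_le_card h1
      rw [Finset.card_erase_of_mem (Finset.mem_erase.mpr ⟨hQP, Finset.mem_univ _⟩),
        Finset.card_erase_of_mem (Finset.mem_univ _), Finset.card_univ, hn] at this
      omega
    have h8 : 8 ∈ σ.cycleType := by
      by_contra h8
      have hdvd : σ.cycleType.lcm ∣ 4 := Multiset.lcm_dvd.mpr fun n hn' => by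
        have hnd : n ∣ 2 ^ 3 := (Equiv.Perm.dvd_of_mem_cycleType hn').trans
          (orderOf_dvd_of_pow_eq_one (by
            rw [hσp, show v ^ 2 ^ 3 = 1 from hz8 v hv]; ext R : 1; simp))
        obtain ⟨e, he, rfl⟩ := (Nat.dvd_prime_pow Nat.prime_two).mp hnd
        rcases (show e = 3 ∨ e ≤ 2 by omega) with rfl | hle
        · exact absurd hn' h8
        · exact (pow_dvd_pow 2 hle)
      rw [Equiv.Perm.lcm_cycleType] at hdvd
      have h1 := orderOf_dvd_iff_pow_eq_one.mp hdvd
      rw [hσp, h44] at h1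
      obtain ⟨R, hR⟩ : ∃ R : Sylow 3 G, z • R ≠ R := by
        by_contra! hall
        have h3 : (Finset.univ.filter fun R : Sylow 3 G => R = P ∨ R = Q).card = 10 := by
          rw [Finset.filter_true_of_mem fun R _ => hzfix R (hall R), Finset.card_univ, hn]
        rw [show (Finset.univ.filter fun R : Sylow 3 G => R = P ∨ R = Q) = {P, Q} by ext; simp,
          Finset.card_pair hQP.symm] at h3
        omega
      exact hR (Equiv.Perm.ext_iff.mp h1 R)
    have hsum := Equiv.Perm.sum_cycleType σ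
    obtain ⟨m, hm⟩ := Multiset.exists_cons_of_mem h8
    rw [hm, Multiset.sum_cons] at hsum
    have hm0 : m = 0 := Multiset.eq_zero_of_forall_notMem fun n hn' => by
      have h2 := Equiv.Perm.two_le_of_mem_cycleType (hm ▸ Multiset.mem_cons_of_mem hn' : n ∈ σ.cycleType)
      have := Multiset.le_sum_of_mem hn'
      omega
    have hsign := sign_toPerm_eq_one hG (X := Sylow 3 G) v
    rw [← hσ, Equiv.Perm.sign_of_cycleType, hm, hm0] at hsign
    simp at hsign
    exact absurd hsign (by decide)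
  have hsq : ∀ v ∈ S, v ≠ 1 → v ≠ z → v * v = z := fun v hv hv1 hvz => by
    refine huniq _ (mul_mem hv hv) z hzS ?_ (fun e => hvz (huniq v hv z hzS e hv1 hzz hz1)) hzz hz1
    rw [← h4 v hv]; simp [pow_succ, mul_assoc]
  have hzc : ∀ v ∈ S, v * z = z * v := fun v hv => by
    refine mul_inv_eq_iff_eq_mul.mp (huniq _ (mul_mem (mul_mem hv hzS) (inv_mem hv)) z hzS
      (by rw [show v * z * v⁻¹ * (v * z * v⁻¹) = v * (z * z) * v⁻¹ by group, hzz, mul_one,
        mul_inv_cancel]) (fun e => hz1 ?_) hzz hz1)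
    calc z = v⁻¹ * (v * z * v⁻¹) * v := by group
      _ = 1 := by rw [e]; group
  -- the swapping involution
  obtain ⟨t, htt, htQ⟩ := TwoPoint.exists_involution_swap (X := Sylow 3 G)
    (fun g hg => hfaithS g ((hS g).mpr ⟨hg P, hg Q⟩) fun a ha => by
      have h1 : (g * a * g⁻¹) • Q = a • Q := by
        rw [mul_smul, mul_smul, inv_smul_eq_iff.mpr (hg Q).symm, hg]
      exact (inv_mul_eq_one.mp (hfree _ (mul_mem (inv_mem ha) (hSP g ((hS g).mpr ⟨hg P, hg Q⟩) a ha))
        Q hQP (by rw [mul_smul, h1, inv_smul_smul]))).symm)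
    (by rw [h]; norm_num) (fun R hR => by
      obtain ⟨g, hg, hgQ⟩ := hreg R hR
      exact ⟨g, hPo g hg, hgQ⟩)
  have htP : t • P = Q := by rw [← htQ, smul_smul, htt, one_smul]
  have htinv : t⁻¹ = t := inv_eq_of_mul_eq_one_right htt
  have htS : ∀ v ∈ S, t * v * t ∈ S := fun v hv =>
    (hS _).mpr ⟨by rw [mul_smul, mul_smul, htP, ((hS v).mp hv).2, htQ],
      by rw [mul_smul, mul_smul, htQ, ((hS v).mp hv).1, htP]⟩
  have htz : t * z * t = z := huniq _ (htS z hzS) z hzS
    (by rw [show t * z * t * (t * z * t) = t * (z * (t * t) * z) * t by group, htt, mul_one, hzz,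
      mul_one, htt])
    (fun e => hz1 (by
      calc z = t * t * z * (t * t) := by rw [htt, one_mul, mul_one]
        _ = t * (t * z * t) * t := by group
        _ = 1 := by rw [e, mul_one, htt])) hzz hz1
  have hCt : ∀ v ∈ S, t * v * t = v → v = 1 ∨ v = z := by
    intro v hv hvt
    by_contra! hcon
    have hvc : v * t = t * v := by
      calc v * t = (t * v * t) * t := by rw [hvt]
        _ = t * v := by rw [mul_assoc, htt, mul_one]
    obtain ⟨A, B, hAB, hA, hB⟩ : ∃ A B : Sylow 3 G, A ≠ B ∧ t • A = A ∧ t • B = B := by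
      have h10 := hfix10 t
      have h4d := hmoved t htt
      have hlt : (toPerm t : Equiv.Perm (Sylow 3 G)).support.card ≤ 10 := by omega
      obtain ⟨A, hA, B, hB, hAB⟩ := Finset.one_lt_card.mp
        (show 1 < (Finset.univ.filter fun R : Sylow 3 G => t • R = R).card by omega)
      exact ⟨A, B, hAB, (Finset.mem_filter.mp hA).2, (Finset.mem_filter.mp hB).2⟩
    have ht1 : t ≠ 1 := fun e => hQP (by rw [← htP, e, one_smul])
    have hAP : A ≠ P := fun e => hQP (by rw [← htP, ← e, hA])
    have hAQ : A ≠ Q := fun e => hQP (by rw [← htQ, ← e, hA])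
    have hfix : ∀ C : Sylow 3 G, t • C = C → t • (v • C) = v • C := fun C hC => by
      rw [smul_smul, ← hvc, mul_smul, hC]
    have h2 : ∀ C : Sylow 3 G, C = A ∨ C = B → v • C = A ∨ v • C = B := fun C hC => by
      refine hinvol t htt ht1 A B hAB hA hB _ (hfix C ?_)
      rcases hC with rfl | rfl <;> assumption
    have hzA : z • A = A := by
      rw [← hsq v hv hcon.1 hcon.2, mul_smul]
      rcases h2 A (Or.inl rfl) with e | e
      · rw [e, e]
      · rw [e]
        rcases h2 B (Or.inr rfl) with e' | e'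
        · exact e'
        · exact absurd (smul_left_cancel v (e.trans e'.symm)) hAB
    rcases hzfix A hzA with e | e
    · exact hAP e
    · exact hAQ e
  -- an element inverted by `t`
  obtain ⟨v₀, hv₀, hv₀1, hv₀z⟩ : ∃ v ∈ S, v ≠ 1 ∧ v ≠ z := by
    by_contra! hcon
    have hle : S ≤ zpowers z := fun v hv => by
      by_cases hv1 : v = 1
      · exact hv1 ▸ one_mem _
      · exact (hcon v hv hv1) ▸ mem_zpowers z
    have := card_le_of_le hle
    rw [hSc, Nat.card_zpowers, hz2] at this
    omega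
  have hzinv : z⁻¹ = z := inv_eq_of_mul_eq_one_right hzz
  have hneg : ∀ v ∈ S, v ≠ 1 → v ≠ z → v⁻¹ = v * z := fun v hv hv1 hvz =>
    inv_eq_of_mul_eq_one_right (by rw [← mul_assoc, hsq v hv hv1 hvz, hzz])
  obtain ⟨u, hu, hu1, huz, hut⟩ : ∃ u ∈ S, u ≠ 1 ∧ u ≠ z ∧ t * u * t = u⁻¹ := by
    set v' := t * v₀ * t with hv'
    have hv'S : v' ∈ S := htS v₀ hv₀
    have hne : v' ≠ v₀ := fun e => (hCt v₀ hv₀ e).elim hv₀1 hv₀z
    by_cases hvi : v' = v₀⁻¹
    · exact ⟨v₀, hv₀, hv₀1, hv₀z, hvi⟩
    refine ⟨v₀ * v', mul_mem hv₀ hv'S, fun e => hvi (eq_inv_of_mul_eq_one_right e), fun e => hne ?_, ?_⟩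
    · calc v' = v₀⁻¹ * z := by rw [← e, inv_mul_cancel_left]
        _ = v₀ := by rw [hneg v₀ hv₀ hv₀1 hv₀z, mul_assoc, hzz, mul_one]
    · have hv'1 : v' ≠ 1 := fun e => hv₀1 (by
        calc v₀ = t * t * v₀ * (t * t) := by rw [htt, one_mul, mul_one]
          _ = t * v' * t := by rw [hv']; group
          _ = 1 := by rw [e, mul_one, htt])
      have hv'z : v' ≠ z := fun e => hv₀z (by
        calc v₀ = t * t * v₀ * (t * t) := by rw [htt, one_mul, mul_one]
          _ = t * v' * t := by rw [hv']; group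
          _ = z := by rw [e, htz])
      have h1 : t * (v₀ * v') * t = v' * v₀ := by
        rw [hv']
        calc t * (v₀ * (t * v₀ * t)) * t = t * v₀ * t * v₀ * (t * t) := by group
          _ = t * v₀ * t * v₀ := by rw [htt, mul_one]
      rw [h1]
      refine (inv_eq_of_mul_eq_one_right ?_).symm
      calc v₀ * v' * (v' * v₀) = v₀ * (v' * v') * v₀ := by group
        _ = v₀ * v₀ * z := by rw [hsq v' hv'S hv'1 hv'z, mul_assoc v₀ z, ← hzc v₀ hv₀, ← mul_assoc]
        _ = 1 := by rw [hsq v₀ hv₀ hv₀1 hv₀z, hzz]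
  set J := zpowers u with hJ
  have hJS : J ≤ S := zpowers_le.mpr hu
  have hu4 : orderOf u = 4 := orderOf_eq_prime_pow (p := 2) (n := 1)
    (fun e => huz (huniq u hu z hzS (by rw [← pow_two]; simpa using e) hu1 hzz hz1))
    (by simpa using h4 u hu)
  have hJc : Nat.card J = 4 := by rw [hJ, Nat.card_zpowers, hu4]
  have hzJ : z ∈ J := hsq u hu hu1 huz ▸ mul_mem (mem_zpowers u) (mem_zpowers u)
  have htu : ∀ n : ℤ, t * u ^ n * t = u ^ (-n) := fun n => by
    have h1 : t * u * t⁻¹ = u⁻¹ := by rw [htinv]; exact hut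
    calc t * u ^ n * t = t * u ^ n * t⁻¹ := by rw [htinv]
      _ = u ^ (-n) := by rw [← conj_zpow, h1, inv_zpow, zpow_neg]
  have hJt : ∀ a ∈ J, t * a * t ∈ J := fun a ha => by
    obtain ⟨n, rfl⟩ := mem_zpowers_iff.mp ha
    rw [htu]; exact zpow_mem (mem_zpowers u) _
  have hinvJ : ∀ v ∈ S, t * v * t = v⁻¹ → v ∈ J := by
    intro v hv hvt
    by_cases hv1 : v = 1
    · exact hv1 ▸ one_mem _
    by_cases hvz : v = z
    · exact hvz ▸ hzJ
    have h1 : t * (u * v) * t = u * v := by
      calc t * (u * v) * t = t * u * (t * t) * v * t := by rw [htt]; group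
        _ = (t * u * t) * (t * v * t) := by group
        _ = u⁻¹ * v⁻¹ := by rw [hut, hvt]
        _ = u * z * (v * z) := by rw [hneg u hu hu1 huz, hneg v hv hv1 hvz]
        _ = u * (z * v) * z := by group
        _ = u * v := by rw [← hzc v hv, mul_assoc, mul_assoc, hzz, mul_one]
    have h2 : u * v ∈ J := by
      rcases hCt _ (mul_mem hu hv) h1 with e | e
      · rw [e]; exact one_mem _
      · rw [e]; exact hzJ
    exact (mul_mem_cancel_left (mem_zpowers u)).mp h2
  -- the stabiliser of the pair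
  let T : Subgroup G :=
    { carrier := {g | (g • P = P ∧ g • Q = Q) ∨ (g • P = Q ∧ g • Q = P)}
      one_mem' := Or.inl ⟨one_smul _ _, one_smul _ _⟩
      mul_mem' := by
        rintro a b (⟨a1, a2⟩ | ⟨a1, a2⟩) (⟨b1, b2⟩ | ⟨b1, b2⟩) <;>
          simp [mul_smul, a1, a2, b1, b2]
      inv_mem' := by
        rintro a (⟨a1, a2⟩ | ⟨a1, a2⟩)
        · exact Or.inl ⟨inv_smul_eq_iff.mpr a1.symm, inv_smul_eq_iff.mpr a2.symm⟩
        · exact Or.inr ⟨inv_smul_eq_iff.mpr a2.symm, inv_smul_eq_iff.mpr a1.symm⟩ }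
  have hmemT : ∀ g, g ∈ T ↔ g ∈ S ∨ t * g ∈ S := by
    intro g
    show ((g • P = P ∧ g • Q = Q) ∨ (g • P = Q ∧ g • Q = P)) ↔ _
    rw [hS, hS, mul_smul, mul_smul]
    refine or_congr Iff.rfl ⟨fun ⟨e1, e2⟩ => ⟨by rw [e1, htQ], by rw [e2, htP]⟩, fun ⟨e1, e2⟩ =>
      ⟨smul_left_cancel t (e1.trans htQ.symm), smul_left_cancel t (e2.trans htP.symm)⟩⟩
  have htnS : ∀ g, g ∈ S → t * g ∉ S := fun g hg hc => hQP (by
    have := ((hS _).mp hc).1
    rwa [mul_smul, ((hS g).mp hg).1, htP] at this)
  let M : Subgroup T :=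
    { carrier := {g | (g : G) ∈ J ∨ t * g ∈ J}
      one_mem' := Or.inl (one_mem J)
      mul_mem' := by
        rintro a b (ha | ha) (hb | hb)
        · exact Or.inl (mul_mem ha hb)
        · refine Or.inr ?_
          show t * ((a : G) * b) ∈ J
          rw [show t * ((a : G) * b) = (t * a * t) * (t * b) by
            calc t * ((a : G) * b) = t * a * (t * t) * b := by rw [htt]; group
              _ = _ := by group]
          exact mul_mem (hJt _ ha) hb
        · refine Or.inr ?_
          show t * ((a : G) * b) ∈ J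
          rw [← mul_assoc]
          exact mul_mem ha hb
        · refine Or.inl ?_
          show (a : G) * b ∈ J
          rw [show (a : G) * b = (t * (t * a) * t) * (t * b) by
            calc (a : G) * b = (t * t) * a * (t * t) * b := by rw [htt]; group
              _ = _ := by group]
          exact mul_mem (hJt _ ha) hb
      inv_mem' := by
        rintro a (ha | ha)
        · exact Or.inl (inv_mem ha)
        · refine Or.inr ?_
          show t * (a : G)⁻¹ ∈ J
          rw [show t * (a : G)⁻¹ = t * (t * a)⁻¹ * t by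
            rw [mul_inv_rev, htinv, mul_assoc, mul_assoc, htt, mul_one]]
          exact hJt _ (inv_mem ha) }
  have hmemM : ∀ g : T, g ∈ M ↔ ((g : G) ∈ J ∨ t * g ∈ J) := fun _ => Iff.rfl
  obtain ⟨w, hwS, hwJ⟩ := SetLike.exists_of_lt (lt_of_le_of_ne hJS fun e => by
    rw [e] at hJc; omega)
  have hw1 : w ≠ 1 := fun e => hwJ (e ▸ one_mem _)
  have hwz : w ≠ z := fun e => hwJ (e ▸ hzJ)
  have hidx : M.index = 2 := by
    refine index_eq_two_iff.mpr ⟨⟨w, (hmemT w).mpr (Or.inl hwS)⟩, fun b => ?_⟩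
    have hJS2 : (J.subgroupOf S).index = 2 := by
      have h1 := (J.subgroupOf S).card_mul_index
      rw [Nat.card_congr (subgroupOfEquivOfLe hJS).toEquiv, hJc, hSc] at h1
      omega
    have key : ∀ c ∈ S, Xor (c * w ∈ J) (c ∈ J) := fun c hc => by
      have := mul_mem_iff_of_index_two hJS2 (a := (⟨c, hc⟩ : S)) (b := ⟨w, hwS⟩)
      simp only [mem_subgroupOf, Subgroup.coe_mul] at this
      by_cases hcJ : c ∈ J
      · exact Or.inr ⟨hcJ, fun e => hwJ ((this.mp e).mp hcJ)⟩
      · exact Or.inl ⟨this.mpr (iff_of_false hcJ hwJ), hcJ⟩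
    rcases (hmemT (b : G)).mp b.2 with hb | hb
    · have hno : ∀ c ∈ S, t * c ∉ J := fun c hc e => htnS c hc (hJS e)
      rcases key _ hb with ⟨e1, e2⟩ | ⟨e1, e2⟩
      · exact Or.inl ⟨Or.inl e1, fun e => e.elim e2 (hno _ hb)⟩
      · exact Or.inr ⟨Or.inl e1, fun e => e.elim e2 (hno _ (mul_mem hb hwS))⟩
    · have hno : ∀ c : G, t * c ∈ S → c ∉ J := fun c hc e => htnS c (hJS e) hc
      rcases key _ hb with ⟨e1, e2⟩ | ⟨e1, e2⟩
      · exact Or.inl ⟨Or.inr (by simpa [mul_assoc] using e1), fun e => e.elim (hno _ hb) e2⟩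
      · refine Or.inr ⟨Or.inr e1, fun e => e.elim (hno _ ?_) (fun e' => e2 (by simpa [mul_assoc] using e'))⟩
        simpa [mul_assoc] using mul_mem hb hwS
  have hMinv : ∀ g : T, g * g = 1 → g ∈ M := by
    intro g hgg
    have hgg' : (g : G) * g = 1 := congrArg Subtype.val hgg
    rcases (hmemT (g : G)).mp g.2 with hg | hg
    · refine Or.inl ?_
      rcases eq_or_ne (g : G) 1 with e | e
      · exact e ▸ one_mem _
      · rw [huniq _ hg z hzS hgg' e hzz hz1]; exact hzJ
    · refine Or.inr (hinvJ _ hg ?_)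
      rw [mul_inv_rev, inv_eq_of_mul_eq_one_right hgg', htinv, ← mul_assoc, htt, one_mul]
  let ψ : T →* ℤˣ :=
    { toFun := fun a => if a ∈ M then 1 else -1
      map_one' := if_pos (one_mem _)
      map_mul' := fun a b => by
        have := mul_mem_iff_of_index_two hidx (a := a) (b := b)
        by_cases ha : a ∈ M <;> by_cases hb : b ∈ M <;> simp [this, ha, hb] }
  refine false_of_single_fixed hG T ψ w ((hmemT w).mpr (Or.inl hwS)) ?_ ?_
  · show (if _ then (1 : ℤˣ) else -1) ≠ 1
    rw [if_neg fun e => e.elim hwJ fun e' => htnS w hwS (hJS e')]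
    decide
  · intro g r hr hfix hmin hne hmem
    show (if _ then (1 : ℤˣ) else -1) = 1
    refine if_pos ?_
    have hw4 : w ^ 4 = 1 := h4 w hwS
    have hw2 : w ^ 2 = z := (pow_two w).trans (hsq w hwS hw1 hwz)
    have hr4 : r ≤ 4 := by
      by_contra hgt
      exact hmin 4 (by norm_num) (by omega) (by rw [hw4, one_smul])
    interval_cases r
    · exfalso
      rw [pow_one] at hmem
      refine hne (QuotientGroup.eq.mpr ?_)
      rw [mul_one]
      refine inv_mem ?_
      have hsq' : ∀ R, R = P ∨ R = Q → (g⁻¹ * z * g) • R = R := fun R hR => by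
        rw [← hw2, show g⁻¹ * w ^ 2 * g = (g⁻¹ * w * g) * (g⁻¹ * w * g) by rw [pow_two]; group,
          mul_smul]
        rcases hmem with ⟨e1, e2⟩ | ⟨e1, e2⟩ <;> rcases hR with rfl | rfl
        · rw [e1, e1]
        · rw [e2, e2]
        · rw [e1, e2]
        · rw [e2, e1]
      have hzg : ∀ R, R = P ∨ R = Q → z • g • R = g • R := fun R hR => by
        calc z • g • R = g • ((g⁻¹ * z * g) • R) := by
              rw [smul_smul, smul_smul]; congr 1; group
          _ = g • R := by rw [hsq' R hR]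
      rcases hzfix _ (hzg P (Or.inl rfl)) with e1 | e1 <;>
        rcases hzfix _ (hzg Q (Or.inr rfl)) with e2 | e2
      · exact absurd (smul_left_cancel g (e2.trans e1.symm)) hQP
      · exact Or.inl ⟨e1, e2⟩
      · exact Or.inr ⟨e1, e2⟩
      · exact absurd (smul_left_cancel g (e2.trans e1.symm)) hQP
    · refine hMinv _ (Subtype.ext ?_)
      show g⁻¹ * w ^ 2 * g * (g⁻¹ * w ^ 2 * g) = 1
      rw [hw2, show g⁻¹ * z * g * (g⁻¹ * z * g) = g⁻¹ * (z * z) * g by group, hzz, mul_one,
        inv_mul_cancel]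
    · exact absurd (show w ^ 1 • (g : G ⧸ T) = (g : G ⧸ T) by
        calc w ^ 1 • (g : G ⧸ T) = w ^ 1 • w ^ 3 • (g : G ⧸ T) := by rw [hfix]
          _ = w ^ 4 • (g : G ⧸ T) := by rw [← mul_smul, ← pow_add]
          _ = g := by rw [hw4, one_smul]) (hmin 1 one_pos (by norm_num))
    · refine hMinv _ (Subtype.ext ?_)
      show g⁻¹ * w ^ 4 * g * (g⁻¹ * w ^ 4 * g) = 1
      rw [hw4]; group

end Cfsg.Agent.SmallOrders.O720
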