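-- No simple group of order 756.
--
-- * `card_ne`
import Cfsg.Agent.Lib.SmallOrders.Tools
import Cfsg.Agent.Lib.SmallOrders.TwoPoint.SylowTI

set_option autoImplicit false

namespace Cfsg.Agent.SmallOrders.O756

open Subgroup

variable {G : Type*} [Group G] [Finite G] [IsSimpleGroup G]

theorem card_inf_le [Fact (Nat.Prime 3)] (hG : ¬ IsMulCommutative G) (h : Nat.card G = 756)
    {P Q : Sylow 3 G} (hPQ : P ≠ Q) : Nat.card ↥((P : Subgroup G) ⊓ (Q : Subgroup G)) ≤ 3 := by
  have hc : ∀ R : Sylow 3 G, Nat.card (R : Subgroup G) = 3 ^ 3 :=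
    card_sylow_subgroup (p := 3) (e := 3) (m := 28) (by rw [h]; norm_num) (by norm_num)
  set D := (P : Subgroup G) ⊓ Q with hD
  obtain ⟨k, hk3, hk⟩ := (Nat.dvd_prime_pow Nat.prime_three).mp
    (hc P ▸ card_dvd_of_le (inf_le_left : D ≤ P))
  by_contra hlt
  have hk2 : k = 2 := by
    rcases (show k = 0 ∨ k = 1 ∨ k = 2 ∨ k = 3 by omega) with rfl | rfl | rfl | rfl
    · rw [hk] at hlt; norm_num at hlt
    · rw [hk] at hlt; norm_num at hlt
    · rfl
    · exact absurd (eq_of_le_of_card_ge inf_le_left (by rw [hk, hc])) (inf_lt_left hPQ).ne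
  subst hk2
  set M := normalizer (D : Set G)
  have hP := le_normalizer_of_card (p := 3) (e := 2) (inf_le_left : D ≤ P) hk (hc P)
  have hQ := le_normalizer_of_card (p := 3) (e := 2) (inf_le_right : D ≤ Q) hk (hc Q)
  have hMtop : M ≠ ⊤ := by
    intro ht
    rcases (normalizer_eq_top_iff.mp ht).eq_bot_or_eq_top with hb | ht'
    · have hb' : Nat.card D = 1 := by rw [hb, card_bot]
      rw [show Nat.card D = 3 ^ 2 from hk] at hb'
      norm_num at hb'
    · exact (inf_lt_left hPQ).not_ge (ht' ▸ le_top : (P : Subgroup G) ≤ D)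
  have hidx := le_index_of_facBool hG h 9 (by decide +kernel) hMtop
  have hmul := M.card_mul_index
  rw [h] at hmul
  obtain ⟨t, ht⟩ := card_dvd_of_le hP
  rw [hc P, show (3 : ℕ) ^ 3 = 27 from rfl] at ht
  rw [ht] at hmul
  have ht3 : t ≤ 3 := by
    by_contra hgt
    have : 27 * 4 * 9 ≤ 27 * t * M.index := Nat.mul_le_mul (by omega) hidx
    omega
  have hdvd : Nat.card (Sylow 3 M) ∣ t := by
    refine dvd_trans (P.subtype hP).card_dvd_index (dvd_of_eq ?_)
    have := ((P.subtype hP : Sylow 3 M) : Subgroup M).card_mul_index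
    rw [P.coe_subtype hP, Nat.card_congr (subgroupOfEquivOfLe hP).toEquiv, hc, ht] at this
    rw [P.coe_subtype hP]
    omega
  have h1 : 1 < Nat.card (Sylow 3 M) := by
    by_contra hle
    have : Subsingleton (Sylow 3 M) := (Finite.card_le_one_iff_subsingleton (α := _)).mp (by omega)
    exact hPQ (Sylow.subtype_injective (Subsingleton.elim (P.subtype hP) (Q.subtype hQ)))
  have hmod : Nat.card (Sylow 3 M) % 3 = 1 := card_sylow_modEq_one 3 M
  have := Nat.le_of_dvd (Nat.pos_of_ne_zero fun e => by subst e; simp at hmul) hdvd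
  omega

/-- an intersection of order 3 gives a normaliser of order 36 with a normal Sylow 2-subgroup -/
theorem exists_two [Fact (Nat.Prime 3)] [Fact (Nat.Prime 7)] [Fact (Nat.Prime 2)]
    (hG : ¬ IsMulCommutative G) (h : Nat.card G = 756) {P Q : Sylow 3 G} (hPQ : P ≠ Q)
    (hne : (P : Subgroup G) ⊓ (Q : Subgroup G) ≠ ⊥) :
    ∃ T : Sylow 2 G, (Nat.card (normalizer ((T : Subgroup G) : Set G)) = 36 ∧
        Nat.card (Sylow 3 (normalizer ((T : Subgroup G) : Set G))) = 4) ∧
      ∃ S₁ S₂ : Sylow 3 (normalizer ((T : Subgroup G) : Set G)), S₁ ≠ S₂ ∧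
        (∀ (R : Sylow 3 (normalizer ((T : Subgroup G) : Set G))),
          ∃! R' : Sylow 3 G, (R : Subgroup _).map (normalizer ((T : Subgroup G) : Set G)).subtype ≤
            (R' : Subgroup G)) ∧
        (S₁ : Subgroup _).map (normalizer ((T : Subgroup G) : Set G)).subtype ≤ (P : Subgroup G) ∧
        (S₂ : Subgroup _).map (normalizer ((T : Subgroup G) : Set G)).subtype ≤ (Q : Subgroup G) := by
  set D := (P : Subgroup G) ⊓ Q with hD
  have hc : ∀ R : Sylow 3 G, Nat.card (R : Subgroup G) = 3 ^ 3 :=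
    card_sylow_subgroup (p := 3) (e := 3) (m := 28) (by rw [h]; norm_num) (by norm_num)
  have hD3 : Nat.card D = 3 := by
    obtain ⟨k, hk3, hk⟩ := (Nat.dvd_prime_pow Nat.prime_three).mp
      (hc P ▸ card_dvd_of_le (inf_le_left : D ≤ P))
    have hle : 3 ^ k ≤ 3 := hk ▸ card_inf_le hG h hPQ
    rcases (show k = 0 ∨ 1 ≤ k by omega) with rfl | hk1
    · exact absurd (Subgroup.eq_bot_of_card_eq D (by rw [hk, pow_zero])) hne
    · have : k ≤ 1 := (Nat.pow_le_pow_iff_right (by norm_num : 1 < 3)).mp (by simpa using hle)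
      rw [hk, show k = 1 by omega, pow_one]
  obtain ⟨M, hMdef⟩ : ∃ M, M = normalizer (D : Set G) := ⟨_, rfl⟩
  obtain ⟨h1, -, huniq⟩ := normalizer_inter_normalizer P Q hPQ (fun P' Q' hne' => by
    have := card_inf_le hG h hne'
    rwa [hD3]) M hMdef
  have hMtop : M ≠ ⊤ := by
    intro ht
    rw [hMdef] at ht
    rcases (normalizer_eq_top_iff.mp ht).eq_bot_or_eq_top with hb | ht'
    · exact hne hb
    · exact (inf_lt_left hPQ).not_ge (ht' ▸ le_top : (P : Subgroup G) ≤ D)
  have hidx := le_index_of_facBool hG h 9 (by decide +kernel) hMtop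
  have hmul := M.card_mul_index
  rw [h] at hmul
  obtain ⟨S⟩ := (inferInstance : Nonempty (Sylow 3 M))
  have hDP : D < M ⊓ P := hMdef ▸ lt_normalizer_inf P.isPGroup' (inf_lt_left hPQ)
  have h9 : 9 ∣ Nat.card M := by
    have hd : Nat.card ↥(M ⊓ (P : Subgroup G)) ∣ 3 ^ 3 := hc P ▸ card_dvd_of_le inf_le_right
    obtain ⟨l, -, hl⟩ := (Nat.dvd_prime_pow Nat.prime_three).mp hd
    have hlt : Nat.card D < Nat.card ↥(M ⊓ (P : Subgroup G)) :=
      lt_of_le_of_ne (card_le_of_le hDP.le) fun e => hDP.ne (eq_of_le_of_card_ge hDP.le e.ge)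
    rw [hD3, hl] at hlt
    have : 1 < l := (Nat.pow_lt_pow_iff_right (by norm_num : 1 < 3)).mp (by simpa using hlt)
    exact (hl ▸ (pow_dvd_pow 3 this : 3 ^ 2 ∣ 3 ^ l)).trans (card_dvd_of_le inf_le_left)
  have hmod : Nat.card (Sylow 3 M) % 3 = 1 := card_sylow_modEq_one 3 M
  have hN7 : ∀ y : G, orderOf y = 7 → Nat.card (normalizer ((zpowers y : Subgroup G) : Set G)) = 21 := by
    intro y hy
    have hP7 : ∀ R : Sylow 7 G, Nat.card (R : Subgroup G) = 7 := fun R => by
      rw [card_sylow_subgroup (p := 7) (e := 1) (m := 108) (by rw [h]; norm_num) (by norm_num) R,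
        pow_one]
    obtain ⟨R, hR⟩ := exists_sylow_eq_zpowers hP7 hy
    have hn7 : Nat.card (Sylow 7 G) = 36 := by
      simpa using mem_of_candBool hG h 7 1 [36] (by decide +kernel)
    have := card_normalizer_mul_card_sylow R
    rw [hn7, h, hR] at this
    omega
  -- so `|M| = 36`
  have hcases : Nat.card M = 36 ∧ Nat.card (Sylow 3 M) = 4 := by
    obtain ⟨u, hu⟩ := h9
    have hu' : u ∣ 84 := ⟨M.index, by rw [hu] at hmul; rw [mul_assoc] at hmul; omega⟩
    have h3 : u ≤ 9 := by
      by_contra hgt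
      rw [hu] at hmul
      have : 9 * 10 * 9 ≤ 9 * u * M.index := Nat.mul_le_mul (by omega) hidx
      omega
    have hn := S.card_dvd_index
    have hSm := (S : Subgroup M).card_mul_index
    have hSc : Nat.card (S : Subgroup M) = 3 ^ (Nat.card M).factorization 3 := S.card_eq_multiplicity
    have h7 : u ≠ 7 := by
      intro e
      rw [e] at hu
      obtain ⟨Y⟩ := (inferInstance : Nonempty (Sylow 7 M))
      have hY : Nat.card (Y : Subgroup M) = 7 := by
        rw [card_sylow_subgroup (p := 7) (e := 1) (m := 9) (by rw [hu]; norm_num) (by norm_num) Y,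
          pow_one]
      have hY1 : Nat.card (Sylow 7 M) = 1 := by
        have hd : Nat.card (Sylow 7 M) ∣ 9 :=
          index_sylow (p := 7) (e := 1) (m := 9) (by rw [hu]; norm_num) (by norm_num) Y ▸ Y.card_dvd_index
        have hm : Nat.card (Sylow 7 M) % 7 = 1 := card_sylow_modEq_one 7 M
        have := Nat.le_of_dvd (by norm_num) hd
        interval_cases (Nat.card (Sylow 7 M)) <;> omega
      have hN := card_normalizer_mul_card_sylow Y
      rw [hY1, hu, mul_one] at hN
      obtain ⟨y, hy⟩ := exists_prime_orderOf_dvd_card' (G := (Y : Subgroup M)) 7 (by rw [hY])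
      have hy' : orderOf ((y : M) : G) = 7 := by rw [Subgroup.orderOf_coe, Subgroup.orderOf_coe, hy]
      have hz : (Y : Subgroup M).map M.subtype = zpowers ((y : M) : G) :=
        (eq_of_le_of_card_ge (zpowers_le.mpr
          (show ((y : M) : G) ∈ (Y : Subgroup M).map M.subtype from mem_map_of_mem M.subtype y.2)) (by
          rw [card_map_of_injective M.subtype_injective, hY, Nat.card_zpowers, hy'])).symm
      have hle : (normalizer ((Y : Subgroup M) : Set M)).map M.subtype ≤
          normalizer ((zpowers ((y : M) : G) : Subgroup G) : Set G) := hz ▸ le_normalizer_map _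
      have := card_dvd_of_le hle
      rw [card_map_of_injective M.subtype_injective, hN, hN7 _ hy'] at this
      norm_num at this
    have hu0 : u ≠ 0 := fun e => by simp [e] at hu'
    have hu1 : u = 1 ∨ u = 2 ∨ u = 3 ∨ u = 4 ∨ u = 6 := by interval_cases u <;> omega
    rcases hu1 with rfl | rfl | rfl | rfl | rfl
    · rw [card_sylow_subgroup (p := 3) (e := 2) (m := 1) (by rw [hu]; norm_num) (by norm_num) S,
        hu] at hSm
      have := Nat.le_of_dvd (by omega) hn
      omega
    · rw [card_sylow_subgroup (p := 3) (e := 2) (m := 2) (by rw [hu]; norm_num) (by norm_num) S,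
        hu] at hSm
      have := Nat.le_of_dvd (by omega) hn
      omega
    · rw [card_sylow_subgroup (p := 3) (e := 3) (m := 1) (by rw [hu]; norm_num) (by norm_num) S,
        hu] at hSm
      have := Nat.le_of_dvd (by omega) hn
      omega
    · rw [card_sylow_subgroup (p := 3) (e := 2) (m := 4) (by rw [hu]; norm_num) (by norm_num) S,
        hu] at hSm
      have := Nat.le_of_dvd (by omega) hn
      exact ⟨by rw [hu], by omega⟩
    · rw [card_sylow_subgroup (p := 3) (e := 3) (m := 2) (by rw [hu]; norm_num) (by norm_num) S,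
        hu] at hSm
      have := Nat.le_of_dvd (by omega) hn
      omega
  obtain ⟨hM36, hn4⟩ := hcases
  have hidxS : (S : Subgroup M).index = 4 := by
    have := (S : Subgroup M).card_mul_index
    rw [card_sylow_subgroup (p := 3) (e := 2) (m := 4) (by rw [hM36]; norm_num) (by norm_num) S,
      hM36] at this
    omega
  obtain ⟨V, hVn, hV⟩ := exists_normal_complement S (IsPGroup.isMulCommutative_of_card_eq_prime_sq
    (card_sylow_subgroup (p := 3) (e := 2) (m := 4) (by rw [hM36]; norm_num) (by norm_num) S))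
    (by rw [hn4, hidxS])
  rw [hidxS] at hV
  obtain ⟨T, hT⟩ := (IsPGroup.of_card (p := 2) (n := 2) (show Nat.card (V.map M.subtype) = 2 ^ 2 by
    rw [card_map_of_injective M.subtype_injective, hV]; norm_num)).exists_le_sylow
  have hVT : V.map M.subtype = (T : Subgroup G) := eq_of_le_of_card_ge hT (by
    rw [card_map_of_injective M.subtype_injective, hV,
      card_sylow_subgroup (p := 2) (e := 2) (m := 189) (by rw [h]; norm_num) (by norm_num) T]
    norm_num)
  have hMT : M = normalizer ((T : Subgroup G) : Set G) := by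
    have hle : M ≤ normalizer ((T : Subgroup G) : Set G) := hVT ▸ le_normalizer_map_subtype V
    refine eq_of_le_of_card_ge hle ?_
    have htop := normalizer_sylow_ne_top hG (p := 2) (by rw [h]; norm_num) T
    have hi := le_index_of_facBool hG h 9 (by decide +kernel) htop
    have hm := (normalizer ((T : Subgroup G) : Set G)).card_mul_index
    rw [h] at hm
    obtain ⟨w, hw⟩ : 36 ∣ Nat.card (normalizer ((T : Subgroup G) : Set G)) :=
      hM36 ▸ card_dvd_of_le hle
    rw [hw] at hm ⊢
    have hw2 : w ≤ 2 := by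
      by_contra hgt
      have := Nat.mul_le_mul (Nat.mul_le_mul_left 36 (show 3 ≤ w by omega)) hi
      omega
    have : w ≠ 2 := fun e => by rw [e] at hm; omega
    rw [hM36]
    omega
  obtain ⟨S₁, hS₁⟩ := (P.isPGroup'.comap_subtype (K := M)).exists_le_sylow
  obtain ⟨S₂, hS₂⟩ := (Q.isPGroup'.comap_subtype (K := M)).exists_le_sylow
  have up : ∀ (R : Sylow 3 G), D < M ⊓ R → ∀ (X : Sylow 3 M),
      ((R : Subgroup G).comap M.subtype ≤ (X : Subgroup M)) →
      (X : Subgroup M).map M.subtype ≤ (R : Subgroup G) := by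
    intro R hR X hX
    obtain ⟨R', hR', huR'⟩ := huniq X
    suffices R = R' from this ▸ hR'
    by_contra hne'
    have hle : M ⊓ (R : Subgroup G) ≤ (R : Subgroup G) ⊓ (R' : Subgroup G) := fun z hz =>
      ⟨hz.2, hR' ⟨⟨z, hz.1⟩, hX hz.2, rfl⟩⟩
    have e1 := card_inf_le hG h hne'
    have e2 := card_le_of_le hle
    have e3 : Nat.card D < Nat.card ↥(M ⊓ (R : Subgroup G)) :=
      lt_of_le_of_ne (card_le_of_le hR.le) fun e => hR.ne (eq_of_le_of_card_ge hR.le e.ge)
    omega
  have hS₁' := up P hDP S₁ hS₁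
  have hS₂' := up Q (by
    have hQlt : D < Q := by rw [hD, inf_comm]; exact inf_lt_left hPQ.symm
    exact hMdef ▸ lt_normalizer_inf Q.isPGroup' hQlt) S₂ hS₂
  subst hMT
  refine ⟨T, ⟨hM36, hn4⟩, S₁, S₂, fun e => ?_, huniq, hS₁', hS₂'⟩
  subst e
  obtain ⟨R', -, huR'⟩ := huniq S₁
  exact hPQ ((huR' P hS₁').trans (huR' Q hS₂').symm)

theorem card_ne (hG : ¬ IsMulCommutative G) : Nat.card G ≠ 756 := by
  intro h
  classical
  have : Fact (Nat.Prime 3) := ⟨by norm_num⟩
  have : Fact (Nat.Prime 7) := ⟨by norm_num⟩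
  have : Fact (Nat.Prime 2) := ⟨Nat.prime_two⟩
  have hn3 : Nat.card (Sylow 3 G) = 28 := by
    simpa using mem_of_candBool hG h 3 3 [28] (by decide +kernel)
  have hn7 : Nat.card (Sylow 7 G) = 36 := by
    simpa using mem_of_candBool hG h 7 1 [36] (by decide +kernel)
  have hc : ∀ R : Sylow 3 G, Nat.card (R : Subgroup G) = 3 ^ 3 :=
    card_sylow_subgroup (p := 3) (e := 3) (m := 28) (by rw [h]; norm_num) (by norm_num)
  -- some pair meets
  obtain ⟨P₀, Q₀, hne₀, hmeet₀⟩ : ∃ P Q : Sylow 3 G, P ≠ Q ∧ (P : Subgroup G) ⊓ (Q : Subgroup G) ≠ ⊥ := by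
    by_contra! hTI
    have h3 := TwoPoint.card_nontrivial_pElements hc hTI
    have h7 := card_orderOf_eq_prime (G := G) (q := 7) fun R => by
      rw [card_sylow_subgroup (p := 7) (e := 1) (m := 108) (by rw [h]; norm_num) (by norm_num) R,
        pow_one]
    rw [hn3] at h3
    rw [hn7] at h7
    have hinj : Nat.card ({g : G // g ≠ 1 ∧ ∃ k, g ^ 3 ^ k = 1} ⊕ {g : G // orderOf g = 7}) ≤
        Nat.card G := by
      refine Nat.card_le_card_of_injective (Sum.elim Subtype.val Subtype.val)
        (Function.Injective.sumElim Subtype.val_injective Subtype.val_injective ?_)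
      rintro ⟨a, ha1, k, hak⟩ ⟨b, hb⟩ e
      have hab : a = b := e
      subst hab
      have hd := orderOf_dvd_of_pow_eq_one hak
      rw [hb] at hd
      have := (Fact.out : Nat.Prime 7).dvd_of_dvd_pow hd
      norm_num at this
    rw [Nat.card_sum, h3, h7, h] at hinj
    omega
  -- all pairs meet
  have hall : ∀ P Q : Sylow 3 G, P ≠ Q → (P : Subgroup G) ⊓ (Q : Subgroup G) ≠ ⊥ := by
    have key : ∀ Q : Sylow 3 G, Q ≠ P₀ → (P₀ : Subgroup G) ⊓ (Q : Subgroup G) ≠ ⊥ := by
      intro Q hQ hbot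
      have hsize : ∀ R : Sylow 3 G, R ≠ P₀ →
          Nat.card ↥((P₀ : Subgroup G) ⊓ (R : Subgroup G)) *
            Nat.card (MulAction.orbit (P₀ : Subgroup G) R) = 27 := by
        intro R hR
        rw [Nat.card_coe_set_eq, ← MulAction.index_stabilizer, stabilizer_sylow, ← inf_subgroupOf_left,
          ← Nat.card_congr (subgroupOfEquivOfLe
            (inf_le_left : (P₀ : Subgroup G) ⊓ (R : Subgroup G) ≤ P₀)).toEquiv, card_mul_index, hc]
        norm_num
      have hq := hsize Q hQ
      rw [hbot, card_bot, one_mul] at hq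
      have hP₀ : P₀ ∉ MulAction.orbit (P₀ : Subgroup G) Q := by
        rintro ⟨u, hu⟩
        exact hQ (smul_left_cancel (u : G) (hu.trans
          (Sylow.smul_eq_iff_mem_normalizer.mpr (le_normalizer u.2) : (u : G) • P₀ = P₀).symm))
      have hQ₀ : Q₀ ∉ MulAction.orbit (P₀ : Subgroup G) Q := fun hmem => by
        have := hsize Q₀ hne₀.symm
        rw [MulAction.orbit_eq_iff.mpr hmem, hq] at this
        exact hmeet₀ (Subgroup.eq_bot_of_card_eq _ (by omega))
      have hsub : MulAction.orbit (P₀ : Subgroup G) Q ⊆ ({P₀, Q₀} : Set (Sylow 3 G))ᶜ := by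
        intro R hR hR'
        rcases hR' with e | e
        · exact hP₀ (e ▸ hR)
        · exact hQ₀ (e ▸ hR)
      have := Nat.card_mono (Set.toFinite _) hsub
      rw [hq, Nat.card_coe_set_eq, Set.ncard_compl, Set.ncard_pair hne₀, hn3] at this
      omega
    intro P Q hPQ
    obtain ⟨g, rfl⟩ := MulAction.exists_smul_eq G P₀ P
    have := key (g⁻¹ • Q) fun e => hPQ (inv_smul_eq_iff.mp e).symm
    intro hbot
    apply this
    rw [Subgroup.eq_bot_iff_forall]
    intro z hz
    have h1 : g * z * g⁻¹ ∈ ((g • P₀ : Sylow 3 G) : Subgroup G) ⊓ (Q : Subgroup G) := by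
      constructor
      · show g * z * g⁻¹ ∈ ((g • P₀ : Sylow 3 G) : Subgroup G)
        rw [Sylow.coe_subgroup_smul, Subgroup.mem_pointwise_smul_iff_inv_smul_mem, ← map_inv,
          MulAut.smul_def, MulAut.conj_apply]
        rw [show g⁻¹ * (g * z * g⁻¹) * g⁻¹⁻¹ = z by group]
        exact hz.1
      · have h2 := hz.2
        rw [Sylow.coe_subgroup_smul] at h2
        rw [map_inv] at h2
        have h3 := Subgroup.mem_inv_pointwise_smul_iff.mp h2
        rwa [MulAut.smul_def, MulAut.conj_apply] at h3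
    rw [hbot, mem_bot] at h1
    exact conj_eq_one_iff.mp h1
  -- count the ordered pairs
  let X := {T : Sylow 2 G // Nat.card (Sylow 3 (normalizer ((T : Subgroup G) : Set G))) = 4}
  let F : {z : Sylow 3 G × Sylow 3 G // z.1 ≠ z.2} →
      Σ T : X, {w : Sylow 3 (normalizer ((T.1 : Subgroup G) : Set G)) ×
        Sylow 3 (normalizer ((T.1 : Subgroup G) : Set G)) // w.1 ≠ w.2} := fun z =>
    have e := exists_two hG h z.2 (hall _ _ z.2)
    ⟨⟨e.choose, e.choose_spec.1.2⟩, ⟨⟨e.choose_spec.2.choose, e.choose_spec.2.choose_spec.choose⟩,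
      e.choose_spec.2.choose_spec.choose_spec.1⟩⟩
  have hF : Function.Injective F := by
    rintro ⟨⟨P, Q⟩, hPQ⟩ ⟨⟨P', Q'⟩, hPQ'⟩ he
    have h1 := (exists_two hG h hPQ (hall _ _ hPQ)).choose_spec.2.choose_spec.choose_spec
    have h2 := (exists_two hG h hPQ' (hall _ _ hPQ')).choose_spec.2.choose_spec.choose_spec
    let up : (Σ T : X, {w : Sylow 3 (normalizer ((T.1 : Subgroup G) : Set G)) ×
        Sylow 3 (normalizer ((T.1 : Subgroup G) : Set G)) // w.1 ≠ w.2}) → Set (Sylow 3 G × Sylow 3 G) :=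
      fun s => {z | (s.2.1.1 : Subgroup _).map (normalizer ((s.1.1 : Subgroup G) : Set G)).subtype ≤
          (z.1 : Subgroup G) ∧
        (s.2.1.2 : Subgroup _).map (normalizer ((s.1.1 : Subgroup G) : Set G)).subtype ≤
          (z.2 : Subgroup G)}
    have m1 : (P, Q) ∈ up (F ⟨(P, Q), hPQ⟩) := h1.2.2
    have m2 : (P', Q') ∈ up (F ⟨(P', Q'), hPQ'⟩) := h2.2.2
    rw [← he] at m2
    apply Subtype.ext
    obtain ⟨R₁, -, hu₁⟩ := h1.2.1 (F ⟨(P, Q), hPQ⟩).2.1.1
    obtain ⟨R₂, -, hu₂⟩ := h1.2.1 (F ⟨(P, Q), hPQ⟩).2.1.2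
    exact Prod.ext ((hu₁ P m1.1).trans (hu₁ P' m2.1).symm) ((hu₂ Q m1.2).trans (hu₂ Q' m2.2).symm)
  have hT21 : Nat.card (Sylow 2 G) = 21 := by
    obtain ⟨T, ⟨hT36, -⟩, -⟩ := exists_two hG h hne₀ hmeet₀
    have hm := card_normalizer_mul_card_sylow T
    rw [hT36, h] at hm
    omega
  have hle := Nat.card_le_card_of_injective F hF
  have : Fintype (Sylow 3 G) := Fintype.ofFinite _
  have : Fintype X := Fintype.ofFinite _
  have hoff : ∀ (A : Type _) [Finite A], Nat.card {w : A × A // w.1 ≠ w.2} = Nat.card A * (Nat.card A - 1) := by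
    intro A _
    classical
    have : Fintype A := Fintype.ofFinite A
    rw [Nat.card_eq_fintype_card, Nat.card_eq_fintype_card, Fintype.card_subtype,
      show (Finset.univ.filter fun w : A × A => w.1 ≠ w.2) = (Finset.univ : Finset A).offDiag by
        ext w; simp, Finset.offDiag_card, Finset.card_univ, Nat.mul_sub_one]
  rw [Nat.card_sigma, hoff, hn3, Finset.sum_congr rfl (fun T _ => by rw [hoff, T.2]),
    Finset.sum_const, Finset.card_univ, ← Nat.card_eq_fintype_card, smul_eq_mul] at hle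
  have hX : Nat.card X ≤ 21 := hT21 ▸ Nat.card_le_card_of_injective _ Subtype.val_injective
  have := Nat.mul_le_mul_right (4 * (4 - 1)) hX
  omega

end Cfsg.Agent.SmallOrders.O756
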