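-- The orders up to 1092 of non-abelian simple groups.
--
-- * `mem_orders`
import Cfsg.Agent.Lib.SmallOrders.Check2
import Cfsg.Agent.Lib.SmallOrders.Orders.O612
import Cfsg.Agent.Lib.SmallOrders.Orders.O720
import Cfsg.Agent.Lib.SmallOrders.Orders.O756
import Cfsg.Agent.Lib.SmallOrders.Orders.O1008
import Cfsg.Agent.Lib.SmallOrders.Orders.O1040
import Cfsg.Agent.Lib.SmallOrders.Orders.O1080
import Cfsg.Agent.Lib.CharApp.Burnside

set_option autoImplicit false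

namespace Cfsg.Agent.SmallOrders.Below1092

/-- witnesses `(p, e)` for `n = 2, 3, …` -/
def witness : List (ℕ × ℕ) :=
  [
    (2, 1), (3, 1), (2, 2), (5, 1), (2, 1), (7, 1), (2, 3), (3, 2), (2, 1), (11, 1), (2, 2),
    (13, 1), (2, 1), (3, 1), (2, 4), (17, 1), (2, 1), (19, 1), (2, 2), (3, 1), (2, 1), (23, 1),
    (2, 3), (5, 2), (2, 1), (3, 3), (2, 2), (29, 1), (2, 1), (31, 1), (2, 5), (3, 1), (2, 1),
    (5, 1), (2, 2), (37, 1), (2, 1), (3, 1), (2, 3), (41, 1), (2, 1), (43, 1), (2, 2), (3, 2),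
    (2, 1), (47, 1), (2, 4), (7, 2), (2, 1), (3, 1), (2, 2), (53, 1), (2, 1), (5, 1), (2, 3),
    (3, 1), (2, 1), (59, 1), (2, 1), (61, 1), (2, 1), (3, 2), (2, 6), (5, 1), (2, 1), (67, 1),
    (2, 2), (3, 1), (2, 1), (71, 1), (3, 2), (73, 1), (2, 1), (3, 1), (2, 2), (7, 1), (2, 1),
    (79, 1), (2, 4), (3, 4), (2, 1), (83, 1), (7, 1), (5, 1), (2, 1), (3, 1), (2, 3), (89, 1),
    (2, 1), (7, 1), (2, 2), (3, 1), (2, 1), (5, 1), (2, 5), (97, 1), (2, 1), (3, 2), (2, 2),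
    (101, 1), (2, 1), (103, 1), (13, 1), (3, 1), (2, 1), (107, 1), (3, 3), (109, 1), (2, 1),
    (3, 1), (2, 4), (113, 1), (2, 1), (5, 1), (2, 2), (3, 2), (2, 1), (7, 1), (2, 3), (11, 2),
    (2, 1), (3, 1), (2, 2), (5, 3), (2, 1), (127, 1), (2, 7), (3, 1), (2, 1), (131, 1), (11, 1),
    (7, 1), (2, 1), (3, 3), (17, 1), (137, 1), (2, 1), (139, 1), (2, 2), (3, 1), (2, 1), (11, 1),
    (3, 2), (5, 1), (2, 1), (3, 1), (2, 2), (149, 1), (2, 1), (151, 1), (2, 3), (3, 2), (2, 1),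
    (5, 1), (13, 1), (157, 1), (2, 1), (3, 1), (2, 5), (7, 1), (2, 1), (163, 1), (2, 2), (3, 1),
    (2, 1), (167, 1), (2, 1), (13, 2), (2, 1), (3, 2), (2, 2), (173, 1), (2, 1), (5, 2), (2, 4),
    (3, 1), (2, 1), (179, 1), (5, 1), (181, 1), (2, 1), (3, 1), (2, 3), (5, 1), (2, 1), (11, 1),
    (2, 2), (3, 3), (2, 1), (191, 1), (2, 6), (193, 1), (2, 1), (3, 1), (2, 2), (197, 1), (2, 1),
    (199, 1), (5, 2), (3, 1), (2, 1), (7, 1), (17, 1), (5, 1), (2, 1), (3, 2), (13, 1), (11, 1),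
    (2, 1), (211, 1), (2, 2), (3, 1), (2, 1), (5, 1), (3, 3), (7, 1), (2, 1), (3, 1), (2, 2),
    (13, 1), (2, 1), (223, 1), (2, 5), (3, 2), (2, 1), (227, 1), (19, 1), (229, 1), (2, 1), (3, 1),
    (29, 1), (233, 1), (2, 1), (5, 1), (2, 2), (3, 1), (2, 1), (239, 1), (2, 4), (241, 1), (2, 1),
    (3, 5), (2, 2), (5, 1), (2, 1), (13, 1), (2, 3), (3, 1), (2, 1), (251, 1), (7, 1), (11, 1),
    (2, 1), (3, 1), (2, 8), (257, 1), (2, 1), (7, 1), (2, 2), (3, 2), (2, 1), (263, 1), (11, 1),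
    (5, 1), (2, 1), (3, 1), (2, 2), (269, 1), (2, 1), (271, 1), (17, 1), (3, 1), (2, 1), (5, 2),
    (23, 1), (277, 1), (2, 1), (3, 2), (5, 1), (281, 1), (2, 1), (283, 1), (2, 2), (3, 1), (2, 1),
    (7, 1), (2, 1), (17, 2), (2, 1), (3, 1), (2, 2), (293, 1), (2, 1), (5, 1), (37, 1), (3, 3),
    (2, 1), (13, 1), (5, 2), (7, 1), (2, 1), (3, 1), (2, 4), (5, 1), (2, 1), (307, 1), (2, 2),
    (3, 1), (2, 1), (311, 1), (13, 1), (313, 1), (2, 1), (3, 2), (2, 2), (317, 1), (2, 1), (11, 1),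
    (2, 6), (3, 1), (2, 1), (17, 1), (3, 4), (5, 2), (2, 1), (3, 1), (41, 1), (7, 1), (2, 1),
    (331, 1), (2, 2), (3, 2), (2, 1), (5, 1), (7, 1), (337, 1), (2, 1), (3, 1), (2, 2), (11, 1),
    (2, 1), (7, 3), (2, 3), (3, 1), (2, 1), (347, 1), (29, 1), (349, 1), (2, 1), (3, 3), (2, 5),
    (353, 1), (2, 1), (5, 1), (2, 2), (3, 1), (2, 1), (359, 1), (2, 1), (19, 2), (2, 1), (3, 1),
    (2, 2), (5, 1), (2, 1), (367, 1), (2, 4), (3, 2), (2, 1), (7, 1), (31, 1), (373, 1), (2, 1),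
    (3, 1), (2, 3), (13, 1), (2, 1), (379, 1), (2, 2), (3, 1), (2, 1), (383, 1), (2, 7), (5, 1),
    (2, 1), (3, 2), (2, 2), (389, 1), (2, 1), (17, 1), (7, 2), (3, 1), (2, 1), (5, 1), (11, 1),
    (397, 1), (2, 1), (3, 1), (5, 2), (401, 1), (2, 1), (13, 1), (2, 2), (3, 4), (2, 1), (11, 1),
    (17, 1), (409, 1), (2, 1), (3, 1), (2, 2), (7, 1), (2, 1), (5, 1), (13, 1), (3, 1), (2, 1),
    (419, 1), (2, 1), (421, 1), (2, 1), (3, 2), (53, 1), (5, 2), (2, 1), (7, 1), (2, 2), (3, 1),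
    (2, 1), (431, 1), (3, 3), (433, 1), (2, 1), (3, 1), (2, 2), (19, 1), (2, 1), (439, 1), (11, 1),
    (3, 2), (2, 1), (443, 1), (37, 1), (5, 1), (2, 1), (3, 1), (2, 6), (449, 1), (2, 1), (11, 1),
    (2, 2), (3, 1), (2, 1), (5, 1), (19, 1), (457, 1), (2, 1), (3, 3), (2, 2), (461, 1), (2, 1),
    (463, 1), (29, 1), (3, 1), (2, 1), (467, 1), (13, 1), (7, 1), (2, 1), (3, 1), (2, 3), (11, 1),
    (2, 1), (5, 2), (2, 2), (3, 2), (2, 1), (479, 1), (2, 5), (13, 1), (2, 1), (3, 1), (2, 2),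
    (5, 1), (2, 1), (487, 1), (61, 1), (3, 1), (2, 1), (491, 1), (41, 1), (17, 1), (2, 1), (3, 2),
    (2, 4), (7, 1), (2, 1), (499, 1), (2, 2), (3, 1), (2, 1), (503, 1), (2, 1), (5, 1), (2, 1),
    (3, 1), (2, 2), (509, 1), (2, 1), (7, 1), (2, 9), (19, 1), (2, 1), (5, 1), (43, 1), (11, 1),
    (2, 1), (3, 1), (13, 1), (521, 1), (2, 1), (523, 1), (2, 2), (3, 1), (2, 1), (17, 1), (11, 1),
    (23, 2), (2, 1), (3, 2), (2, 2), (13, 1), (2, 1), (5, 1), (2, 3), (3, 1), (2, 1), (7, 2),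
    (5, 1), (541, 1), (2, 1), (3, 1), (17, 1), (5, 1), (2, 1), (547, 1), (2, 2), (3, 2), (2, 1),
    (19, 1), (23, 1), (7, 1), (2, 1), (3, 1), (2, 2), (557, 1), (2, 1), (13, 1), (2, 4), (3, 1),
    (2, 1), (563, 1), (47, 1), (5, 1), (2, 1), (3, 4), (2, 3), (569, 1), (2, 1), (571, 1), (2, 2),
    (3, 1), (2, 1), (5, 2), (2, 1), (577, 1), (2, 1), (3, 1), (2, 2), (7, 1), (2, 1), (11, 1),
    (73, 1), (3, 2), (2, 1), (587, 1), (7, 2), (19, 1), (2, 1), (3, 1), (37, 1), (593, 1), (2, 1),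
    (5, 1), (2, 2), (3, 1), (2, 1), (599, 1), (5, 2), (601, 1), (2, 1), (3, 2), (2, 2), (5, 1),
    (2, 1), (607, 1), (2, 5), (3, 1), (2, 1), (13, 1), (2, 1), (613, 1), (2, 1), (3, 1), (11, 1),
    (617, 1), (2, 1), (619, 1), (2, 2), (3, 3), (2, 1), (7, 1), (13, 1), (5, 4), (2, 1), (3, 1),
    (2, 2), (17, 1), (2, 1), (631, 1), (2, 3), (3, 1), (2, 1), (5, 1), (53, 1), (7, 2), (2, 1),
    (3, 2), (2, 7), (641, 1), (2, 1), (643, 1), (2, 2), (3, 1), (2, 1), (647, 1), (3, 4), (11, 1),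
    (2, 1), (3, 1), (2, 2), (653, 1), (2, 1), (5, 1), (41, 1), (3, 2), (2, 1), (659, 1), (2, 1),
    (661, 1), (2, 1), (3, 1), (2, 3), (5, 1), (2, 1), (23, 1), (2, 2), (3, 1), (2, 1), (11, 1),
    (7, 1), (673, 1), (2, 1), (3, 3), (2, 2), (677, 1), (2, 1), (7, 1), (5, 1), (3, 1), (2, 1),
    (683, 1), (19, 1), (5, 1), (2, 1), (3, 1), (2, 4), (13, 1), (2, 1), (691, 1), (2, 2), (3, 2),
    (2, 1), (5, 1), (29, 1), (17, 1), (2, 1), (3, 1), (2, 2), (701, 1), (2, 1), (19, 1), (2, 6),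
    (3, 1), (2, 1), (7, 1), (59, 1), (709, 1), (2, 1), (3, 2), (89, 1), (23, 1), (2, 1), (5, 1),
    (2, 2), (3, 1), (2, 1), (719, 1), (2, 1), (7, 1), (2, 1), (3, 1), (2, 2), (5, 2), (2, 1),
    (727, 1), (7, 1), (3, 6), (2, 1), (17, 1), (61, 1), (733, 1), (2, 1), (3, 1), (2, 5), (11, 1),
    (2, 1), (739, 1), (2, 2), (3, 1), (2, 1), (743, 1), (31, 1), (5, 1), (2, 1), (3, 2), (2, 2),
    (7, 1), (2, 1), (751, 1), (2, 4), (3, 1), (2, 1), (5, 1), (2, 1), (757, 1), (2, 1), (3, 1),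
    (19, 1), (761, 1), (2, 1), (7, 1), (2, 2), (3, 2), (2, 1), (13, 1), (2, 8), (769, 1), (2, 1),
    (3, 1), (2, 2), (773, 1), (2, 1), (5, 2), (97, 1), (3, 1), (2, 1), (19, 1), (13, 1), (11, 1),
    (2, 1), (3, 3), (7, 2), (5, 1), (2, 1), (787, 1), (2, 2), (3, 1), (2, 1), (7, 1), (11, 1),
    (13, 1), (2, 1), (3, 1), (2, 2), (797, 1), (2, 1), (17, 1), (5, 2), (3, 2), (2, 1), (11, 1),
    (67, 1), (5, 1), (2, 1), (3, 1), (101, 1), (809, 1), (2, 1), (811, 1), (2, 2), (3, 1), (2, 1),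
    (5, 1), (17, 1), (19, 1), (2, 1), (3, 2), (2, 2), (821, 1), (2, 1), (823, 1), (2, 3), (3, 1),
    (2, 1), (827, 1), (23, 1), (829, 1), (2, 1), (3, 1), (13, 1), (7, 2), (2, 1), (5, 1), (2, 2),
    (3, 3), (2, 1), (839, 1), (2, 1), (29, 2), (2, 1), (3, 1), (2, 2), (5, 1), (2, 1), (7, 1),
    (53, 1), (3, 1), (2, 1), (23, 1), (71, 1), (853, 1), (2, 1), (3, 2), (2, 3), (857, 1), (2, 1),
    (859, 1), (2, 2), (3, 1), (2, 1), (863, 1), (3, 3), (5, 1), (2, 1), (3, 1), (2, 2), (11, 1),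
    (2, 1), (13, 1), (109, 1), (3, 2), (2, 1), (5, 3), (73, 1), (877, 1), (2, 1), (3, 1), (11, 1),
    (881, 1), (2, 1), (883, 1), (2, 2), (3, 1), (2, 1), (887, 1), (37, 1), (7, 1), (2, 1), (3, 4),
    (2, 2), (19, 1), (2, 1), (5, 1), (2, 7), (3, 1), (2, 1), (29, 1), (5, 2), (17, 1), (2, 1),
    (3, 1), (113, 1), (5, 1), (2, 1), (907, 1), (2, 2), (3, 2), (2, 1), (911, 1), (19, 1), (11, 1),
    (2, 1), (3, 1), (2, 2), (7, 1), (2, 1), (919, 1), (23, 1), (3, 1), (2, 1), (13, 1), (11, 1),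
    (5, 2), (2, 1), (3, 2), (29, 1), (929, 1), (2, 1), (7, 2), (2, 2), (3, 1), (2, 1), (5, 1),
    (13, 1), (937, 1), (2, 1), (3, 1), (2, 2), (941, 1), (2, 1), (23, 1), (2, 4), (3, 3), (2, 1),
    (947, 1), (79, 1), (13, 1), (2, 1), (3, 1), (7, 1), (953, 1), (2, 1), (5, 1), (2, 2), (3, 1),
    (2, 1), (7, 1), (2, 6), (31, 2), (2, 1), (3, 2), (2, 2), (5, 1), (2, 1), (967, 1), (11, 2),
    (3, 1), (2, 1), (971, 1), (3, 5), (7, 1), (2, 1), (3, 1), (61, 1), (977, 1), (2, 1), (11, 1),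
    (2, 2), (3, 2), (2, 1), (983, 1), (41, 1), (5, 1), (2, 1), (3, 1), (2, 2), (23, 1), (2, 1),
    (991, 1), (2, 5), (3, 1), (2, 1), (5, 1), (83, 1), (997, 1), (2, 1), (37, 1), (5, 3), (7, 1),
    (2, 1), (17, 1), (2, 2), (3, 1), (2, 1), (19, 1), (2, 1), (1009, 1), (2, 1), (3, 1), (2, 2),
    (1013, 1), (2, 1), (5, 1), (2, 3), (3, 2), (2, 1), (1019, 1), (17, 1), (1021, 1), (2, 1),
    (3, 1), (2, 10), (5, 2), (2, 1), (13, 1), (2, 2), (3, 1), (2, 1), (1031, 1), (43, 1),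
    (1033, 1), (2, 1), (3, 2), (2, 2), (17, 1), (2, 1), (1039, 1), (2, 1), (3, 1), (2, 1), (7, 1),
    (29, 1), (5, 1), (2, 1), (3, 1), (2, 3), (1049, 1), (2, 1), (1051, 1), (2, 2), (3, 4), (2, 1),
    (5, 1), (11, 1), (7, 1), (2, 1), (3, 1), (2, 2), (1061, 1), (2, 1), (1063, 1), (7, 1), (3, 1),
    (2, 1), (11, 1), (89, 1), (1069, 1), (2, 1), (3, 2), (2, 4), (29, 1), (2, 1), (5, 2), (2, 2),
    (3, 1), (2, 1), (13, 1), (2, 1), (23, 1), (2, 1), (3, 1), (2, 2), (5, 1), (2, 1), (1087, 1),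
    (17, 1), (3, 2), (2, 1), (1091, 1), (2, 1)]

/-- the orders left by the counting criteria -/
def exceptions : List ℕ :=
  [60, 168, 288, 360, 420, 504, 576, 612, 660, 720, 756, 840, 1008, 1040, 1080, 1092]

theorem cover : coverBool 2 witness exceptions = true := by decide +kernel

variable {G : Type*} [Group G] [Finite G] [IsSimpleGroup G]

theorem not_prime_pow_mul (hG : ¬ IsMulCommutative G) {a b : ℕ} :
    Nat.card G ≠ 2 ^ a * 3 ^ b := by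
  intro h
  have := Cfsg.Agent.CharApp.isSolvable_of_card_eq_prime_pow_mul 2 3 Nat.prime_two Nat.prime_three
    _ G rfl a b h
  exact hG ⟨⟨IsSimpleGroup.comm_iff_isSolvable.mpr this⟩⟩

theorem mem_orders (hG : ¬ IsMulCommutative G) (h : Nat.card G ≤ 1092) :
    Nat.card G ∈ [60, 168, 360, 504, 660, 1092] := by
  have hmem := mem_of_coverBool hG witness 2 exceptions cover two_le_card
    (by rw [show witness.length = 1091 by decide +kernel]; omega)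
  have h288 := not_prime_pow_mul hG (a := 5) (b := 2)
  have h576 := not_prime_pow_mul hG (a := 6) (b := 2)
  have h420 := card_ne_of_critBool2 hG (n := 420) 7 1 (by decide +kernel)
  have h840 := card_ne_of_critBool2 hG (n := 840) 7 1 (by decide +kernel)
  have h612 := O612.card_ne hG
  have h720 := O720.card_ne hG
  have h756 := O756.card_ne hG
  have h1008 := O1008.card_ne hG
  have h1040 := O1040.card_ne hG
  have h1080 := O1080.card_ne hG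
  simp only [exceptions, List.mem_cons, List.mem_nil_iff, or_false] at hmem ⊢
  omega

end Cfsg.Agent.SmallOrders.Below1092
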