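-- No simple group has order 459648 = 2^7 * 3^3 * 7 * 19.
--
-- * `modEq_of_commute`: values on a `p`-regular element of `C(x)` are the signs modulo `p`
-- * `card_ne`: through the principal 19-block and an involution centralising an element of order 19
import Cfsg.Agent.Lib.SmallOrders.BlockDegrees.Criterion
import Cfsg.Agent.Lib.SmallOrders.BlockDegrees.ValueFormula
import Cfsg.Agent.Lib.CentralChar.Congr
import Cfsg.Agent.Lib.SmallOrders.Centralizer

set_option autoImplicit false

namespace Cfsg.Agent.SmallOrders.S459648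

open Subgroup BlockDegrees Cfsg Cfsg.Agent.CyclicDefect Cfsg.Agent.Blocks

variable {G : Type*} [Group G] [Finite G]

/-- `χ(z) ≡ s (mod p)` when `χ(x z) = s = ±1` and `z` is `p`-regular in `C(x)` -/
theorem modEq_of_commute {p : ℕ} [Fact p.Prime] (hodd : p ≠ 2) {χ : G → ℂ} (hχ : IsCharacter G χ)
    {x z : G} (hx : orderOf x = p) (hc : Commute x z) (hz : z ^ p = z) {s u : ℤ} (hs : s = 1 ∨ s = -1)
    (hxz : χ (x * z) = s) (hu : χ z = u) : s ≡ u [ZMOD p] := by
  obtain ⟨M, hM⟩ := CentralChar.exists_pModular p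
  have h := CentralChar.memI_frobenius hM 1 hχ (x * z)
  have hpow : (x * z) ^ p = z := by
    rw [hc.mul_pow, hz, ← hx, pow_orderOf_eq_one, one_mul]
  rw [pow_one, hpow, hxz, hu] at h
  have hsp : (s : ℂ) ^ p = s := by
    obtain ⟨m, hm⟩ := (Fact.out : p.Prime).odd_of_ne_two hodd
    rcases hs with e | e
    · simp [e]
    · subst hm; simp [e, pow_succ, pow_mul]
  rw [hsp] at h
  exact intModEq_of_memI hM h

/-- one entry from each list -/
def choices : List (List ℤ) → List (List ℤ)
  | [] => [[]]
  | l :: ls => l.flatMap fun a => (choices ls).map (a :: ·)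

theorem mem_choices {α : Type*} {f : α → List ℤ} {g : α → ℤ} : ∀ (L : List α),
    (∀ q ∈ L, g q ∈ f q) → L.map g ∈ choices (L.map f)
  | [], _ => by simp [choices]
  | a :: L, h => by
    simp only [List.map_cons, choices, List.mem_flatMap, List.mem_map]
    exact ⟨g a, h a List.mem_cons_self, _, mem_choices L fun q hq => h q (List.mem_cons_of_mem _ hq), rfl⟩

/-- centraliser orders of index at least nineteen -/
def orders : List ℕ :=
  ((List.range 319).map (· * 76)).filter fun C => decide (C ∣ 459648) && decide (C * 19 ≤ 459648)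

/-- no values on a central involution of the centraliser -/
def check : Bool :=
  (degSols 459648 19 6 3 38 (degCand 459648 19 38 679) 5 1 1).all fun l =>
    (choices (l.map fun x => (vCand x).filter fun v => decide (v % 19 = 1))).all fun us =>
      finalVal 459648 19 3 4 false orders (1 + l.sum) (1 + us.sum)
        (459648 + ((l.zip us).map fun q => q.2 ^ 2 * (459648 / q.1)).sum)
        (1 + (us.map fun v => v.natAbs ^ 2).sum)

theorem check_true : check = true := by decide +kernel

theorem card_ne [IsSimpleGroup G] : Nat.card G ≠ 459648 := by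
  intro h
  classical
  have hG : ¬ IsMulCommutative G := not_isMulCommutative_of_card (by rw [h]; norm_num)
  have : Fact (Nat.Prime 19) := ⟨by norm_num⟩
  have : Fact (Nat.Prime 2) := ⟨Nat.prime_two⟩
  obtain ⟨x, j, hmem, hx, hN, hC⟩ := mem_of_blockBool hG h 19 679 [(1008, 6)] (by decide +kernel)
  simp only [List.mem_singleton, Prod.mk.injEq] at hmem
  obtain ⟨hd, rfl⟩ := hmem
  rw [hd] at hN
  have hN' : Nat.card (normalizer (zpowers x : Set G)) = 19 * 4 * 6 := by omega
  have hC' : Nat.card (centralizer ({x} : Set G)) = 19 * 4 := by omega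
  obtain ⟨z₀, hz₀⟩ := exists_prime_orderOf_dvd_card' (G := centralizer ({x} : Set G)) 2
    (by rw [hC']; norm_num)
  set z : G := (z₀ : G) with hzdef
  have hz : orderOf z = 2 := by rw [hzdef, orderOf_coe, hz₀]
  have hxz : Commute x z := (mem_centralizer_singleton_iff.mp z₀.2).symm
  obtain ⟨L, A, E, σ, ε, χe, u, hS, hcK, hD, hχe, hu, hEd, hval, -⟩ :=
    exists_valData (c := 4) (e := 6) (lo := 38) hG (by norm_num) hx (by rw [h]; norm_num) hC' hN'
      (Or.inr ⟨by norm_num, by norm_num⟩) hz
  rw [h] at hval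
  obtain ⟨⟨hcard, hX, hy1, hy2, hy3, hsum, hsq⟩, hP, hw1, hw2, hvsq, k, hpk, hk, -, hform⟩ := hval
  set y := ε * (charDegree (χe : G → ℂ) : ℤ)
  set P := A.val.map fun χ => (σ χ * (charDegree (χ : G → ℂ) : ℤ), σ χ * u χ) with hPdef
  set C := Nat.card (centralizer ({z} : Set G)) with hCdef
  -- the values are one modulo nineteen
  have hz19 : z ^ 19 = z := by
    rw [show 19 = 2 * 9 + 1 from rfl, pow_succ, pow_mul, ← hz, pow_orderOf_eq_one, one_pow, one_mul]
  obtain ⟨k₀, hk₀⟩ := hS.exists_K_of_regular hxz (by rw [hz]; norm_num)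
  have hmod : ∀ q ∈ P, q.2 % 19 = 1 := by
    intro q hq
    obtain ⟨χ, hχ, rfl⟩ := Multiset.mem_map.mp hq
    have h1 := modEq_of_commute (by norm_num) (Char.IsIrrCharacter.isCharacter χ.2) hx hxz hz19
      (hD.sign χ hχ) (by rw [hk₀]; exact hD.valA χ hχ k₀) (hu χ)
    show σ χ * u χ % 19 = 1
    have h2 : u χ % 19 = σ χ % 19 := h1.symm
    rcases hD.sign χ hχ with e | e <;> rw [e] at h2 ⊢ <;> omega
  -- the degree list
  have hmemX : ∀ a ∈ P.map Prod.fst, a ∈ degCand 459648 19 38 679 := by
    intro a ha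
    obtain ⟨h1, h2, h3⟩ := hX a ha
    have hlt : a.natAbs < 679 := by
      have : a.natAbs ^ 2 ≤ ((P.map Prod.fst).map fun z => z.natAbs ^ 2).sum :=
        Multiset.le_sum_of_mem (Multiset.mem_map_of_mem (fun z : ℤ => z.natAbs ^ 2) ha)
      have h4 : a.natAbs * a.natAbs < 679 * 679 := by rw [← pow_two]; omega
      exact Nat.mul_self_lt_mul_self_iff.mp h4
    refine List.mem_flatMap.mpr ⟨a.natAbs, List.mem_range.mpr hlt, ?_⟩
    rw [if_pos ⟨h1, h2⟩, List.mem_append]
    rcases Int.natAbs_eq a with e' | e'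
    · left; rw [← e', if_pos h3]; exact List.mem_singleton.mpr rfl
    · right
      rw [show -((a.natAbs : ℕ) : ℤ) = a from e'.symm, if_pos h3]
      exact List.mem_singleton.mpr rfl
  obtain ⟨l₀, hl₀, hlX⟩ := degSols_complete (n := 459648) (p := 19) (e := 6) (t := (19 - 1) / 6) (lo := 38)
    _ 5 1 1 _ (by omega) hmemX (by
      simp only [finalBool, Bool.and_eq_true, decide_eq_true_eq]
      rw [hsum]
      exact ⟨⟨⟨hy1, hy2⟩, hy3⟩, hsq⟩)
  obtain ⟨l, hll, hlP⟩ := exists_aligned l₀ P hlX.symm
  subst hll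
  have hsum' : 1 + (l.map Prod.fst).sum = y := by rw [← hsum, ← hlP, Multiset.map_coe, Multiset.sum_coe]
  rw [← hlP] at hP hw1 hw2 hvsq hform hmod
  simp only [Multiset.map_coe, Multiset.sum_coe, Multiset.mem_coe] at hP hw1 hw2 hvsq hform hmod
  have hus : l.map Prod.snd ∈ choices ((l.map Prod.fst).map fun x =>
      (vCand x).filter fun v => decide (v % 19 = 1)) := by
    rw [List.map_map]
    refine mem_choices l fun q hq => ?_
    obtain ⟨h1, h2⟩ := hP q hq
    refine List.mem_filter.mpr ⟨List.mem_filter.mpr ⟨List.mem_map.mpr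
      ⟨(q.2 + (q.1.natAbs : ℤ)).toNat, List.mem_range.mpr (by omega), by omega⟩, ?_⟩,
      decide_eq_true (hmod q hq)⟩
    simp only [Bool.and_eq_true, decide_eq_true_eq]
    exact ⟨h1, h2⟩
  -- the centraliser has index at least nineteen
  have hCd : C ∣ 459648 := h ▸ card_subgroup_dvd_card _
  have hC76 : 76 ∣ C := by
    have h1 := card_dvd_of_le (show zpowers x ≤ centralizer ({z} : Set G) from
      zpowers_le.mpr (mem_centralizer_singleton_iff.mpr hxz.eq))
    rw [Nat.card_zpowers, hx, ← hCdef] at h1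
    have h4 : 4 ∣ C := by
      have hcomm : centralizer ({x} : Set G) ≤ centralizer ({z} : Set G) := by
        intro g hg
        obtain ⟨i, kg, rfl⟩ := hS.decomp (mem_centralizer_singleton_iff.mp hg).symm
        have hK : ∀ a b : K x L, a * b = b * a := fun a b =>
          (IsPGroup.isMulCommutative_of_card_eq_prime_sq (p := 2) (G := K x L) (by rw [hcK]; norm_num)).is_comm.comm a b
        refine mem_centralizer_singleton_iff.mpr (Commute.eq ?_)
        refine (hS.commute_pw i hxz).mul_left ?_
        rw [hk₀]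
        show ((kg : L) : G) * ((k₀ : L) : G) = ((k₀ : L) : G) * ((kg : L) : G)
        exact congrArg (fun a : K x L => ((a : L) : G)) (hK kg k₀)
      exact (dvd_mul_left 4 19).trans (hC' ▸ card_dvd_of_le hcomm)
    exact Nat.Coprime.mul_dvd_of_dvd_of_dvd (by norm_num : Nat.Coprime 19 4) h1 h4
  have hne : centralizer ({z} : Set G) ≠ ⊤ := fun e => by
    have hzc : z ∈ center G := mem_center_iff.mpr fun g =>
      (mem_centralizer_singleton_iff.mp (e ▸ mem_top g : g ∈ centralizer ({z} : Set G)))
    rw [center_eq_bot hG, mem_bot] at hzc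
    rw [hzc, orderOf_one] at hz
    norm_num at hz
  have hidx : C * 19 ≤ 459648 := by
    have h1 := (centralizer ({z} : Set G)).card_mul_index
    rw [h, ← hCdef] at h1
    by_contra hlt
    have h2 : (centralizer ({z} : Set G)).index ≤ 18 := by
      by_contra h3
      have := Nat.mul_le_mul_left C (show 19 ≤ (centralizer ({z} : Set G)).index by omega)
      omega
    have h3 := ((two_mul_card_dvd_factorial_index hG hne).trans (Nat.factorial_dvd_factorial h2))
    rw [h] at h3
    norm_num [Nat.factorial] at h3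
  have hmemC : C ∈ orders := by
    obtain ⟨i, hi⟩ := hC76
    refine List.mem_filter.mpr ⟨List.mem_map.mpr ⟨i, List.mem_range.mpr (by omega), by omega⟩, ?_⟩
    simp only [Bool.and_eq_true, decide_eq_true_eq]
    exact ⟨hCd, hidx⟩
  have hchk := check_true
  simp only [check, List.all_eq_true] at hchk
  have h1 := hchk _ hl₀ _ hus
  rw [hsum', List.zip_map', List.map_map, List.map_map] at h1
  simp only [finalVal, Bool.or_eq_true, Bool.and_eq_true, decide_eq_true_eq, List.all_eq_true] at h1
  rcases h1 with (h2 | h2) | h2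
  · omega
  · exact h2 hw2
  have h3 := h2 C hmemC
  simp only [Function.comp_def, Nat.cast_ofNat] at h3 hvsq hform
  rw [hform] at h3
  rcases h3 with (((h' | h') | h') | h') | ⟨h', -⟩
  · omega
  · obtain ⟨i, rfl⟩ := hpk
    exact h' (Int.emod_eq_zero_of_dvd ⟨(i : ℤ), by push_cast; ring⟩)
  · exact absurd h' (not_lt.mpr (mul_nonneg (Int.natCast_nonneg k) (sq_nonneg _)))
  · refine absurd h' (not_lt.mpr ?_)
    have hk' := Nat.mul_le_mul_right (C ^ 2) hk
    rw [pow_two] at hk' ⊢
    exact_mod_cast hk'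
  · exact absurd h' (by simp)

end Cfsg.Agent.SmallOrders.S459648
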